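import Cfsg.Agent.Lib.Cent4.Q2

/-!
# The case where both parts of the odd core are nontrivial
-/

set_option autoImplicit false
set_option linter.unusedSectionVars false
set_option linter.style.haveILetI false
set_option linter.unusedVariables false

namespace Cfsg.Agent.Lib.Cent4

open Cfsg Subgroup
open Cfsg.Agent.Lib.V4Block Cfsg.Agent.Lib.DihBlock

universe u

variable {G : Type u} [Group G] [Fintype G]

/-- The join of the odd cores of three involutions. -/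
def XX (u₁ u₂ u₃ : G) : Subgroup G := O u₁ ⊔ O u₂ ⊔ O u₃

theorem le_XX₁ (u₁ u₂ u₃ : G) : O u₁ ≤ XX u₁ u₂ u₃ := le_sup_of_le_left le_sup_left
theorem le_XX₂ (u₁ u₂ u₃ : G) : O u₂ ≤ XX u₁ u₂ u₃ := le_sup_of_le_left le_sup_right
theorem le_XX₃ (u₁ u₂ u₃ : G) : O u₃ ≤ XX u₁ u₂ u₃ := le_sup_right

/-- In a finite group, a conjugation stable subgroup is normalized. -/
theorem mem_normalizer_of_conj {X : Subgroup G} {g : G} (h : ∀ y ∈ X, g * y * g⁻¹ ∈ X) :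
    g ∈ normalizer (X : Set G) := by
  rw [Subgroup.mem_normalizer_iff]
  intro y
  refine ⟨h y, fun hy => ?_⟩
  let f : X → X := fun a => ⟨g * a * g⁻¹, h a a.2⟩
  have hf : Function.Injective f := by
    intro a b hab
    have h1 : g * (a : G) * g⁻¹ = g * b * g⁻¹ := congrArg Subtype.val hab
    apply Subtype.ext
    simpa using h1
  obtain ⟨⟨w, hw⟩, hwf⟩ := (Finite.injective_iff_surjective.mp hf) ⟨g * y * g⁻¹, hy⟩
  have h2 : g * w * g⁻¹ = g * y * g⁻¹ := congrArg Subtype.val hwf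
  have h3 : w = y := by simpa using h2
  rwa [← h3]

namespace Hyp

variable {P : Sylow 2 G} {x t : G}

/-- Multiplying by `z` does not change the fixed points in the odd core. -/
theorem AA_z_mul (H : Hyp P x t) (u : G) : AA x (x ^ 2 * u) = AA x u := by
  ext y
  rw [mem_AA, mem_AA]
  refine and_congr_right fun hy => ?_
  have hz : Commute y (x ^ 2) := (H.mem_O_z.mp hy).1
  constructor
  · intro h
    have h1 : Commute y ((x ^ 2)⁻¹ * (x ^ 2 * u)) := hz.inv_right.mul_right h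
    simpa using h1
  · intro h
    exact hz.mul_right h

/-- The decomposition of the odd core. -/
theorem decomp_O (H : Hyp P x t) {y : G} (hy : y ∈ O (x ^ 2)) :
    ∃ u ∈ AA x t, ∃ v ∈ AA x (x * t), y = u * v := by
  have htz := H.comm_tz
  have hn : ∀ a ∈ O (x ^ 2), t * a * t⁻¹ ∈ O (x ^ 2) := by
    intro a ha
    have := H.conj_mem_O H.zo t ha
    rwa [htz.eq, mul_assoc, mul_inv_cancel, mul_one] at this
  obtain ⟨k, hk⟩ := exists_sq_pow (H.mem_O_z.mp hy).2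
  set y' := t * y * t⁻¹ with hy'
  have hy'O : y' ∈ O (x ^ 2) := hn y hy
  set u := y * y' with hu
  set v := y * y'⁻¹ with hv
  have huO : u ∈ O (x ^ 2) := (O (x ^ 2)).mul_mem hy hy'O
  have hvO : v ∈ O (x ^ 2) := (O (x ^ 2)).mul_mem hy ((O (x ^ 2)).inv_mem hy'O)
  have hty' : t * y' * t⁻¹ = y := by
    rw [hy']
    calc t * (t * y * t⁻¹) * t⁻¹ = (t * t) * y * (t * t)⁻¹ := by group
      _ = y := by rw [H.tt]; group
  have hcomm : y * y' = y' * y := H.comm_O_z hy hy'O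
  have huA : u ∈ AA x t := by
    refine mem_AA.mpr ⟨huO, ?_⟩
    show u * t = t * u
    have h1 : t * u * t⁻¹ = u := by
      rw [hu]
      calc t * (y * y') * t⁻¹ = (t * y * t⁻¹) * (t * y' * t⁻¹) := by group
        _ = y' * y := by rw [hty']
        _ = y * y' := hcomm.symm
    calc u * t = (t * u * t⁻¹) * t := by rw [h1]
      _ = t * u := by group
  have hvB : v ∈ AA x (x * t) := by
    refine mem_AA.mpr ⟨hvO, ?_⟩
    show v * (x * t) = (x * t) * v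
    have h1 : t * v * t⁻¹ = v⁻¹ := by
      rw [hv]
      calc t * (y * y'⁻¹) * t⁻¹ = (t * y * t⁻¹) * (t * y' * t⁻¹)⁻¹ := by group
        _ = y' * y⁻¹ := by rw [hty']
        _ = (y * y'⁻¹)⁻¹ := by group
    have h2 : x * v⁻¹ * x⁻¹ = v := by
      have := H.inv_O ((O (x ^ 2)).inv_mem hvO)
      simpa using this
    have h3 : (x * t) * v * (x * t)⁻¹ = v := by
      calc (x * t) * v * (x * t)⁻¹ = x * (t * v * t⁻¹) * x⁻¹ := by group
        _ = x * v⁻¹ * x⁻¹ := by rw [h1]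
        _ = v := h2
    calc v * (x * t) = ((x * t) * v * (x * t)⁻¹) * (x * t) := by rw [h3]
      _ = _ := by group
  have huv : u * v = y * y := by
    rw [hu, hv]
    calc y * y' * (y * y'⁻¹) = y * (y' * y) * y'⁻¹ := by group
      _ = y * (y * y') * y'⁻¹ := by rw [hcomm]
      _ = y * y := by group
  have hcuv : Commute u v := H.comm_O_z huO hvO
  refine ⟨u ^ k, pow_mem huA k, v ^ k, pow_mem hvB k, ?_⟩
  rw [← hcuv.mul_pow, huv, hk]

theorem ord_xt (H : Hyp P x t) : orderOf (x * t) = 2 := H.swap.ctx.τo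

theorem ord_zt (H : Hyp P x t) : orderOf (x ^ 2 * t) = 2 := by
  rw [← H.conj_xt, orderOf_conj_eq, H.ctx.τo]

theorem ord_zxt (H : Hyp P x t) : orderOf (x ^ 2 * (x * t)) = 2 := H.swap.ord_zt

/-- The core of `C(z)` commutes with the core of `C(xt)`. -/
theorem comm_z_xt (H : Hyp P x t) (hab : Nat.card (AA x t) ≤ Nat.card (AA x (x * t))) {y w : G}
    (hy : y ∈ O (x ^ 2)) (hw : w ∈ O (x * t)) : Commute y w := by
  obtain ⟨u, hu, v, hv, rfl⟩ := H.decomp_O hy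
  refine Commute.mul_left ?_ ?_
  · by_cases h1 : u = 1
    · rw [h1]
      exact Commute.one_left w
    · exact (H.comm_of_le hu h1 hab hw).symm
  · obtain ⟨h2, h3⟩ := mem_AA.mp hv
    have h4 : v ∈ O (x * t) := (H.mem_O H.ord_xt).mpr ⟨h3, (H.mem_O_z.mp h2).2⟩
    exact H.comm_O H.ord_xt h4 hw

/-- The three cores commute pairwise. -/
theorem triple (H : Hyp P x t) (hab : Nat.card (AA x t) ≤ Nat.card (AA x (x * t))) :
    (∀ y ∈ O (x ^ 2), ∀ w ∈ O (x * t), Commute y w) ∧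
    (∀ y ∈ O (x * t), ∀ w ∈ O (x ^ 2 * (x * t)), Commute y w) ∧
    (∀ y ∈ O (x ^ 2 * (x * t)), ∀ w ∈ O (x ^ 2), Commute y w) := by
  have h0 : ∀ y ∈ O (x ^ 2), ∀ w ∈ O (x * t), Commute y w := fun y hy w hw => H.comm_z_xt hab hy hw
  obtain ⟨s, h1, h2, -⟩ := H.swap.exists_sigma
  have hzt := H.swap.comm_tz
  have hzz := H.zz
  have h3 : s * (x ^ 2 * (x * t)) * s⁻¹ = x ^ 2 := by
    calc s * (x ^ 2 * (x * t)) * s⁻¹ = (s * x ^ 2 * s⁻¹) * (s * (x * t) * s⁻¹) := by group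
      _ = (x * t) * (x ^ 2 * (x * t)) := by rw [h1, h2]
      _ = (x ^ 2 * (x * t)) * (x * t) := by rw [← mul_assoc, hzt.eq]
      _ = x ^ 2 := by rw [mul_assoc, H.swap.tt, mul_one]
  have hs : ∀ {a b : G}, Commute (s⁻¹ * a * s) (s⁻¹ * b * s) → Commute a b := by
    intro a b hab
    have h' : (s⁻¹ * a * s) * (s⁻¹ * b * s) = (s⁻¹ * b * s) * (s⁻¹ * a * s) := hab
    have h'' : s⁻¹ * (a * b) * s = s⁻¹ * (b * a) * s := by
      calc s⁻¹ * (a * b) * s = (s⁻¹ * a * s) * (s⁻¹ * b * s) := by group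
        _ = (s⁻¹ * b * s) * (s⁻¹ * a * s) := h'
        _ = s⁻¹ * (b * a) * s := by group
    show a * b = b * a
    simpa using h''
  have hs' : ∀ {a b : G}, Commute (s * a * s⁻¹) (s * b * s⁻¹) → Commute a b := by
    intro a b hab
    have h' : (s * a * s⁻¹) * (s * b * s⁻¹) = (s * b * s⁻¹) * (s * a * s⁻¹) := hab
    have h'' : s * (a * b) * s⁻¹ = s * (b * a) * s⁻¹ := by
      calc s * (a * b) * s⁻¹ = (s * a * s⁻¹) * (s * b * s⁻¹) := by group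
        _ = (s * b * s⁻¹) * (s * a * s⁻¹) := h'
        _ = s * (b * a) * s⁻¹ := by group
    show a * b = b * a
    simpa using h''
  refine ⟨h0, ?_, ?_⟩
  · intro y hy w hw
    apply hs
    apply h0
    · have h4 := H.conj_mem_O H.ord_xt s⁻¹ hy
      have e : s⁻¹ * (x * t) * s⁻¹⁻¹ = x ^ 2 := by
        rw [← h1]
        group
      rw [e] at h4
      simpa using h4
    · have h4 := H.conj_mem_O H.ord_zxt s⁻¹ hw
      have e : s⁻¹ * (x ^ 2 * (x * t)) * s⁻¹⁻¹ = x * t := by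
        rw [← h2]
        group
      rw [e] at h4
      simpa using h4
  · intro y hy w hw
    apply hs'
    refine h0 _ ?_ _ ?_
    · have h4 := H.conj_mem_O H.ord_zxt s hy
      rwa [h3] at h4
    · have h4 := H.conj_mem_O H.zo s hw
      rwa [h1] at h4

/-- The join is abelian. -/
theorem XX_comm (H : Hyp P x t) {u₁ u₂ u₃ : G} (h1 : orderOf u₁ = 2) (h2 : orderOf u₂ = 2)
    (h3 : orderOf u₃ = 2)
    (c12 : ∀ y ∈ O u₁, ∀ w ∈ O u₂, Commute y w) (c23 : ∀ y ∈ O u₂, ∀ w ∈ O u₃, Commute y w)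
    (c31 : ∀ y ∈ O u₃, ∀ w ∈ O u₁, Commute y w) {a b : G} (ha : a ∈ XX u₁ u₂ u₃)
    (hb : b ∈ XX u₁ u₂ u₃) : Commute a b := by
  have k : ∀ {A B : Subgroup G}, (∀ y ∈ A, ∀ w ∈ B, Commute y w) → A ≤ centralizer (B : Set G) := by
    intro A B h y hy
    refine Subgroup.mem_centralizer_iff.mpr fun w hw => ?_
    exact (h y hy w hw).symm.eq
  have k1 : O u₁ ≤ centralizer (O u₁ : Set G) := k fun y hy w hw => H.comm_O h1 hy hw
  have k2 : O u₂ ≤ centralizer (O u₂ : Set G) := k fun y hy w hw => H.comm_O h2 hy hw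
  have k3 : O u₃ ≤ centralizer (O u₃ : Set G) := k fun y hy w hw => H.comm_O h3 hy hw
  have k12 : O u₁ ≤ centralizer (O u₂ : Set G) := k c12
  have k21 : O u₂ ≤ centralizer (O u₁ : Set G) := k fun y hy w hw => (c12 w hw y hy).symm
  have k23 : O u₂ ≤ centralizer (O u₃ : Set G) := k c23
  have k32 : O u₃ ≤ centralizer (O u₂ : Set G) := k fun y hy w hw => (c23 w hw y hy).symm
  have k31 : O u₃ ≤ centralizer (O u₁ : Set G) := k c31
  have k13 : O u₁ ≤ centralizer (O u₃ : Set G) := k fun y hy w hw => (c31 w hw y hy).symm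
  have s1 : XX u₁ u₂ u₃ ≤ centralizer (O u₁ : Set G) := sup_le (sup_le k1 k21) k31
  have s2 : XX u₁ u₂ u₃ ≤ centralizer (O u₂ : Set G) := sup_le (sup_le k12 k2) k32
  have s3 : XX u₁ u₂ u₃ ≤ centralizer (O u₃ : Set G) := sup_le (sup_le k13 k23) k3
  have s1' : O u₁ ≤ centralizer (XX u₁ u₂ u₃ : Set G) := Subgroup.le_centralizer_iff.mp s1
  have s2' : O u₂ ≤ centralizer (XX u₁ u₂ u₃ : Set G) := Subgroup.le_centralizer_iff.mp s2
  have s3' : O u₃ ≤ centralizer (XX u₁ u₂ u₃ : Set G) := Subgroup.le_centralizer_iff.mp s3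
  have s : XX u₁ u₂ u₃ ≤ centralizer (XX u₁ u₂ u₃ : Set G) := sup_le (sup_le s1' s2') s3'
  exact ((Subgroup.mem_centralizer_iff.mp (s ha)) b hb).symm

/-- Elements of the join have odd order. -/
theorem XX_odd (H : Hyp P x t) {u₁ u₂ u₃ : G} (h1 : orderOf u₁ = 2) (h2 : orderOf u₂ = 2)
    (h3 : orderOf u₃ = 2)
    (hcomm : ∀ a ∈ XX u₁ u₂ u₃, ∀ b ∈ XX u₁ u₂ u₃, Commute a b) {a : G} (ha : a ∈ XX u₁ u₂ u₃) :
    ¬ 2 ∣ orderOf a := by
  let Y : Subgroup G :=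
    { carrier := {y | y ∈ XX u₁ u₂ u₃ ∧ ¬ 2 ∣ orderOf y}
      mul_mem' := by
        rintro y w ⟨hy, hy2⟩ ⟨hw, hw2⟩
        refine ⟨(XX u₁ u₂ u₃).mul_mem hy hw, fun h => ?_⟩
        have h5 := h.trans (hcomm y hy w hw).orderOf_mul_dvd_mul_orderOf
        rcases (Nat.prime_two.dvd_mul).mp h5 with h6 | h6
        · exact hy2 h6
        · exact hw2 h6
      one_mem' := ⟨(XX u₁ u₂ u₃).one_mem, by simp⟩
      inv_mem' := by
        rintro y ⟨hy, hy2⟩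
        refine ⟨(XX u₁ u₂ u₃).inv_mem hy, ?_⟩
        rwa [orderOf_inv] }
  have hk : ∀ {u : G}, orderOf u = 2 → O u ≤ XX u₁ u₂ u₃ → O u ≤ Y := by
    intro u hu hle y hy
    exact ⟨hle hy, ((H.mem_O hu).mp hy).2⟩
  have hY : XX u₁ u₂ u₃ ≤ Y :=
    sup_le (sup_le (hk h1 (le_XX₁ _ _ _)) (hk h2 (le_XX₂ _ _ _))) (hk h3 (le_XX₃ _ _ _))
  exact (hY ha).2

/-- Conjugation stability of the join. -/
theorem XX_conj (H : Hyp P x t) {u₁ u₂ u₃ g : G} (h1 : orderOf u₁ = 2) (h2 : orderOf u₂ = 2)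
    (h3 : orderOf u₃ = 2)
    (g1 : O (g * u₁ * g⁻¹) ≤ XX u₁ u₂ u₃) (g2 : O (g * u₂ * g⁻¹) ≤ XX u₁ u₂ u₃)
    (g3 : O (g * u₃ * g⁻¹) ≤ XX u₁ u₂ u₃) {y : G} (hy : y ∈ XX u₁ u₂ u₃) :
    g * y * g⁻¹ ∈ XX u₁ u₂ u₃ := by
  have hk : ∀ {u : G}, orderOf u = 2 → O (g * u * g⁻¹) ≤ XX u₁ u₂ u₃ →
      O u ≤ (XX u₁ u₂ u₃).comap (MulAut.conj g).toMonoidHom := by
    intro u hu hle w hw
    exact hle (H.conj_mem_O hu g hw)
  have hY : XX u₁ u₂ u₃ ≤ (XX u₁ u₂ u₃).comap (MulAut.conj g).toMonoidHom :=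
    sup_le (sup_le (hk h1 g1) (hk h2 g2)) (hk h3 g3)
  exact hY hy

/-- An abelian odd subgroup normalized by a four-group is generated by the fixed points of its
involutions. -/
theorem mem_XX_of_four (H : Hyp P x t) {u₁ u₂ : G} (h1 : orderOf u₁ = 2) (h2 : orderOf u₂ = 2)
    (h12 : Commute u₁ u₂) (h3 : orderOf (u₁ * u₂) = 2) {X : Subgroup G}
    (hcomm : ∀ a ∈ X, ∀ b ∈ X, Commute a b) (hodd : ∀ a ∈ X, ¬ 2 ∣ orderOf a)
    (n1 : ∀ y ∈ X, u₁ * y * u₁⁻¹ ∈ X) (n2 : ∀ y ∈ X, u₂ * y * u₂⁻¹ ∈ X) {y : G} (hy : y ∈ X) :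
    y ∈ XX u₁ u₂ (u₁ * u₂) := by
  have i1 : u₁ * u₁ = 1 := mul_self_of_orderOf_two h1
  have i2 : u₂ * u₂ = 1 := mul_self_of_orderOf_two h2
  have i1' : u₁⁻¹ = u₁ := inv_eq_of_mul_eq_one_left i1
  have i2' : u₂⁻¹ = u₂ := inv_eq_of_mul_eq_one_left i2
  set y₁ := u₁ * y * u₁⁻¹ with hy₁
  set y₂ := u₂ * y * u₂⁻¹ with hy₂
  set y₃ := u₁ * y₂ * u₁⁻¹ with hy₃
  have m1 : y₁ ∈ X := n1 y hy
  have m2 : y₂ ∈ X := n2 y hy
  have m3 : y₃ ∈ X := n1 y₂ m2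
  have e11 : u₁ * y₁ * u₁⁻¹ = y := by
    rw [hy₁]
    calc u₁ * (u₁ * y * u₁⁻¹) * u₁⁻¹ = (u₁ * u₁) * y * (u₁ * u₁)⁻¹ := by group
      _ = y := by rw [i1]; group
  have e22 : u₂ * y₂ * u₂⁻¹ = y := by
    rw [hy₂]
    calc u₂ * (u₂ * y * u₂⁻¹) * u₂⁻¹ = (u₂ * u₂) * y * (u₂ * u₂)⁻¹ := by group
      _ = y := by rw [i2]; group
  have e13 : u₁ * y₃ * u₁⁻¹ = y₂ := by
    rw [hy₃]
    calc u₁ * (u₁ * y₂ * u₁⁻¹) * u₁⁻¹ = (u₁ * u₁) * y₂ * (u₁ * u₁)⁻¹ := by group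
      _ = y₂ := by rw [i1]; group
  have e3 : (u₁ * u₂) * y * (u₁ * u₂)⁻¹ = y₃ := by
    rw [hy₃, hy₂]
    group
  have e33 : (u₁ * u₂) * y₃ * (u₁ * u₂)⁻¹ = y := by
    rw [← e3]
    have i3 : (u₁ * u₂) * (u₁ * u₂) = 1 := mul_self_of_orderOf_two h3
    calc (u₁ * u₂) * ((u₁ * u₂) * y * (u₁ * u₂)⁻¹) * (u₁ * u₂)⁻¹
        = ((u₁ * u₂) * (u₁ * u₂)) * y * ((u₁ * u₂) * (u₁ * u₂))⁻¹ := by group
      _ = y := by rw [i3]; group
  have cm : ∀ {a b}, a ∈ X → b ∈ X → a * b = b * a := fun ha hb => (hcomm _ ha _ hb).eq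
  have hfix : ∀ {u w : G}, u * w * u⁻¹ = w → Commute w u := by
    intro u w e
    show w * u = u * w
    calc w * u = (u * w * u⁻¹) * u := by rw [e]
      _ = u * w := by group
  -- the four products
  have a1 : y * y₁ ∈ O u₁ := by
    refine (H.mem_O h1).mpr ⟨hfix ?_, hodd _ (X.mul_mem hy m1)⟩
    calc u₁ * (y * y₁) * u₁⁻¹ = (u₁ * y * u₁⁻¹) * (u₁ * y₁ * u₁⁻¹) := by group
      _ = y₁ * y := by rw [e11]
      _ = y * y₁ := cm m1 hy
  have a2 : y * y₂ ∈ O u₂ := by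
    refine (H.mem_O h2).mpr ⟨hfix ?_, hodd _ (X.mul_mem hy m2)⟩
    calc u₂ * (y * y₂) * u₂⁻¹ = (u₂ * y * u₂⁻¹) * (u₂ * y₂ * u₂⁻¹) := by group
      _ = y₂ * y := by rw [e22]
      _ = y * y₂ := cm m2 hy
  have a3 : y * y₃ ∈ O (u₁ * u₂) := by
    refine (H.mem_O h3).mpr ⟨hfix ?_, hodd _ (X.mul_mem hy m3)⟩
    calc (u₁ * u₂) * (y * y₃) * (u₁ * u₂)⁻¹
        = ((u₁ * u₂) * y * (u₁ * u₂)⁻¹) * ((u₁ * u₂) * y₃ * (u₁ * u₂)⁻¹) := by group
      _ = y₃ * y := by rw [e3, e33]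
      _ = y * y₃ := cm m3 hy
  have a4 : (y * y₁) * (y₂ * y₃) ∈ O u₁ := by
    refine (H.mem_O h1).mpr ⟨hfix ?_, hodd _ (X.mul_mem (X.mul_mem hy m1) (X.mul_mem m2 m3))⟩
    calc u₁ * ((y * y₁) * (y₂ * y₃)) * u₁⁻¹
        = (u₁ * y * u₁⁻¹) * (u₁ * y₁ * u₁⁻¹) * ((u₁ * y₂ * u₁⁻¹) * (u₁ * y₃ * u₁⁻¹)) := by group
      _ = (y₁ * y) * (y₃ * y₂) := by rw [e11, e13]
      _ = (y * y₁) * (y₂ * y₃) := by rw [cm m1 hy, cm m3 m2]
  -- the identity
  have key : y * y = (y * y₁) * (y * y₂) * (y * y₃) * ((y * y₁) * (y₂ * y₃))⁻¹ := by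
    have c1 : y₁ * y = y * y₁ := cm m1 hy
    have c2 : y₂ * y = y * y₂ := cm m2 hy
    have c3 : y₃ * y = y * y₃ := cm m3 hy
    have c4 : y₂ * y₁ = y₁ * y₂ := cm m2 m1
    have c5 : y₃ * y₁ = y₁ * y₃ := cm m3 m1
    have c6 : y₃ * y₂ = y₂ * y₃ := cm m3 m2
    have e : (y * y₁) * (y * y₂) * (y * y₃) = y * y * ((y * y₁) * (y₂ * y₃)) := by
      calc (y * y₁) * (y * y₂) * (y * y₃) = y * (y₁ * y) * y₂ * y * y₃ := by group
        _ = y * (y * y₁) * y₂ * y * y₃ := by rw [c1]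
        _ = y * y * y₁ * (y₂ * y) * y₃ := by group
        _ = y * y * y₁ * (y * y₂) * y₃ := by rw [c2]
        _ = y * y * (y₁ * y) * y₂ * y₃ := by group
        _ = y * y * (y * y₁) * y₂ * y₃ := by rw [c1]
        _ = y * y * ((y * y₁) * (y₂ * y₃)) := by group
    rw [e]
    group
  obtain ⟨k, hk⟩ := exists_sq_pow (hodd y hy)
  rw [← hk, key]
  refine pow_mem ((XX _ _ _).mul_mem ((XX _ _ _).mul_mem ((XX _ _ _).mul_mem (le_XX₁ _ _ _ a1)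
    (le_XX₂ _ _ _ a2)) (le_XX₃ _ _ _ a3)) ((XX _ _ _).inv_mem (le_XX₁ _ _ _ a4))) k

end Hyp

end Cfsg.Agent.Lib.Cent4
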