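import Cfsg.Agent.Lib.Cent4.Both

/-!
# The case where both parts of the odd core are nontrivial: a normal abelian subgroup
-/

set_option autoImplicit false
set_option linter.unusedSectionVars false
set_option linter.style.haveILetI false
set_option linter.unusedVariables false

namespace Cfsg.Agent.Lib.Cent4

open Cfsg Subgroup
open Cfsg.Agent.Lib.V4Block Cfsg.Agent.Lib.DihBlock

universe u

variable {G : Type u} [Group G] [Fintype G]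

namespace Hyp

variable {P : Sylow 2 G} {x t : G}

theorem XX_conj₁ (H : Hyp P x t) {u g : G} (hu : orderOf u = 2) (hzu : orderOf (x ^ 2 * u) = 2)
    (h1 : g * x ^ 2 * g⁻¹ = x ^ 2) (h2 : g * u * g⁻¹ = u) {y : G} (hy : y ∈ XX (x ^ 2) u (x ^ 2 * u)) :
    g * y * g⁻¹ ∈ XX (x ^ 2) u (x ^ 2 * u) := by
  have h3 : g * (x ^ 2 * u) * g⁻¹ = x ^ 2 * u := by
    calc g * (x ^ 2 * u) * g⁻¹ = (g * x ^ 2 * g⁻¹) * (g * u * g⁻¹) := by group
      _ = _ := by rw [h1, h2]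
  exact H.XX_conj H.zo hu hzu (by rw [h1]; exact le_XX₁ _ _ _) (by rw [h2]; exact le_XX₂ _ _ _)
    (by rw [h3]; exact le_XX₃ _ _ _) hy

theorem XX_conj₂ (H : Hyp P x t) {u g : G} (hu : orderOf u = 2) (hzu : orderOf (x ^ 2 * u) = 2)
    (h1 : g * x ^ 2 * g⁻¹ = x ^ 2) (h2 : g * u * g⁻¹ = x ^ 2 * u) {y : G}
    (hy : y ∈ XX (x ^ 2) u (x ^ 2 * u)) :
    g * y * g⁻¹ ∈ XX (x ^ 2) u (x ^ 2 * u) := by
  have h3 : g * (x ^ 2 * u) * g⁻¹ = u := by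
    calc g * (x ^ 2 * u) * g⁻¹ = (g * x ^ 2 * g⁻¹) * (g * u * g⁻¹) := by group
      _ = x ^ 2 * (x ^ 2 * u) := by rw [h1, h2]
      _ = u := by rw [← mul_assoc, H.zz, one_mul]
  exact H.XX_conj H.zo hu hzu (by rw [h1]; exact le_XX₁ _ _ _) (by rw [h2]; exact le_XX₃ _ _ _)
    (by rw [h3]; exact le_XX₂ _ _ _) hy

theorem XX_conj₃ (H : Hyp P x t) {u g : G} (hu : orderOf u = 2) (hzu : orderOf (x ^ 2 * u) = 2)
    (hc : Commute u (x ^ 2))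
    (h1 : g * x ^ 2 * g⁻¹ = u) (h2 : g * u * g⁻¹ = x ^ 2 * u) {y : G}
    (hy : y ∈ XX (x ^ 2) u (x ^ 2 * u)) :
    g * y * g⁻¹ ∈ XX (x ^ 2) u (x ^ 2 * u) := by
  have h3 : g * (x ^ 2 * u) * g⁻¹ = x ^ 2 := by
    calc g * (x ^ 2 * u) * g⁻¹ = (g * x ^ 2 * g⁻¹) * (g * u * g⁻¹) := by group
      _ = u * (x ^ 2 * u) := by rw [h1, h2]
      _ = (x ^ 2 * u) * u := by rw [← mul_assoc, hc.eq]
      _ = x ^ 2 := by rw [mul_assoc, mul_self_of_orderOf_two hu, mul_one]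
  exact H.XX_conj H.zo hu hzu (by rw [h1]; exact le_XX₂ _ _ _) (by rw [h2]; exact le_XX₃ _ _ _)
    (by rw [h3]; exact le_XX₁ _ _ _) hy

/-- If both parts of the odd core are nontrivial there is a normal abelian subgroup. -/
theorem exists_normal (H : Hyp P x t) {a₀ b₀ : G} (ha : a₀ ∈ AA x t) (ha1 : a₀ ≠ 1)
    (hb : b₀ ∈ AA x (x * t)) (hb1 : b₀ ≠ 1) :
    ∃ X : Subgroup G, X.Normal ∧ X ≠ ⊥ ∧ ∀ a ∈ X, ∀ b ∈ X, Commute a b := by
  have hle1 : Nat.card (AA x (x * t)) ≤ Nat.card (AA x t) := H.card_le ha ha1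
  have e2 : x * (x * t) = x ^ 2 * t := by rw [pow_two, mul_assoc]
  have e3 : x * (x * (x * t)) = x ^ 2 * (x * t) := by rw [pow_two, mul_assoc]
  have e4 : x * (x * (x * (x * t))) = t := by
    calc x * (x * (x * (x * t))) = x ^ 4 * t := by
          simp only [pow_succ, pow_zero, one_mul, mul_assoc]
      _ = t := by rw [H.x4, one_mul]
  have hle2 : Nat.card (AA x t) ≤ Nat.card (AA x (x * t)) := by
    have h1 := H.swap.card_le hb hb1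
    rwa [e2, H.AA_z_mul] at h1
  obtain ⟨t1, t2, t3⟩ := H.triple hle2
  have H₃ := H.swap.swap.swap
  have hab₃ : Nat.card (AA x (x * (x * (x * t)))) ≤ Nat.card (AA x (x * (x * (x * (x * t))))) := by
    rw [e4, e3, H.AA_z_mul]
    exact hle1
  obtain ⟨t1', t2', t3'⟩ := H₃.triple hab₃
  rw [e4] at t1' t2' t3'
  have hz := H.zo
  have hxt := H.ord_xt
  have hzxt := H.ord_zxt
  have hτ := H.ctx.τo
  have hzt := H.ord_zt
  have cz₁ : ∀ a ∈ XX (x ^ 2) (x * t) (x ^ 2 * (x * t)), ∀ b ∈ XX (x ^ 2) (x * t) (x ^ 2 * (x * t)),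
      Commute a b := fun a ha b hb => H.XX_comm hz hxt hzxt t1 t2 t3 ha hb
  have cz₂ : ∀ a ∈ XX (x ^ 2) t (x ^ 2 * t), ∀ b ∈ XX (x ^ 2) t (x ^ 2 * t),
      Commute a b := fun a ha b hb => H.XX_comm hz hτ hzt t1' t2' t3' ha hb
  have od₁ : ∀ a ∈ XX (x ^ 2) (x * t) (x ^ 2 * (x * t)), ¬ 2 ∣ orderOf a :=
    fun a ha => H.XX_odd hz hxt hzxt cz₁ ha
  have od₂ : ∀ a ∈ XX (x ^ 2) t (x ^ 2 * t), ¬ 2 ∣ orderOf a :=
    fun a ha => H.XX_odd hz hτ hzt cz₂ ha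
  -- the action of `z`, `x`, `t`, `x t`
  have hcP : ∀ g ∈ (P : Subgroup G), g * x ^ 2 * g⁻¹ = x ^ 2 := by
    intro g hg
    rw [(H.ctx.J_comm hg).eq]
    group
  have hzx : ∀ u ∈ (P : Subgroup G), x ^ 2 * u * (x ^ 2)⁻¹ = u := by
    intro u hu
    rw [← (H.ctx.J_comm hu).eq]
    group
  have hzP : x ^ 2 ∈ (P : Subgroup G) := pow_mem H.ctx.σP 2
  have hxtP : x * t ∈ (P : Subgroup G) := (P : Subgroup G).mul_mem H.ctx.σP H.ctx.τP
  have htP := H.ctx.τP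
  have hxP := H.ctx.σP
  have hconj₁ : x * (x * t) * x⁻¹ = x ^ 2 * (x * t) := H.swap.conj_xt
  have htxt : t * (x * t) * t⁻¹ = x ^ 2 * (x * t) := by
    have hsw := H.tx
    calc t * (x * t) * t⁻¹ = (t * x) * (t * t⁻¹) := by group
      _ = x⁻¹ * t := by rw [hsw, mul_inv_cancel, mul_one]
      _ = x ^ 2 * (x * t) := by
        have h4 : x⁻¹ = x ^ 2 * x := by
          rw [inv_eq_iff_mul_eq_one, ← pow_succ, ← pow_succ' x 3]
          exact H.x4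
        rw [h4, mul_assoc]
  have hxtt : (x * t) * t * (x * t)⁻¹ = x ^ 2 * t := by
    rw [← H.conj_xt]
    group
  have n1z : ∀ y ∈ XX (x ^ 2) (x * t) (x ^ 2 * (x * t)),
      x ^ 2 * y * (x ^ 2)⁻¹ ∈ XX (x ^ 2) (x * t) (x ^ 2 * (x * t)) := fun y hy =>
    H.XX_conj₁ hxt hzxt (hcP _ hzP) (hzx _ hxtP) hy
  have n1t : ∀ y ∈ XX (x ^ 2) (x * t) (x ^ 2 * (x * t)),
      t * y * t⁻¹ ∈ XX (x ^ 2) (x * t) (x ^ 2 * (x * t)) := fun y hy =>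
    H.XX_conj₂ hxt hzxt (hcP _ htP) htxt hy
  have n1x : ∀ y ∈ XX (x ^ 2) (x * t) (x ^ 2 * (x * t)),
      x * y * x⁻¹ ∈ XX (x ^ 2) (x * t) (x ^ 2 * (x * t)) := fun y hy =>
    H.XX_conj₂ hxt hzxt (hcP _ hxP) hconj₁ hy
  have n2z : ∀ y ∈ XX (x ^ 2) t (x ^ 2 * t),
      x ^ 2 * y * (x ^ 2)⁻¹ ∈ XX (x ^ 2) t (x ^ 2 * t) := fun y hy =>
    H.XX_conj₁ hτ hzt (hcP _ hzP) (hzx _ htP) hy
  have n2xt : ∀ y ∈ XX (x ^ 2) t (x ^ 2 * t),
      (x * t) * y * (x * t)⁻¹ ∈ XX (x ^ 2) t (x ^ 2 * t) := fun y hy =>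
    H.XX_conj₂ hτ hzt (hcP _ hxtP) hxtt hy
  have hcomm_zt : Commute (x ^ 2) t := H.comm_tz.symm
  have hcomm_zxt : Commute (x ^ 2) (x * t) := H.swap.comm_tz.symm
  have hle₁₂ : XX (x ^ 2) (x * t) (x ^ 2 * (x * t)) ≤ XX (x ^ 2) t (x ^ 2 * t) := fun y hy =>
    H.mem_XX_of_four hz hτ hcomm_zt hzt cz₁ od₁ n1z n1t hy
  have hle₂₁ : XX (x ^ 2) t (x ^ 2 * t) ≤ XX (x ^ 2) (x * t) (x ^ 2 * (x * t)) := fun y hy =>
    H.mem_XX_of_four hz hxt hcomm_zxt hzxt cz₂ od₂ n2z n2xt hy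
  have hX : XX (x ^ 2) t (x ^ 2 * t) = XX (x ^ 2) (x * t) (x ^ 2 * (x * t)) :=
    le_antisymm hle₂₁ hle₁₂
  set X := XX (x ^ 2) (x * t) (x ^ 2 * (x * t)) with hXdef
  rw [hX] at n2xt
  obtain ⟨s₁, h1, h2, -⟩ := H.exists_sigma
  obtain ⟨s₂, h3, h4, -⟩ := H.swap.exists_sigma
  have hs₁ : s₁ ∈ normalizer (X : Set G) := by
    refine mem_normalizer_of_conj fun y hy => ?_
    rw [← hX] at hy ⊢
    exact H.XX_conj₃ hτ hzt H.comm_tz h1 h2 hy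
  have hs₂ : s₂ ∈ normalizer (X : Set G) :=
    mem_normalizer_of_conj fun y hy => H.XX_conj₃ hxt hzxt H.swap.comm_tz h3 h4 hy
  have hPT : (P : Subgroup G) ≤ normalizer (X : Set G) := by
    intro y hy
    obtain ⟨i, rfl | rfl⟩ := H.ctx.gen y hy
    · exact pow_mem (mem_normalizer_of_conj n1x) i
    · exact (normalizer (X : Set G)).mul_mem (pow_mem (mem_normalizer_of_conj n1x) i)
        (mem_normalizer_of_conj n1t)
  have hOT : O (x ^ 2) ≤ normalizer (X : Set G) := by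
    intro y hy
    refine mem_normalizer_of_conj fun w hw => ?_
    exact X.mul_mem (X.mul_mem (le_XX₁ _ _ _ hy) hw) (X.inv_mem (le_XX₁ _ _ _ hy))
  have hCT : centralizer ({x ^ 2} : Set G) ≤ normalizer (X : Set G) := by
    obtain ⟨π, hπ⟩ : ∃ π : centralizer ({x ^ 2} : Set G) →* G, Proj P (x ^ 2) π := H.ctx.exists_proj
    intro g hg
    have h5 := (normalizer (X : Set G)).mul_mem (hOT (H.exists_decomp hπ hg)) (hPT (hπ.mem ⟨g, hg⟩))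
    simpa using h5
  have htop := H.eq_top_of_sub hCT hs₁ h1 hs₂ h3
  refine ⟨X, Subgroup.normalizer_eq_top_iff.mp htop, ?_, cz₁⟩
  intro hbot
  apply ha1
  have h6 : a₀ ∈ X := le_XX₁ _ _ _ (mem_AA.mp ha).1
  rw [hbot] at h6
  exact (Subgroup.mem_bot).mp h6

end Hyp

end Cfsg.Agent.Lib.Cent4
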