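import Cfsg.Agent.Lib.Cent4.Hyp

/-!
# Orders of centralizers, and the element of order three on the four-group
-/

set_option autoImplicit false
set_option linter.unusedSectionVars false
set_option linter.style.haveILetI false
set_option linter.unusedVariables false

namespace Cfsg.Agent.Lib.Cent4

open Cfsg Subgroup
open Cfsg.Agent.Lib.V4Block Cfsg.Agent.Lib.DihBlock
open scoped Pointwise

universe u

variable {G : Type u} [Group G] [Fintype G]

/-- The four-group of `P` containing `t`. -/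
def VV (P : Sylow 2 G) (t : G) : Subgroup G := (P : Subgroup G) ⊓ centralizer ({t} : Set G)

namespace Hyp

variable {P : Sylow 2 G} {x t : G}

theorem comm_pow_t (H : Hyp P x t) {i : ℕ} (hi : i < 4) (h : Commute (x ^ i) t) : i = 0 ∨ i = 2 := by
  have hx2 : x * x ≠ 1 := by
    intro e
    have h1 : orderOf x ∣ 2 := orderOf_dvd_of_pow_eq_one (by rw [pow_two, e])
    rw [H.ctx.σo] at h1
    omega
  have hcomm : Commute x t → False := by
    intro hc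
    apply hx2
    have h1 : x * t = x⁻¹ * t := by
      rw [← H.tx]
      exact hc.eq
    have h2 : x = x⁻¹ := mul_right_cancel h1
    calc x * x = x⁻¹ * x := by rw [← h2]
      _ = 1 := inv_mul_cancel x
  interval_cases i
  · left; rfl
  · exact (hcomm (by simpa using h)).elim
  · right; rfl
  · exfalso
    apply hcomm
    have h3 : x ^ 3 = x⁻¹ := by
      rw [eq_inv_iff_mul_eq_one, ← pow_succ, H.x4]
    rw [h3] at h
    simpa using h.inv_left

theorem mem_VV (H : Hyp P x t) {y : G} :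
    y ∈ VV P t ↔ y = 1 ∨ y = x ^ 2 ∨ y = t ∨ y = x ^ 2 * t := by
  have hc := H.ctx
  have hz : x ^ 2 ∈ (P : Subgroup G) := pow_mem hc.σP 2
  have htz := H.comm_tz
  unfold VV
  rw [Subgroup.mem_inf, mem_centralizer_singleton_iff]
  constructor
  · rintro ⟨hy, hyt⟩
    have hyt' : Commute y t := hyt
    have hmod : ∀ i : ℕ, x ^ i = x ^ (i % 4) ∧ i % 4 < 4 := fun i =>
      ⟨by rw [← hc.σo, pow_mod_orderOf], Nat.mod_lt _ (by norm_num)⟩
    obtain ⟨i, hi | hi⟩ := hc.gen y hy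
    · obtain ⟨h1, h2⟩ := hmod i
      rw [h1] at hi
      rw [hi] at hyt'
      rcases H.comm_pow_t h2 hyt' with h3 | h3 <;> rw [h3] at hi
      · left
        simpa using hi
      · right; left
        exact hi
    · obtain ⟨h1, h2⟩ := hmod i
      rw [h1] at hi
      have h4 : Commute (x ^ (i % 4)) t := by
        rw [hi] at hyt'
        have h6 : Commute (x ^ (i % 4) * t * t⁻¹) t := hyt'.mul_left (Commute.refl t).inv_left
        simpa using h6
      rcases H.comm_pow_t h2 h4 with h3 | h3 <;> rw [h3] at hi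
      · right; right; left
        simpa using hi
      · right; right; right
        exact hi
  · rintro (rfl | rfl | rfl | rfl)
    · exact ⟨one_mem _, by simp⟩
    · exact ⟨hz, htz.symm.eq⟩
    · exact ⟨hc.τP, rfl⟩
    · refine ⟨(P : Subgroup G).mul_mem hz hc.τP, ?_⟩
      exact (htz.symm.mul_left (Commute.refl t)).eq

theorem z_ne_t (H : Hyp P x t) : x ^ 2 ≠ t := by
  intro e
  apply H.ctx.τ_notMem
  rw [← e]
  exact pow_mem (mem_zpowers x) 2

theorem z_ne_one (H : Hyp P x t) : x ^ 2 ≠ 1 := ne_one_of_orderOf_two H.zo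

theorem card_VV (H : Hyp P x t) : Nat.card (VV P t) = 4 := by
  classical
  have h1 : Nat.card (VV P t) = ({1, x ^ 2, t, x ^ 2 * t} : Finset G).card := by
    rw [Nat.card_eq_fintype_card]
    apply Fintype.card_of_subtype
    intro y
    simp only [Finset.mem_insert, Finset.mem_singleton]
    exact H.mem_VV.symm
  rw [h1]
  have hzt1 : x ^ 2 * t ≠ 1 := by
    intro e
    apply H.z_ne_t
    have h2 : x ^ 2 = t⁻¹ := eq_inv_of_mul_eq_one_left e
    rw [h2, H.tinv]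
  have hzt2 : x ^ 2 * t ≠ x ^ 2 := by
    intro e
    exact H.ht1 (mul_eq_left.mp e)
  have hzt3 : x ^ 2 * t ≠ t := by
    intro e
    exact H.z_ne_one (mul_eq_right.mp e)
  rw [Finset.card_insert_of_notMem, Finset.card_insert_of_notMem, Finset.card_insert_of_notMem,
    Finset.card_singleton]
  · simpa using hzt3.symm
  · simp only [Finset.mem_insert, Finset.mem_singleton, not_or]
    exact ⟨H.z_ne_t, hzt2.symm⟩
  · simp only [Finset.mem_insert, Finset.mem_singleton, not_or]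
    exact ⟨H.z_ne_one.symm, H.ht1.symm, hzt1.symm⟩

/-- The decomposition of an element of `C(z)`. -/
theorem exists_decomp (H : Hyp P x t) {π : centralizer ({x ^ 2} : Set G) →* G}
    (hπ : Proj P (x ^ 2) π) {g : G} (hg : g ∈ centralizer ({x ^ 2} : Set G)) :
    g * (π ⟨g, hg⟩)⁻¹ ∈ O (x ^ 2) := by
  have hm := hπ.mem ⟨g, hg⟩
  set p := π ⟨g, hg⟩ with hp
  have hpC : p ∈ centralizer ({x ^ 2} : Set G) :=
    mem_centralizer_singleton_iff.mpr (H.ctx.J_comm hm).eq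
  have h1 : π ⟨p, hpC⟩ = p := hπ.fix ⟨p, hpC⟩ hm
  have hgc : Commute g (x ^ 2) := mem_centralizer_singleton_iff.mp hg
  have hpc : Commute p (x ^ 2) := mem_centralizer_singleton_iff.mp hpC
  refine H.mem_O_z.mpr ⟨hgc.mul_left hpc.inv_left, ?_⟩
  have h2 : π (⟨g, hg⟩ * (⟨p, hpC⟩ : centralizer ({x ^ 2} : Set G))⁻¹) = 1 := by
    rw [map_mul, map_inv, h1, ← hp]
    exact mul_inv_cancel _
  have h3 := hπ.ker _ h2
  have h4 : orderOf ((⟨g, hg⟩ * (⟨p, hpC⟩ : centralizer ({x ^ 2} : Set G))⁻¹ :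
      centralizer ({x ^ 2} : Set G)) : G) = orderOf (⟨g, hg⟩ *
      (⟨p, hpC⟩ : centralizer ({x ^ 2} : Set G))⁻¹ : centralizer ({x ^ 2} : Set G)) :=
    Subgroup.orderOf_coe _
  have h5 : ((⟨g, hg⟩ * (⟨p, hpC⟩ : centralizer ({x ^ 2} : Set G))⁻¹ :
      centralizer ({x ^ 2} : Set G)) : G) = g * p⁻¹ := rfl
  rw [h5] at h4
  rw [h4]
  exact h3

theorem card_C₁ (H : Hyp P x t) :
    Nat.card (centralizer ({x ^ 2} : Set G)) = Nat.card (O (x ^ 2)) * 8 := by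
  obtain ⟨π, hπ⟩ : ∃ π : centralizer ({x ^ 2} : Set G) →* G, Proj P (x ^ 2) π := H.ctx.exists_proj
  have h8 : Nat.card (P : Subgroup G) = 8 := H.ctx.card_P
  rw [← h8]
  apply card_of_decomp
  · intro y hy
    exact mem_centralizer_singleton_iff.mpr (H.mem_O_z.mp hy).1
  · intro y hy
    exact mem_centralizer_singleton_iff.mpr (H.ctx.J_comm hy).eq
  · intro g hg
    refine ⟨_, H.exists_decomp hπ hg, π ⟨g, hg⟩, hπ.mem _, by group⟩
  · intro y hy hyP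
    exact eq_one_of_P hyP (H.mem_O_z.mp hy).2

/-- The centralizer of the four-group. -/
theorem mem_C₂ {y : G} : y ∈ centralizer ({x ^ 2, t} : Set G) ↔ Commute y (x ^ 2) ∧ Commute y t := by
  rw [Subgroup.mem_centralizer_iff]
  simp only [Set.mem_insert_iff, Set.mem_singleton_iff, forall_eq_or_imp, forall_eq]
  exact ⟨fun h => ⟨h.1.symm, h.2.symm⟩, fun h => ⟨h.1.symm, h.2.symm⟩⟩

/-- The decomposition of an element of `C(V)`. -/
theorem exists_decomp₂ (H : Hyp P x t) {g : G} (hg : g ∈ centralizer ({x ^ 2, t} : Set G)) :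
    ∃ a ∈ AA x t, ∃ v ∈ VV P t, g = a * v := by
  obtain ⟨π, hπ⟩ : ∃ π : centralizer ({x ^ 2} : Set G) →* G, Proj P (x ^ 2) π := H.ctx.exists_proj
  obtain ⟨h1, h2⟩ := mem_C₂.mp hg
  have hgC : g ∈ centralizer ({x ^ 2} : Set G) := mem_centralizer_singleton_iff.mpr h1
  have ha := H.exists_decomp hπ hgC
  have hm := hπ.mem ⟨g, hgC⟩
  set p := π ⟨g, hgC⟩ with hp
  have htC : t ∈ centralizer ({x ^ 2} : Set G) := mem_centralizer_singleton_iff.mpr H.comm_tz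
  have hπt : π ⟨t, htC⟩ = t := hπ.fix ⟨t, htC⟩ H.ctx.τP
  have hpt : Commute p t := by
    have h3 : (⟨g, hgC⟩ : centralizer ({x ^ 2} : Set G)) * ⟨t, htC⟩ = ⟨t, htC⟩ * ⟨g, hgC⟩ :=
      Subtype.ext h2
    have h4 := congrArg π h3
    rw [map_mul, map_mul, hπt, ← hp] at h4
    exact h4
  refine ⟨g * p⁻¹, mem_AA.mpr ⟨ha, h2.mul_left hpt.inv_left⟩, p, ?_, by group⟩
  unfold VV
  rw [Subgroup.mem_inf, mem_centralizer_singleton_iff]
  exact ⟨hm, hpt.eq⟩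

theorem card_C₂ (H : Hyp P x t) :
    Nat.card (centralizer ({x ^ 2, t} : Set G)) = Nat.card (AA x t) * 4 := by
  rw [← H.card_VV]
  apply card_of_decomp
  · intro y hy
    obtain ⟨h1, h2⟩ := mem_AA.mp hy
    exact mem_C₂.mpr ⟨(H.mem_O_z.mp h1).1, h2⟩
  · intro y hy
    have h1 : y ∈ (P : Subgroup G) := hy.1
    have h2 : y ∈ centralizer ({t} : Set G) := hy.2
    exact mem_C₂.mpr ⟨H.ctx.J_comm h1, mem_centralizer_singleton_iff.mp h2⟩
  · intro g hg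
    exact H.exists_decomp₂ hg
  · intro y hy hyV
    exact eq_one_of_P hyV.1 (H.mem_O_z.mp (mem_AA.mp hy).1).2

/-- An element commuting with `z` and `t` commutes with the part of the core fixed by `t`. -/
theorem comm_of_C₂ (H : Hyp P x t) {g y : G} (hg : g ∈ centralizer ({x ^ 2, t} : Set G))
    (hy : y ∈ AA x t) : Commute g y := by
  obtain ⟨a, ha, v, hv, rfl⟩ := H.exists_decomp₂ hg
  obtain ⟨h1, h2⟩ := mem_AA.mp hy
  have h3 : Commute a y := H.comm_O_z (mem_AA.mp ha).1 h1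
  have h4 : Commute v y := by
    rcases H.mem_VV.mp hv with rfl | rfl | rfl | rfl
    · exact Commute.one_left y
    · exact (H.mem_O_z.mp h1).1.symm
    · exact h2.symm
    · exact (H.mem_O_z.mp h1).1.symm.mul_left h2.symm
  exact h3.mul_left h4

/-- An element permuting `z, t, z t` cyclically. -/
theorem exists_sigma₀ (H : Hyp P x t) :
    ∃ s : G, s * x ^ 2 * s⁻¹ = t ∧ s * t * s⁻¹ = x ^ 2 * t := by
  classical
  have hc := H.ctx
  obtain ⟨g, hg⟩ := isConj_iff.mp H.c1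
  have htz := H.comm_tz
  set u₀ := g⁻¹ * x ^ 2 * g with hu₀
  have hgt : g⁻¹ * t * g = x ^ 2 := by
    rw [← hg]
    group
  have hu₀c : Commute u₀ (x ^ 2) := by
    have h1 := htz.symm.map (MulAut.conj g⁻¹)
    simp only [MulAut.conj_apply, inv_inv] at h1
    rwa [hgt] at h1
  have hu₀o : orderOf u₀ = 2 := by
    have := orderOf_conj_eq g⁻¹ (x ^ 2)
    rw [inv_inv] at this
    rw [hu₀, this, H.zo]
  have hu₀ne : u₀ ≠ x ^ 2 := by
    intro e
    apply H.z_ne_t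
    have h1 : g⁻¹ * x ^ 2 * g = g⁻¹ * t * g := by rw [← hu₀, e, hgt]
    exact mul_left_cancel (mul_right_cancel h1)
  have hmem : u₀ ∈ Iz (x ^ (4 / 2)) := mem_Iz.mpr ⟨hu₀o, hu₀c, hu₀ne⟩
  rw [hc.Iz_eq_union, Finset.mem_union, mem_orb, mem_orb] at hmem
  have hxz : x * x ^ 2 * x⁻¹ = x ^ 2 := by
    rw [comm_xz.eq]
    group
  have hxt := H.conj_xt
  rcases hmem with ⟨c, hc₁, hc₂⟩ | ⟨c, hc₁, hc₂⟩
  · -- `h` swaps `z` and `t`
    set h := c⁻¹ * g⁻¹ with hh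
    have h1 : h * t * h⁻¹ = x ^ 2 := by
      have e : h * t * h⁻¹ = c⁻¹ * (g⁻¹ * t * g) * c := by rw [hh]; group
      rw [e, hgt]
      have hc' : Commute (x ^ 2) c := hc₁
      rw [← hc'.inv_right.eq]
      group
    have h2 : h * x ^ 2 * h⁻¹ = t := by
      have e : h * x ^ 2 * h⁻¹ = c⁻¹ * u₀ * c := by rw [hh, hu₀]; group
      rw [e, ← hc₂]
      group
    refine ⟨h * x, ?_, ?_⟩
    · calc h * x * x ^ 2 * (h * x)⁻¹ = h * (x * x ^ 2 * x⁻¹) * h⁻¹ := by group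
        _ = t := by rw [hxz, h2]
    · calc h * x * t * (h * x)⁻¹ = h * (x * t * x⁻¹) * h⁻¹ := by group
        _ = h * (x ^ 2 * t) * h⁻¹ := by rw [hxt]
        _ = (h * x ^ 2 * h⁻¹) * (h * t * h⁻¹) := by group
        _ = t * x ^ 2 := by rw [h2, h1]
        _ = x ^ 2 * t := htz.eq
  · -- `h` maps `t` to `z`, `z` to `x t`
    set h := c⁻¹ * g⁻¹ with hh
    have h1 : h * t * h⁻¹ = x ^ 2 := by
      have e : h * t * h⁻¹ = c⁻¹ * (g⁻¹ * t * g) * c := by rw [hh]; group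
      rw [e, hgt]
      have hc' : Commute (x ^ 2) c := hc₁
      rw [← hc'.inv_right.eq]
      group
    have h2 : h * x ^ 2 * h⁻¹ = x * t := by
      have e : h * x ^ 2 * h⁻¹ = c⁻¹ * u₀ * c := by rw [hh, hu₀]; group
      rw [e, ← hc₂]
      group
    have h1' : h⁻¹ * x ^ 2 * h = t := by
      rw [← h1]
      group
    have h2' : h⁻¹ * (x * t) * h = x ^ 2 := by
      rw [← h2]
      group
    set g₀ := h⁻¹ * x * h with hg₀
    have e1 : g₀ * x ^ 2 * g₀⁻¹ = t * x ^ 2 := by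
      have e2 : x * (x * t) * x⁻¹ = x ^ 2 * (x * t) := by
        calc x * (x * t) * x⁻¹ = x * (x * t * x⁻¹) := by group
          _ = x * (x ^ 2 * t) := by rw [hxt]
          _ = (x * x ^ 2) * t := by group
          _ = (x ^ 2 * x) * t := by rw [comm_xz.eq]
          _ = _ := by group
      calc g₀ * x ^ 2 * g₀⁻¹ = h⁻¹ * (x * (h * x ^ 2 * h⁻¹) * x⁻¹) * h := by rw [hg₀]; group
        _ = h⁻¹ * (x ^ 2 * (x * t)) * h := by rw [h2, e2]
        _ = (h⁻¹ * x ^ 2 * h) * (h⁻¹ * (x * t) * h) := by group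
        _ = t * x ^ 2 := by rw [h1', h2']
    have e3 : g₀ * t * g₀⁻¹ = t := by
      calc g₀ * t * g₀⁻¹ = h⁻¹ * (x * (h * t * h⁻¹) * x⁻¹) * h := by rw [hg₀]; group
        _ = h⁻¹ * x ^ 2 * h := by rw [h1, hxz]
        _ = t := h1'
    refine ⟨x * g₀, ?_, ?_⟩
    · calc x * g₀ * x ^ 2 * (x * g₀)⁻¹ = x * (g₀ * x ^ 2 * g₀⁻¹) * x⁻¹ := by group
        _ = x * (t * x ^ 2) * x⁻¹ := by rw [e1]
        _ = (x * t * x⁻¹) * (x * x ^ 2 * x⁻¹) := by group
        _ = (x ^ 2 * t) * x ^ 2 := by rw [hxt, hxz]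
        _ = x ^ 2 * (t * x ^ 2) := by group
        _ = x ^ 2 * (x ^ 2 * t) := by rw [htz.eq]
        _ = t := by rw [← mul_assoc, H.zz, one_mul]
    · calc x * g₀ * t * (x * g₀)⁻¹ = x * (g₀ * t * g₀⁻¹) * x⁻¹ := by group
        _ = x ^ 2 * t := by rw [e3, hxt]

/-- An element of odd order permuting `z, t, z t` cyclically. -/
theorem exists_sigma (H : Hyp P x t) :
    ∃ s : G, s * x ^ 2 * s⁻¹ = t ∧ s * t * s⁻¹ = x ^ 2 * t ∧ ¬ 2 ∣ orderOf s := by
  obtain ⟨s₀, h1, h2⟩ := H.exists_sigma₀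
  have htz := H.comm_tz
  have hzz := H.zz
  have htt := H.tt
  have h3 : s₀ * (x ^ 2 * t) * s₀⁻¹ = x ^ 2 := by
    calc s₀ * (x ^ 2 * t) * s₀⁻¹ = (s₀ * x ^ 2 * s₀⁻¹) * (s₀ * t * s₀⁻¹) := by group
      _ = t * (x ^ 2 * t) := by rw [h1, h2]
      _ = (x ^ 2 * t) * t := by rw [← mul_assoc, htz.eq]
      _ = x ^ 2 := by rw [mul_assoc, htt, mul_one]
  have h4 : ∀ q : ℕ, s₀ ^ (3 * q + 1) * x ^ 2 * (s₀ ^ (3 * q + 1))⁻¹ = t ∧
      s₀ ^ (3 * q + 1) * t * (s₀ ^ (3 * q + 1))⁻¹ = x ^ 2 * t := by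
    intro q
    induction q with
    | zero => simpa using ⟨h1, h2⟩
    | succ q ih =>
      have e : 3 * (q + 1) + 1 = 3 + (3 * q + 1) := by ring
      have h5 : s₀ ^ 3 * t * (s₀ ^ 3)⁻¹ = t := by
        calc s₀ ^ 3 * t * (s₀ ^ 3)⁻¹ = s₀ * (s₀ * (s₀ * t * s₀⁻¹) * s₀⁻¹) * s₀⁻¹ := by
              simp only [pow_succ, pow_zero, one_mul]
              group
          _ = t := by rw [h2, h3, h1]
      have h6 : s₀ ^ 3 * (x ^ 2 * t) * (s₀ ^ 3)⁻¹ = x ^ 2 * t := by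
        calc s₀ ^ 3 * (x ^ 2 * t) * (s₀ ^ 3)⁻¹ = s₀ * (s₀ * (s₀ * (x ^ 2 * t) * s₀⁻¹) * s₀⁻¹) * s₀⁻¹ := by
              simp only [pow_succ, pow_zero, one_mul]
              group
          _ = x ^ 2 * t := by rw [h3, h1, h2]
      rw [e, pow_add]
      constructor
      · calc s₀ ^ 3 * s₀ ^ (3 * q + 1) * x ^ 2 * (s₀ ^ 3 * s₀ ^ (3 * q + 1))⁻¹
            = s₀ ^ 3 * (s₀ ^ (3 * q + 1) * x ^ 2 * (s₀ ^ (3 * q + 1))⁻¹) * (s₀ ^ 3)⁻¹ := by group
          _ = t := by rw [ih.1, h5]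
      · calc s₀ ^ 3 * s₀ ^ (3 * q + 1) * t * (s₀ ^ 3 * s₀ ^ (3 * q + 1))⁻¹
            = s₀ ^ 3 * (s₀ ^ (3 * q + 1) * t * (s₀ ^ (3 * q + 1))⁻¹) * (s₀ ^ 3)⁻¹ := by group
          _ = x ^ 2 * t := by rw [ih.2, h6]
  obtain ⟨k, r, hr, hkr⟩ := Nat.exists_eq_two_pow_mul_odd (orderOf_pos s₀).ne'
  have h4k : ∃ q, 4 ^ k = 3 * q + 1 := by
    have h5 : 4 ^ k % 3 = 1 := by
      rw [Nat.pow_mod]
      norm_num
    exact ⟨4 ^ k / 3, by omega⟩
  obtain ⟨q, hq⟩ := h4k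
  obtain ⟨h5, h6⟩ := h4 q
  rw [← hq] at h5 h6
  refine ⟨s₀ ^ 4 ^ k, h5, h6, ?_⟩
  have h7 : (s₀ ^ 4 ^ k) ^ r = 1 := by
    have h8 : 4 ^ k * r = 2 ^ k * (2 ^ k * r) := by
      rw [show (4 : ℕ) = 2 * 2 by norm_num, mul_pow]
      ring
    rw [← pow_mul, h8, mul_comm (2 ^ k), pow_mul, ← hkr, pow_orderOf_eq_one, one_pow]
  have h8 : orderOf (s₀ ^ 4 ^ k) ∣ r := orderOf_dvd_of_pow_eq_one h7
  intro h9
  have h10 := dvd_trans h9 h8
  obtain ⟨w, hw⟩ := hr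
  omega

theorem conj_mem_AA (H : Hyp P x t) {s y : G} (h1 : s * x ^ 2 * s⁻¹ = t)
    (h2 : s * t * s⁻¹ = x ^ 2 * t) (hy : y ∈ AA x t) : s * y * s⁻¹ ∈ AA x t := by
  obtain ⟨hyO, hyt⟩ := mem_AA.mp hy
  obtain ⟨hyz, hyo⟩ := H.mem_O_z.mp hyO
  have h3 : Commute (s * y * s⁻¹) t := by
    have := hyz.map (MulAut.conj s)
    simpa [MulAut.conj_apply, h1] using this
  have h4 : Commute (s * y * s⁻¹) (x ^ 2 * t) := by
    have := hyt.map (MulAut.conj s)
    simpa [MulAut.conj_apply, h2] using this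
  have h5 : Commute (s * y * s⁻¹) (x ^ 2) := by
    have h6 := h4.mul_right h3.inv_right
    simpa using h6
  refine mem_AA.mpr ⟨H.mem_O_z.mpr ⟨h5, ?_⟩, h3⟩
  rw [orderOf_conj_eq]
  exact hyo

/-- The element `σ` centralizes the part of the core fixed by `t`. -/
theorem sigma_comm (H : Hyp P x t) {s y : G} (h1 : s * x ^ 2 * s⁻¹ = t)
    (h2 : s * t * s⁻¹ = x ^ 2 * t) (h3 : ¬ 2 ∣ orderOf s) (hy : y ∈ AA x t) : s * y = y * s := by
  have hxz : x * x ^ 2 * x⁻¹ = x ^ 2 := by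
    rw [comm_xz.eq]
    group
  have hxt := H.conj_xt
  have htz := H.comm_tz
  have hzz := H.zz
  have htt := H.tt
  have hxit : x⁻¹ * t * x = x ^ 2 * t := by
    have h4 : x⁻¹ * (x ^ 2 * t) * x = t := by
      rw [← hxt]
      group
    have h5 : x⁻¹ * x ^ 2 * x = x ^ 2 := by
      rw [mul_assoc, ← comm_xz.eq]
      group
    calc x⁻¹ * t * x = x ^ 2 * (x ^ 2 * (x⁻¹ * t * x)) := by rw [← mul_assoc, hzz, one_mul]
      _ = x ^ 2 * ((x⁻¹ * x ^ 2 * x) * (x⁻¹ * t * x)) := by rw [h5]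
      _ = x ^ 2 * (x⁻¹ * (x ^ 2 * t) * x) := by group
      _ = x ^ 2 * t := by rw [h4]
  have hxizt : x⁻¹ * (x ^ 2 * t) * x = t := by
    rw [← hxt]
    group
  have hszt : s * (x ^ 2 * t) * s⁻¹ = x ^ 2 := by
    calc s * (x ^ 2 * t) * s⁻¹ = (s * x ^ 2 * s⁻¹) * (s * t * s⁻¹) := by group
      _ = t * (x ^ 2 * t) := by rw [h1, h2]
      _ = (x ^ 2 * t) * t := by rw [← mul_assoc, htz.eq]
      _ = x ^ 2 := by rw [mul_assoc, htt, mul_one]
  set c := x * s * x⁻¹ * s with hc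
  have hcz : c * x ^ 2 * c⁻¹ = x ^ 2 := by
    calc c * x ^ 2 * c⁻¹ = x * (s * (x⁻¹ * (s * x ^ 2 * s⁻¹) * x) * s⁻¹) * x⁻¹ := by rw [hc]; group
      _ = x * (s * (x ^ 2 * t) * s⁻¹) * x⁻¹ := by rw [h1, hxit]
      _ = x ^ 2 := by rw [hszt, hxz]
  have hct : c * t * c⁻¹ = t := by
    calc c * t * c⁻¹ = x * (s * (x⁻¹ * (s * t * s⁻¹) * x) * s⁻¹) * x⁻¹ := by rw [hc]; group
      _ = x * (s * t * s⁻¹) * x⁻¹ := by rw [h2, hxizt, h2]
      _ = x * (x ^ 2 * t) * x⁻¹ := by rw [h2]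
      _ = (x * x ^ 2 * x⁻¹) * (x * t * x⁻¹) := by group
      _ = x ^ 2 * (x ^ 2 * t) := by rw [hxz, hxt]
      _ = t := by rw [← mul_assoc, hzz, one_mul]
  have hcC : c ∈ centralizer ({x ^ 2, t} : Set G) := by
    refine mem_C₂.mpr ⟨?_, ?_⟩
    · show c * x ^ 2 = x ^ 2 * c
      calc c * x ^ 2 = (c * x ^ 2 * c⁻¹) * c := by group
        _ = _ := by rw [hcz]
    · show c * t = t * c
      calc c * t = (c * t * c⁻¹) * c := by group
        _ = _ := by rw [hct]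
  have hcy : c * y * c⁻¹ = y := by
    have := (H.comm_of_C₂ hcC hy).eq
    rw [this]
    group
  set y₁ := s * y * s⁻¹ with hy₁
  have hy₁A : y₁ ∈ AA x t := H.conj_mem_AA h1 h2 hy
  set y₂ := s * y₁ * s⁻¹ with hy₂
  have hy₂A : y₂ ∈ AA x t := H.conj_mem_AA h1 h2 hy₁A
  have hi₁ : x⁻¹ * y₁ * x = y₁⁻¹ := by
    have h6 : x * y₁⁻¹ * x⁻¹ = y₁ := by
      have h7 := H.inv_O ((O (x ^ 2)).inv_mem (mem_AA.mp hy₁A).1)
      simpa using h7
    calc x⁻¹ * y₁ * x = x⁻¹ * (x * y₁⁻¹ * x⁻¹) * x := by rw [h6]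
      _ = _ := by group
  have hi₂ : x * y₂⁻¹ * x⁻¹ = y₂ := by
    have h7 := H.inv_O ((O (x ^ 2)).inv_mem (mem_AA.mp hy₂A).1)
    simpa using h7
  have hfin : y₂ = y := by
    calc y₂ = x * y₂⁻¹ * x⁻¹ := hi₂.symm
      _ = x * (s * y₁⁻¹ * s⁻¹) * x⁻¹ := by rw [hy₂]; group
      _ = x * (s * (x⁻¹ * y₁ * x) * s⁻¹) * x⁻¹ := by rw [hi₁]
      _ = c * y * c⁻¹ := by rw [hc, hy₁]; group
      _ = y := hcy
  have hss : Commute (s * s) y := by
    show s * s * y = y * (s * s)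
    have h8 : (s * s) * y * (s * s)⁻¹ = y := by
      have h10 : y₂ = (s * s) * y * (s * s)⁻¹ := by
        rw [hy₂, hy₁]
        group
      exact h10.symm.trans hfin
    calc s * s * y = ((s * s) * y * (s * s)⁻¹) * (s * s) := by group
      _ = _ := by rw [h8]
  obtain ⟨k, hk⟩ := exists_sq_pow h3
  have h9 : Commute s y := by
    rw [← hk]
    exact hss.pow_left k
  exact h9.eq

end Hyp

end Cfsg.Agent.Lib.Cent4
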