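import Cfsg.Agent.Lib.Cent4.Both2

/-!
# The order of a simple group with a dihedral Sylow subgroup of order eight and a self-centralizing
element of order four
-/

set_option autoImplicit false
set_option linter.unusedSectionVars false
set_option linter.style.haveILetI false
set_option linter.unusedVariables false

namespace Cfsg.Agent.Lib.Cent4

open Cfsg Subgroup
open Cfsg.Agent.Lib.V4Block Cfsg.Agent.Lib.DihBlock

universe u

variable {G : Type u} [Group G] [Fintype G]

namespace Hyp

variable {P : Sylow 2 G} {x t : G}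

/-- The centralizer has index two in `QQ a₀`. -/
theorem card_QQ_eq (H : Hyp P x t) {a₀ : G} (ha : a₀ ∈ AA x t) (hne : a₀ ≠ 1) :
    Nat.card (QQ a₀) = Nat.card (centralizer ({a₀} : Set G)) * 2 := by
  classical
  have hoa : ¬ 2 ∣ orderOf a₀ := (H.mem_O_z.mp (mem_AA.mp ha).1).2
  have hinv : a₀ ≠ a₀⁻¹ := ne_inv_of_odd hoa hne
  have hxa : x * a₀ * x⁻¹ = a₀⁻¹ := H.inv_O (mem_AA.mp ha).1
  have hxT : x ∈ QQ a₀ := Or.inr hxa
  let K : Subgroup (QQ a₀) := (centralizer ({a₀} : Set G)).subgroupOf (QQ a₀)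
  have hmemK : ∀ y : QQ a₀, y ∈ K ↔ (y : G) * a₀ * (y : G)⁻¹ = a₀ := by
    intro y
    rw [Subgroup.mem_subgroupOf, mem_centralizer_singleton_iff]
    constructor
    · intro h
      rw [h]
      group
    · intro h
      calc (y : G) * a₀ = ((y : G) * a₀ * (y : G)⁻¹) * y := by group
        _ = a₀ * y := by rw [h]
  have hK : K.index = 2 := by
    refine Subgroup.index_eq_two_iff.mpr ⟨⟨x, hxT⟩, fun b => ?_⟩
    have hb : (b : G) * a₀ * (b : G)⁻¹ = a₀ ∨ (b : G) * a₀ * (b : G)⁻¹ = a₀⁻¹ := b.2
    have e : ((b * ⟨x, hxT⟩ : QQ a₀) : G) * a₀ * ((b * ⟨x, hxT⟩ : QQ a₀) : G)⁻¹ =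
        ((b : G) * a₀ * (b : G)⁻¹)⁻¹ := by
      show (b : G) * x * a₀ * ((b : G) * x)⁻¹ = _
      calc (b : G) * x * a₀ * ((b : G) * x)⁻¹ = (b : G) * (x * a₀ * x⁻¹) * (b : G)⁻¹ := by group
        _ = (b : G) * a₀⁻¹ * (b : G)⁻¹ := by rw [hxa]
        _ = _ := by group
    rw [hmemK, hmemK, e]
    rcases hb with hb | hb
    · rw [hb]
      exact Or.inr ⟨rfl, fun h => hinv h.symm⟩
    · rw [hb, inv_inv]
      exact Or.inl ⟨rfl, fun h => hinv h.symm⟩
  have h1 := Subgroup.card_mul_index K
  rw [hK] at h1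
  rw [← h1]
  congr 1
  apply Nat.card_congr
  refine ⟨fun y => ⟨y.1.1, y.2⟩, fun y => ⟨⟨y.1, Or.inl ?_⟩, ?_⟩, ?_, ?_⟩
  · rw [mem_centralizer_singleton_iff.mp y.2]
    group
  · exact Subgroup.mem_subgroupOf.mpr y.2
  · intro y
    rfl
  · intro y
    rfl

/-- There is no such group of order `7560`. -/
theorem no_7560 (H : Hyp P x t) (hn : Nat.card G = 7560) (ha : Nat.card (AA x t) = 5)
    (hb : Nat.card (AA x (x * t)) = 1) : False := by
  classical
  haveI : Fact (Nat.Prime 5) := ⟨by norm_num⟩
  obtain ⟨a₀, ha₀, hne⟩ : ∃ a₀ ∈ AA x t, a₀ ≠ 1 := by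
    apply (Subgroup.nontrivial_iff_exists_ne_one _).mp
    apply Finite.one_lt_card_iff_nontrivial.mp
    rw [ha]
    norm_num
  have hoa : orderOf a₀ = 5 := by
    have h1 : orderOf a₀ ∣ 5 := by
      rw [← ha]
      exact Subgroup.orderOf_dvd_natCard _ ha₀
    rcases (Nat.dvd_prime (by norm_num)).mp h1 with h2 | h2
    · exact absurd (orderOf_eq_one_iff.mp h2) hne
    · exact h2
  obtain ⟨D, hD, h1, h2⟩ := H.L_main ha₀ hne
  have hy : Nat.card (O (x * t) ⊓ centralizer ({a₀} : Set G) : Subgroup G) ∣ 5 := by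
    have h3 : Nat.card (O (x * t)) = 5 := by
      rw [H.card_O H.ord_xt, H.card_O_eq, ha, hb]
    rw [← h3]
    exact Subgroup.card_dvd_of_le inf_le_left
  rw [ha, hb] at h1
  rw [hb] at h2
  have hQ : Nat.card (QQ a₀) = 120 := by
    rcases (Nat.dvd_prime (by norm_num)).mp hy with h3 | h3
    · rw [h3] at h2
      push_cast at h1 h2
      have hD3 : D = -3 := by linarith
      rw [hD3] at h1
      have h4 : (Nat.card (QQ a₀) : ℤ) = 120 := by linarith
      exact_mod_cast h4
    · rw [h3] at h2
      push_cast at h2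
      exfalso
      omega
  have hC : Nat.card (centralizer ({a₀} : Set G)) = 60 := by
    have h3 := H.card_QQ_eq ha₀ hne
    omega
  set S : Subgroup G := zpowers a₀ with hS
  have hScard : Nat.card S = 5 := by
    rw [hS, Nat.card_zpowers, hoa]
  have hSp : IsPGroup 5 S := by
    apply IsPGroup.of_card (n := 1)
    rw [hScard, pow_one]
  obtain ⟨R, hR⟩ := hSp.exists_le_sylow
  have hRcard : Nat.card (R : Subgroup G) = 5 := by
    rw [R.card_eq_multiplicity, hn]
    have h3 : (7560 : ℕ) = 5 ^ 1 * 1512 := by norm_num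
    have h4 : Nat.factorization 7560 5 = 1 := by
      rw [h3, Nat.factorization_mul (by norm_num) (by norm_num), Finsupp.add_apply,
        Nat.Prime.factorization_pow (by norm_num), Finsupp.single_apply, if_pos rfl,
        Nat.factorization_eq_zero_of_not_dvd (by norm_num)]
    rw [h4, pow_one]
  have hRS : (R : Subgroup G) = S := by
    symm
    exact Subgroup.eq_of_le_of_card_ge hR (by rw [hScard, hRcard])
  have hidx : Nat.card (Sylow 5 G) = (normalizer (S : Set G)).index := by
    rw [← hRS]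
    exact R.card_eq_index_normalizer
  have hmod := card_sylow_modEq_one 5 G
  have hN := Subgroup.card_mul_index (normalizer ((R : Subgroup G) : Set G))
  rw [hn, hRS] at hN
  have hQN : QQ a₀ ≤ normalizer (S : Set G) := by
    intro g hg
    refine mem_normalizer_of_conj fun y hy => ?_
    obtain ⟨k, rfl⟩ := mem_zpowers_iff.mp hy
    rw [← _root_.conj_zpow]
    refine zpow_mem ?_ k
    rcases hg with hg | hg
    · rw [hg]
      exact mem_zpowers a₀
    · rw [hg]
      exact (zpowers a₀).inv_mem (mem_zpowers a₀)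
  have hd1 : 120 ∣ Nat.card (normalizer (S : Set G)) := by
    rw [← hQ]
    exact Subgroup.card_dvd_of_le hQN
  have hle : Nat.card (normalizer (S : Set G)) ≤ 240 := by
    have h3 : Nat.card S.normalizerMonoidHom.ker * Nat.card S.normalizerMonoidHom.range =
        Nat.card (normalizer (S : Set G)) := by
      rw [← Subgroup.index_ker, Subgroup.card_mul_index]
    have h4 : Nat.card S.normalizerMonoidHom.ker ≤ 60 := by
      rw [← hC]
      have hmem : ∀ y : S.normalizerMonoidHom.ker,
          ((y : normalizer (S : Set G)) : G) ∈ centralizer ({a₀} : Set G) := by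
        intro y
        have h5 : (y : normalizer (S : Set G)) ∈
            (centralizer (S : Set G)).subgroupOf (normalizer (S : Set G)) := by
          rw [← Subgroup.normalizerMonoidHom_ker]
          exact y.2
        rw [Subgroup.mem_subgroupOf] at h5
        have h6 := Subgroup.mem_centralizer_iff.mp h5 a₀ (mem_zpowers a₀)
        exact mem_centralizer_singleton_iff.mpr h6.symm
      have : Nat.card S.normalizerMonoidHom.ker ≤
          Nat.card (centralizer ({a₀} : Set G)) := by
        refine Nat.card_le_card_of_injective (fun y => ⟨_, hmem y⟩) ?_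
        intro y w e
        have e' : ((y : normalizer (S : Set G)) : G) = ((w : normalizer (S : Set G)) : G) :=
          congrArg (fun c : centralizer ({a₀} : Set G) => (c : G)) e
        exact Subtype.ext (Subtype.ext e')
      exact this
    have h5 : Nat.card S.normalizerMonoidHom.range ≤ 4 := by
      haveI : IsCyclic S := by
        rw [hS]
        infer_instance
      have h6 : Nat.card (MulAut S) = 4 := by
        rw [IsCyclic.card_mulAut, hScard]
        decide
      rw [← h6]
      exact Subgroup.card_le_card_group _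
    calc Nat.card (normalizer (S : Set G))
        = Nat.card S.normalizerMonoidHom.ker * Nat.card S.normalizerMonoidHom.range := h3.symm
      _ ≤ 60 * 4 := Nat.mul_le_mul h4 h5
      _ = 240 := by norm_num
  obtain ⟨k, hk⟩ := hd1
  have hk12 : k = 1 := by
    have hk0 : k ≠ 0 := by
      rintro rfl
      have h3 : 0 < Nat.card (normalizer (S : Set G)) := Nat.card_pos
      omega
    have hk2 : k ≤ 2 := by omega
    have hk1 : k = 1 ∨ k = 2 := by omega
    rcases hk1 with h3 | h3
    · exact h3
    · exfalso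
      rw [hk, h3] at hN
      omega
  rw [hk, hk12] at hN
  have h63 : (normalizer (S : Set G)).index = 63 := by omega
  rw [hidx, h63] at hmod
  exact absurd hmod (by decide)

/-- The case `b = 1`. -/
theorem card_of_b_one (H : Hyp P x t) (hb : Nat.card (AA x (x * t)) = 1) :
    Nat.card G = 168 ∨ Nat.card G = 360 ∨ Nat.card G = 2520 := by
  obtain ⟨m, s, f₂, f₃, hm, hn, hs, hs0, hII, hI⟩ := H.eqs_abm
  rw [hb] at hn hII hI
  have hod := H.odd_AA
  have hod' : Odd (Nat.card (AA x t) : ℤ) := by exact_mod_cast hod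
  have hpos : (0 : ℤ) < (Nat.card (AA x t) : ℤ) := by exact_mod_cast Nat.card_pos
  push_cast at hII hI hn
  have hI' : (Nat.card (AA x t) : ℤ) * (1 - 4 * s) * (4 * f₂ - 1) * (4 * f₃ - 1) =
      m * (1 - 2 * s) * f₂ * f₃ := by
    rw [← hI]
    ring
  rcases arith_b_one hod' hpos hm hs0 hs hII hI' with ⟨h1, h2 | h2⟩ | ⟨h1, h2⟩ | ⟨h1, h2⟩
  · left
    rw [h1, h2] at hn
    have : (Nat.card G : ℤ) = 168 := by rw [hn]; norm_num
    exact_mod_cast this
  · right; left
    rw [h1, h2] at hn
    have : (Nat.card G : ℤ) = 360 := by rw [hn]; norm_num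
    exact_mod_cast this
  · right; right
    rw [h1, h2] at hn
    have : (Nat.card G : ℤ) = 2520 := by rw [hn]; norm_num
    exact_mod_cast this
  · exfalso
    rw [h1, h2] at hn
    have h3 : (Nat.card G : ℤ) = 7560 := by rw [hn]; norm_num
    have h4 : Nat.card G = 7560 := by exact_mod_cast h3
    have h5 : Nat.card (AA x t) = 5 := by exact_mod_cast h1
    exact H.no_7560 h4 h5 hb

/-- The order of the group. -/
theorem card_of_hyp [IsSimpleGroup G] (H : Hyp P x t) :
    Nat.card G = 168 ∨ Nat.card G = 360 ∨ Nat.card G = 2520 := by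
  by_cases hb : Nat.card (AA x (x * t)) = 1
  · exact H.card_of_b_one hb
  by_cases ha : Nat.card (AA x t) = 1
  · have e2 : x * (x * t) = x ^ 2 * t := by rw [pow_two, mul_assoc]
    refine H.swap.card_of_b_one ?_
    rw [e2, H.AA_z_mul]
    exact ha
  exfalso
  have hex : ∀ A : Subgroup G, Nat.card A ≠ 1 → ∃ a₀ ∈ A, a₀ ≠ 1 := by
    intro A hA
    apply (Subgroup.nontrivial_iff_exists_ne_one _).mp
    apply Finite.one_lt_card_iff_nontrivial.mp
    have : 0 < Nat.card A := Nat.card_pos
    omega
  obtain ⟨a₀, ha₀, ha1⟩ := hex _ ha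
  obtain ⟨b₀, hb₀, hb1⟩ := hex _ hb
  obtain ⟨X, hXn, hX0, hXc⟩ := H.exists_normal ha₀ ha1 hb₀ hb1
  have hXtop : X = ⊤ := by
    rcases hXn.eq_bot_or_eq_top with h | h
    · exact absurd h hX0
    · exact h
  have hc : Commute t x := hXc t (by rw [hXtop]; trivial) x (by rw [hXtop]; trivial)
  have h1 := H.ctx.rel
  have h2 : t * x * t⁻¹ = x := by
    rw [hc.eq]
    group
  rw [h2] at h1
  have h3 : x ^ 2 = 1 := by
    rw [pow_two]
    nth_rw 2 [h1]
    exact mul_inv_cancel x
  have h4 := H.zo
  rw [h3, orderOf_one] at h4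
  omega

end Hyp

end Cfsg.Agent.Lib.Cent4
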