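import Cfsg.Agent.Lib.Cent4.Card
import Cfsg.Agent.Lib.BlockH.Basic

/-!
# The order formulas in terms of the orders of the two parts of the odd core
-/

set_option autoImplicit false
set_option linter.unusedSectionVars false
set_option linter.style.haveILetI false
set_option linter.unusedVariables false

namespace Cfsg.Agent.Lib.Cent4

open Cfsg Subgroup
open Cfsg.Agent.Lib.V4Block Cfsg.Agent.Lib.DihBlock

universe u

variable {G : Type u} [Group G] [Fintype G]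

/-- A subgroup with only elements of odd order has odd order. -/
theorem odd_card_of_forall {A : Subgroup G} (h : ∀ y ∈ A, ¬ 2 ∣ orderOf y) : Odd (Nat.card A) := by
  by_contra hn
  rw [Nat.not_odd_iff_even, even_iff_two_dvd] at hn
  haveI : Fact (Nat.Prime 2) := ⟨Nat.prime_two⟩
  obtain ⟨y, hy⟩ := exists_prime_orderOf_dvd_card' 2 hn
  apply h y y.2
  rw [← Subgroup.orderOf_coe] at hy
  rw [hy]

namespace Hyp

variable {P : Sylow 2 G} {x t : G}

theorem odd_AA (H : Hyp P x t) : Odd (Nat.card (AA x t)) :=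
  odd_card_of_forall fun y hy => (H.mem_O_z.mp (mem_AA.mp hy).1).2

/-- The index of `C(z)` is odd. -/
theorem odd_index (H : Hyp P x t) : Odd (centralizer ({x ^ 2} : Set G)).index := by
  haveI : Fact (Nat.Prime 2) := ⟨Nat.prime_two⟩
  have h1 : (P : Subgroup G) ≤ centralizer ({x ^ 2} : Set G) := fun y hy =>
    mem_centralizer_singleton_iff.mpr (H.ctx.J_comm hy).eq
  have h2 : (centralizer ({x ^ 2} : Set G)).index ∣ (P : Subgroup G).index :=
    Subgroup.index_dvd_of_le h1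
  have h3 : ¬ 2 ∣ (P : Subgroup G).index := P.not_dvd_index
  rw [Nat.odd_iff]
  have h4 : ¬ 2 ∣ (centralizer ({x ^ 2} : Set G)).index := fun h5 => h3 (h5.trans h2)
  omega

/-- The order formulas. -/
theorem eqs_abm (H : Hyp P x t) :
    ∃ m s f₂ f₃ : ℤ, Odd m ∧
      (Nat.card G : ℤ) = 8 * (Nat.card (AA x t) : ℤ) * (Nat.card (AA x (x * t)) : ℤ) * m ∧
      s = f₂ + f₃ ∧ s ≠ 0 ∧
      s ^ 2 * m = (1 - 4 * s) * (1 - 2 * s) *
        ((Nat.card (AA x t) : ℤ) + (Nat.card (AA x (x * t)) : ℤ)) ^ 2 ∧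
      (Nat.card (AA x t) : ℤ) * (Nat.card (AA x (x * t)) : ℤ) * (1 - 4 * s) * (4 * f₂ - 1) *
          (4 * f₃ - 1) = m * (1 - 2 * s) * f₂ * f₃ := by
  classical
  haveI : Finite (IrrCharacter G) := Cfsg.Agent.Lib.Char.Ortho.finite_irrCharacter
  letI : Fintype (IrrCharacter G) := Fintype.ofFinite _
  obtain ⟨M, hM⟩ := Cfsg.Agent.Lib.BlockH.Basic.exists_isPModular Nat.prime_two
  obtain ⟨s, f₂, f₃, hs, hs0, h1, h2⟩ := eqs_one_class H.ctx hM H.cen H.c1 H.c2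
  have hc := H.card_C₁
  rw [H.card_O_eq] at hc
  have hc₁ := H.card_C₂
  have hc₂ := H.swap.card_C₂
  have hn := (Subgroup.card_mul_index (centralizer ({x ^ 2} : Set G)))
  rw [hc] at hn
  rw [hc, hc₁, hc₂] at h1
  rw [hc] at h2
  set a := Nat.card (AA x t) with ha
  set b := Nat.card (AA x (x * t)) with hb
  set i := (centralizer ({x ^ 2} : Set G)).index with hi
  have hn' : (Nat.card G : ℤ) = 8 * (a : ℤ) * (b : ℤ) * (i : ℤ) := by
    rw [← hn]
    push_cast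
    ring
  have hi' : Odd (i : ℤ) := by exact_mod_cast H.odd_index
  have ha0 : (a : ℤ) ≠ 0 := Nat.cast_ne_zero.mpr Nat.card_pos.ne'
  have hb0 : (b : ℤ) ≠ 0 := Nat.cast_ne_zero.mpr Nat.card_pos.ne'
  rw [hn'] at h1 h2
  push_cast at h1 h2
  refine ⟨i, s, f₂, f₃, hi', hn', hs, hs0, ?_, ?_⟩
  · have h3 : (8192 * (a : ℤ) ^ 3 * (b : ℤ) ^ 3) * (s ^ 2 * (i : ℤ)) =
        (8192 * (a : ℤ) ^ 3 * (b : ℤ) ^ 3) * ((1 - 4 * s) * (1 - 2 * s) * ((a : ℤ) + b) ^ 2) := by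
      linear_combination h1
    exact mul_left_cancel₀ (by positivity) h3
  · have h3 : (64 * (a : ℤ) * (b : ℤ)) * ((a : ℤ) * b * (1 - 4 * s) * (4 * f₂ - 1) * (4 * f₃ - 1)) =
        (64 * (a : ℤ) * (b : ℤ)) * ((i : ℤ) * (1 - 2 * s) * f₂ * f₃) := by
      linear_combination h2
    exact mul_left_cancel₀ (by positivity) h3

/-- Passing to a subgroup containing `C(z)` and the fusion. -/
theorem sub (H : Hyp P x t) {T : Subgroup G} (hC : centralizer ({x ^ 2} : Set G) ≤ T)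
    {s₁ s₂ : G} (hs₁ : s₁ ∈ T) (h1 : s₁ * x ^ 2 * s₁⁻¹ = t) (hs₂ : s₂ ∈ T)
    (h2 : s₂ * x ^ 2 * s₂⁻¹ = x * t) (hP : (P : Subgroup G) ≤ T)
    (hxT : x ∈ T) (htT : t ∈ T) :
    Hyp (P.subtype hP) (⟨x, hxT⟩ : T) (⟨t, htT⟩ : T) := by
  have hc := H.ctx
  refine ⟨⟨hc.hN, hc.hNp, ?_, ?_, ?_, ?_, ?_, ?_⟩, ?_, ?_, ?_⟩
  · show (⟨x, hxT⟩ : T) ∈ (P : Subgroup G).subgroupOf T
    exact Subgroup.mem_subgroupOf.mpr hc.σP
  · show (⟨t, htT⟩ : T) ∈ (P : Subgroup G).subgroupOf T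
    exact Subgroup.mem_subgroupOf.mpr hc.τP
  · rw [Subgroup.orderOf_mk]; exact hc.σo
  · rw [Subgroup.orderOf_mk]; exact hc.τo
  · apply Subtype.ext
    exact hc.rel
  · rintro ⟨y, hyT⟩ hy
    have hy' : y ∈ (P : Subgroup G) := Subgroup.mem_subgroupOf.mp (show _ ∈ (P : Subgroup G).subgroupOf T from hy)
    obtain ⟨i, hi | hi⟩ := hc.gen y hy'
    · exact ⟨i, Or.inl (Subtype.ext hi)⟩
    · exact ⟨i, Or.inr (Subtype.ext hi)⟩
  · rintro ⟨g, hgT⟩ hg
    have hg' : Commute g x := congrArg Subtype.val hg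
    obtain ⟨k, hk⟩ := mem_zpowers_iff.mp (H.cen g hg')
    refine mem_zpowers_iff.mpr ⟨k, Subtype.ext ?_⟩
    simpa using hk
  · refine isConj_iff.mpr ⟨⟨s₁, hs₁⟩, Subtype.ext ?_⟩
    exact h1
  · refine isConj_iff.mpr ⟨⟨s₂, hs₂⟩, Subtype.ext ?_⟩
    exact h2

/-- The order of the centralizer of the four-group in a subgroup containing `C(z)`. -/
theorem card_C₂_sub {T : Subgroup G} (hC : centralizer ({x ^ 2} : Set G) ≤ T)
    {x' t' : T} (hx' : (x' : G) = x) (ht' : (t' : G) = t) :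
    Nat.card (centralizer ({x' ^ 2, t'} : Set T)) = Nat.card (centralizer ({x ^ 2, t} : Set G)) := by
  classical
  letI : Fintype T := Fintype.ofFinite T
  subst hx' ht'
  apply Nat.card_congr
  refine ⟨fun y => ⟨(y : T), ?_⟩, fun g => ⟨⟨g, ?_⟩, ?_⟩, ?_, ?_⟩
  · have h1 := mem_C₂.mp y.2
    refine mem_C₂.mpr ⟨?_, ?_⟩
    · have := congrArg Subtype.val h1.1
      exact this
    · have := congrArg Subtype.val h1.2
      exact this
  · exact hC (mem_centralizer_singleton_iff.mpr (mem_C₂.mp g.2).1)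
  · have h1 := mem_C₂.mp g.2
    refine mem_C₂.mpr ⟨Subtype.ext h1.1, Subtype.ext h1.2⟩
  · intro y
    rfl
  · intro y
    rfl

/-- A subgroup containing `C(z)` and the fusion is the whole group. -/
theorem eq_top_of_sub (H : Hyp P x t) {T : Subgroup G} (hC : centralizer ({x ^ 2} : Set G) ≤ T)
    {s₁ s₂ : G} (hs₁ : s₁ ∈ T) (h1 : s₁ * x ^ 2 * s₁⁻¹ = t) (hs₂ : s₂ ∈ T)
    (h2 : s₂ * x ^ 2 * s₂⁻¹ = x * t) : T = ⊤ := by
  classical
  have hP : (P : Subgroup G) ≤ T := fun y hy =>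
    hC (mem_centralizer_singleton_iff.mpr (H.ctx.J_comm hy).eq)
  have hxT : x ∈ T := hP H.ctx.σP
  have htT : t ∈ T := hP H.ctx.τP
  have HT := H.sub hC hs₁ h1 hs₂ h2 hP hxT htT
  have hac : Nat.card (AA (⟨x, hxT⟩ : T) (⟨t, htT⟩ : T)) = Nat.card (AA x t) := by
    have h3 := HT.card_C₂
    have h4 := H.card_C₂
    have h5 := card_C₂_sub (x := x) (t := t) hC (x' := ⟨x, hxT⟩) (t' := ⟨t, htT⟩) rfl rfl
    rw [h3, h4] at h5
    exact Nat.eq_of_mul_eq_mul_right (by norm_num) h5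
  have hbc : Nat.card (AA (⟨x, hxT⟩ : T) ((⟨x, hxT⟩ : T) * (⟨t, htT⟩ : T))) = Nat.card (AA x (x * t)) := by
    have h3 := HT.swap.card_C₂
    have h4 := H.swap.card_C₂
    have h5 := card_C₂_sub (x := x) (t := x * t) hC (x' := ⟨x, hxT⟩)
      (t' := (⟨x, hxT⟩ : T) * (⟨t, htT⟩ : T)) rfl rfl
    rw [h3, h4] at h5
    exact Nat.eq_of_mul_eq_mul_right (by norm_num) h5
  obtain ⟨m, s, f₂, f₃, hm, hn, -, hs0, hII, -⟩ := H.eqs_abm
  obtain ⟨m', s', f₂', f₃', hm', hn', -, hs0', hII', -⟩ := HT.eqs_abm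
  rw [hac, hbc] at hn' hII'
  have haod := H.odd_AA
  have hbod := H.swap.odd_AA
  set a := Nat.card (AA x t) with ha
  set b := Nat.card (AA x (x * t)) with hb
  have hev : Even ((a : ℤ) + (b : ℤ)) := by
    have ha' : Odd (a : ℤ) := by exact_mod_cast haod
    have hb' : Odd (b : ℤ) := by exact_mod_cast hbod
    exact ha'.add_odd hb'
  have hb1 := bound_m hev hm hs0 hII
  have hb2 := bound_m hev hm' hs0' hII'
  have hi := Subgroup.card_mul_index T
  have ha0 : (0 : ℤ) < (a : ℤ) := by exact_mod_cast Nat.card_pos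
  have hb0 : (0 : ℤ) < (b : ℤ) := by exact_mod_cast Nat.card_pos
  have hidx : m = m' * (T.index : ℤ) := by
    have h3 : (Nat.card G : ℤ) = (Nat.card T : ℤ) * (T.index : ℤ) := by
      exact_mod_cast hi.symm
    rw [hn, hn'] at h3
    have h4 : (8 * (a : ℤ) * b) * m = (8 * (a : ℤ) * b) * (m' * (T.index : ℤ)) := by
      linear_combination h3
    exact mul_left_cancel₀ (by positivity) h4
  have hiod : Odd (T.index : ℤ) := by
    rw [hidx] at hm
    exact (Int.odd_mul.mp hm).2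
  have hipos : (0 : ℤ) < (T.index : ℤ) := by
    have : 0 < T.index := Nat.pos_of_ne_zero (Subgroup.index_ne_zero_of_finite)
    exact_mod_cast this
  have hcpos : (0 : ℤ) < ((a : ℤ) + b) ^ 2 := by positivity
  set c2 := ((a : ℤ) + b) ^ 2 with hc2
  have hm'pos : 0 < m' := by nlinarith [hb2.1]
  have hle : (T.index : ℤ) ≤ 2 := by
    by_contra hcon
    have h3 : (3 : ℤ) ≤ (T.index : ℤ) := by omega
    have h4 : 3 * m' ≤ m' * (T.index : ℤ) := by nlinarith
    rw [← hidx] at h4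
    nlinarith [hb1.2, hb2.1]
  have h1i : (T.index : ℤ) = 1 := by
    obtain ⟨q, hq⟩ := hiod
    omega
  have h2i : T.index = 1 := by exact_mod_cast h1i
  exact Subgroup.index_eq_one.mp h2i

end Hyp

end Cfsg.Agent.Lib.Cent4
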