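import Cfsg.Agent.Lib.Cent4.Reduce2
import Cfsg.Agent.S0495
import Cfsg.Agent.S0497
import Cfsg.Agent.S3278
import Cfsg.Agent.S3331

/-!
# Simple groups with an element whose centralizer has order at most four
-/

set_option autoImplicit false
set_option linter.unusedSectionVars false
set_option linter.style.haveILetI false
set_option linter.unusedVariables false

namespace Cfsg.Agent.Lib.Cent4

open Cfsg Subgroup

universe u

variable {G : Type u} [Group G] [Finite G]

/-- A commutative simple group is cyclic. -/
theorem isCyclic_of_comm [IsSimpleGroup G] (h : ∀ a b : G, a * b = b * a) : IsCyclic G := by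
  obtain ⟨g, hg⟩ := exists_ne (1 : G)
  have hn : (zpowers g).Normal := by
    refine ⟨fun n hn c => ?_⟩
    rw [h c n]
    simpa using hn
  rcases hn.eq_bot_or_eq_top with h1 | h1
  · exfalso
    apply hg
    have : g ∈ zpowers g := mem_zpowers g
    rw [h1] at this
    exact (Subgroup.mem_bot).mp this
  · exact isCyclic_iff_exists_zpowers_eq_top.mpr ⟨g, h1⟩

/-- A simple group of order at most four is cyclic. -/
theorem false_of_card_le_four [IsSimpleGroup G] (hG : ¬ IsCyclic G) (h : Nat.card G ≤ 4) : False := by
  have h0 : 1 < Nat.card G := Finite.one_lt_card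
  have hcases : Nat.card G = 2 ∨ Nat.card G = 3 ∨ Nat.card G = 4 := by omega
  rcases hcases with h2 | h2 | h2
  · haveI : Fact (Nat.Prime 2) := ⟨Nat.prime_two⟩
    exact hG (isCyclic_of_prime_card h2)
  · haveI : Fact (Nat.Prime 3) := ⟨Nat.prime_three⟩
    exact hG (isCyclic_of_prime_card h2)
  · haveI : Fact (Nat.Prime 2) := ⟨Nat.prime_two⟩
    have hp : IsPGroup 2 G := IsPGroup.of_card (n := 2) (by rw [h2]; norm_num)
    have hc := hp.center_nontrivial
    have hcn : (center G).Normal := inferInstance
    have hct : center G = ⊤ := by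
      rcases hcn.eq_bot_or_eq_top with h1 | h1
      · rw [h1] at hc
        exact absurd hc (not_nontrivial _)
      · exact h1
    apply hG
    apply isCyclic_of_comm
    intro a b
    have : a ∈ center G := by rw [hct]; trivial
    exact (Subgroup.mem_center_iff.mp this b).symm

/-- The conclusion. -/
def Concl (G : Type u) [Group G] : Prop :=
  Nonempty (G ≃* ↥(alternatingGroup (Fin 5))) ∨ Nonempty (G ≃* ↥(alternatingGroup (Fin 6))) ∨
    Nonempty (G ≃* ↥(alternatingGroup (Fin 7))) ∨
    (∃ (F : Type) (_ : Field F) (_ : Fintype F), Fintype.card F = 7 ∧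
      Nonempty (G ≃* Matrix.ProjectiveSpecialLinearGroup (Fin 2) F))

theorem concl_psl (h : Nonempty (G ≃* Matrix.ProjectiveSpecialLinearGroup (Fin 2) (ZMod 7))) :
    Concl G := by
  haveI : Fact (Nat.Prime 7) := ⟨by norm_num⟩
  exact Or.inr (Or.inr (Or.inr ⟨ZMod 7, inferInstance, inferInstance, ZMod.card 7, h⟩))

theorem concl_of_card [IsSimpleGroup G]
    (hA7 : Nat.card G = 2520 → Nonempty (G ≃* ↥(alternatingGroup (Fin 7))))
    (h : Nat.card G = 168 ∨ Nat.card G = 360 ∨ Nat.card G = 2520) : Concl G := by
  rcases h with h | h | h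
  · haveI : Fact (Nat.Prime 7) := ⟨by norm_num⟩
    exact Or.inr (Or.inr (Or.inr ⟨ZMod 7, inferInstance, inferInstance, ZMod.card 7,
      Cfsg.Agent.S0495.result h (ZMod.card 7)⟩))
  · exact Or.inr (Or.inl (Cfsg.Agent.S0497.result h))
  · exact Or.inr (Or.inr (Or.inl (hA7 h)))

/-- The case of a centralizer of order three. -/
theorem concl_three [IsSimpleGroup G] (hG : ¬ IsCyclic G) {w : G} (hw1 : w ≠ 1)
    (hc : Nat.card (centralizer ({w} : Set G)) = 3) : Concl G := by
  have hwC : w ∈ centralizer ({w} : Set G) := mem_centralizer_singleton_iff.mpr rfl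
  have ho : orderOf w = 3 := by
    have h1 : orderOf w ∣ 3 := by
      rw [← hc]
      exact Subgroup.orderOf_dvd_natCard _ hwC
    rcases (Nat.dvd_prime Nat.prime_three).mp h1 with h2 | h2
    · exact absurd (orderOf_eq_one_iff.mp h2) hw1
    · exact h2
  have hX : Nat.card (zpowers w) = 3 := by rw [Nat.card_zpowers, ho]
  have hle1 : zpowers w ≤ centralizer ({w} : Set G) := (Subgroup.zpowers_le).mpr hwC
  have heq : zpowers w = centralizer ({w} : Set G) :=
    Subgroup.eq_of_le_of_card_ge hle1 (by rw [hc, hX])
  have hC : centralizer ((zpowers w : Subgroup G) : Set G) = zpowers w := by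
    apply le_antisymm
    · intro g hg
      rw [heq]
      refine mem_centralizer_singleton_iff.mpr ?_
      exact ((Subgroup.mem_centralizer_iff.mp hg) w (mem_zpowers w)).symm
    · intro g hg
      refine Subgroup.mem_centralizer_iff.mpr fun h hh => ?_
      obtain ⟨k, rfl⟩ := mem_zpowers_iff.mp hh
      obtain ⟨l, rfl⟩ := mem_zpowers_iff.mp hg
      exact ((Commute.refl w).zpow_zpow k l).eq
  rcases Cfsg.Agent.S3331.result (zpowers w) hX hC with
    ⟨N, hN, -, hcop, h3 | ⟨⟨e⟩⟩⟩ | ⟨N, hN, -, -, ⟨e⟩⟩ | h
  · exfalso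
    rcases hN.eq_bot_or_eq_top with h1 | h1
    · subst h1
      have h4 : Nat.card G = 3 := by
        have : Nat.card (G ⧸ (⊥ : Subgroup G)) = Nat.card G :=
          Nat.card_congr (QuotientGroup.quotientBot (G := G)).toEquiv
        omega
      exact false_of_card_le_four hG (by omega)
    · subst h1
      have h4 : orderOf w ∣ Nat.card G := orderOf_dvd_natCard w
      rw [ho] at h4
      rw [Subgroup.card_top] at hcop
      have := Nat.Coprime.eq_one_of_dvd hcop.symm h4
      omega
  · exfalso
    rcases hN.eq_bot_or_eq_top with h1 | h1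
    · subst h1
      -- the sign gives a normal subgroup of index two
      let φ : G →* ℤˣ := (Equiv.Perm.sign.comp e.toMonoidHom).comp (QuotientGroup.mk' (⊥ : Subgroup G))
      have hsurj : ∃ g, φ g = -1 := by
        obtain ⟨q, hq⟩ := e.surjective (Equiv.swap 0 1)
        obtain ⟨g, rfl⟩ := QuotientGroup.mk'_surjective (⊥ : Subgroup G) q
        refine ⟨g, ?_⟩
        show Equiv.Perm.sign (e (QuotientGroup.mk' (⊥ : Subgroup G) g)) = -1
        rw [hq]
        exact Equiv.Perm.sign_swap (by decide)
      have hker : φ.ker.Normal := inferInstance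
      rcases hker.eq_bot_or_eq_top with h2 | h2
      · have hinj : Function.Injective φ := (MonoidHom.ker_eq_bot_iff φ).mp h2
        have h3 : Nat.card G ≤ Nat.card ℤˣ := Nat.card_le_card_of_injective φ hinj
        have h4 : Nat.card ℤˣ = 2 := by
          rw [Nat.card_eq_fintype_card]
          rfl
        exact false_of_card_le_four hG (by omega)
      · obtain ⟨g, hg⟩ := hsurj
        have h3 : g ∈ φ.ker := by rw [h2]; trivial
        rw [MonoidHom.mem_ker] at h3
        rw [h3] at hg
        exact absurd hg (by decide)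
    · subst h1
      have h4 : Nat.card (G ⧸ (⊤ : Subgroup G)) = 1 := by
        show (⊤ : Subgroup G).index = 1
        exact Subgroup.index_top
      have h5 : Nat.card (Equiv.Perm (Fin 3)) = 1 := by
        rw [← h4]
        exact (Nat.card_congr e.toEquiv).symm
      rw [Nat.card_perm] at h5
      simp [Nat.factorial] at h5
  · rcases hN.eq_bot_or_eq_top with h1 | h1
    · subst h1
      exact Or.inl ⟨(QuotientGroup.quotientBot (G := G)).symm.trans e⟩
    · exfalso
      subst h1
      have h4 : Nat.card (G ⧸ (⊤ : Subgroup G)) = 1 := by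
        show (⊤ : Subgroup G).index = 1
        exact Subgroup.index_top
      have h5 : Nat.card (alternatingGroup (Fin 5)) = 1 := by
        rw [← h4]
        exact (Nat.card_congr e.toEquiv).symm
      haveI : Nontrivial (alternatingGroup (Fin 5)) :=
        alternatingGroup.nontrivial_of_three_le_card (by simp)
      have := Finite.one_lt_card (α := alternatingGroup (Fin 5))
      omega
  · exact concl_psl h

/-- The case of a centralizer of order two. -/
theorem false_two [IsSimpleGroup G] (hG : ¬ IsCyclic G) {w : G} (hw1 : w ≠ 1)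
    (hc : Nat.card (centralizer ({w} : Set G)) = 2) : False := by
  classical
  haveI : Fact (Nat.Prime 2) := ⟨Nat.prime_two⟩
  have hwC : w ∈ centralizer ({w} : Set G) := mem_centralizer_singleton_iff.mpr rfl
  have ho : orderOf w = 2 := by
    have h1 : orderOf w ∣ 2 := by
      rw [← hc]
      exact Subgroup.orderOf_dvd_natCard _ hwC
    rcases (Nat.dvd_prime Nat.prime_two).mp h1 with h2 | h2
    · exact absurd (orderOf_eq_one_iff.mp h2) hw1
    · exact h2
  have hX : Nat.card (zpowers w) = 2 := by rw [Nat.card_zpowers, ho]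
  have hle1 : zpowers w ≤ centralizer ({w} : Set G) := (Subgroup.zpowers_le).mpr hwC
  have heq : zpowers w = centralizer ({w} : Set G) :=
    Subgroup.eq_of_le_of_card_ge hle1 (by rw [hc, hX])
  have hxp : IsPGroup 2 (zpowers w) := IsPGroup.of_card (n := 1) (by rw [hX]; norm_num)
  obtain ⟨S, hS⟩ := hxp.exists_le_sylow
  have hwS : w ∈ (S : Subgroup G) := hS (mem_zpowers w)
  have hpS : IsPGroup 2 (S : Subgroup G) := S.isPGroup'
  haveI : Nontrivial (S : Subgroup G) := by
    refine (Subgroup.nontrivial_iff_exists_ne_one _).mpr ⟨w, hwS, hw1⟩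
  haveI := hpS.center_nontrivial
  obtain ⟨⟨c, hcZ⟩, hc1⟩ := exists_ne (1 : center (S : Subgroup G))
  have hc1' : (c : G) ≠ 1 := by
    intro e
    apply hc1
    apply Subtype.ext
    exact Subtype.ext e
  have hcw : Commute (c : G) w := by
    have h1 := Subgroup.mem_center_iff.mp hcZ ⟨w, hwS⟩
    exact (congrArg Subtype.val h1).symm
  have hcz : (c : G) ∈ zpowers w := by
    rw [heq]
    exact mem_centralizer_singleton_iff.mpr hcw
  have hcw' : (c : G) = w := by
    obtain ⟨k, hk⟩ := mem_zpowers_iff.mp hcz
    have h1 : w ^ (k % 2) = (c : G) := by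
      have h2 : ((orderOf w : ℕ) : ℤ) = 2 := by rw [ho]; rfl
      rw [← hk, ← h2, zpow_mod_orderOf]
    have h3 : k % 2 = 0 ∨ k % 2 = 1 := by omega
    rcases h3 with h3 | h3
    · rw [h3] at h1
      exact absurd h1.symm (by simpa using hc1')
    · rw [h3] at h1
      rw [← h1, zpow_one]
  have hSle : (S : Subgroup G) ≤ zpowers w := by
    intro y hy
    rw [heq]
    refine mem_centralizer_singleton_iff.mpr ?_
    have h1 := Subgroup.mem_center_iff.mp hcZ ⟨y, hy⟩
    have h2 : y * (c : G) = (c : G) * y := congrArg Subtype.val h1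
    rwa [hcw'] at h2
  have hST : (S : Subgroup G) = zpowers w := le_antisymm hSle ((Subgroup.zpowers_le).mpr hwS)
  have hr := card_eq_mul_relIndex (bot_le : (⊥ : Subgroup G) ≤ (S : Subgroup G))
  rw [Subgroup.card_bot, hST, hX] at hr
  have hidx : (⊥ : Subgroup G).relIndex (S : Subgroup G) = 2 := by
    rw [hST]
    omega
  have hord : ∀ y ∈ (S : Subgroup G), y ∉ (⊥ : Subgroup G) → 2 ^ (1 - 1) < orderOf y := by
    intro y _ hy
    have h1 : 0 < orderOf y := (isOfFinOrder_of_finite y).orderOf_pos
    have h2 : orderOf y ≠ 1 := fun e => hy (by rw [orderOf_eq_one_iff.mp e]; exact one_mem _)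
    norm_num
    omega
  obtain ⟨K, hKn, hKi, hK⟩ := Cfsg.Agent.Lib.InvolChar.TransferTwo.exists_ker_transfer S ⊥
    bot_le hidx 1 hord
  have hwK : w ∉ K := by
    refine hK w hwS (by rw [ho]; norm_num) ?_
    intro g hg
    apply hw1
    have h1 : g * w * g⁻¹ = 1 := (Subgroup.mem_bot).mp hg
    have h2 : g * w = g := by
      calc g * w = (g * w * g⁻¹) * g := by group
        _ = g := by rw [h1, one_mul]
    exact mul_eq_left.mp h2
  rcases hKn.eq_bot_or_eq_top with h | h
  · rw [h, Subgroup.index_bot] at hKi
    exact false_of_card_le_four hG ((Nat.le_of_dvd (by norm_num) hKi).trans (by norm_num))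
  · exact hwK (by rw [h]; trivial)

/-- The main theorem, modulo the identification of the simple groups of order `2520`. -/
theorem concl_main [IsSimpleGroup G]
    (hA7 : Nat.card G = 2520 → Nonempty (G ≃* ↥(alternatingGroup (Fin 7)))) (hG : ¬ IsCyclic G)
    (w : G) (hw : Nat.card (centralizer ({w} : Set G)) ≤ 4) : Concl G := by
  classical
  haveI : Fact (Nat.Prime 2) := ⟨Nat.prime_two⟩
  have hwC : w ∈ centralizer ({w} : Set G) := mem_centralizer_singleton_iff.mpr rfl
  by_cases hw1 : w = 1
  · exfalso
    subst hw1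
    have h1 : centralizer ({(1 : G)} : Set G) = ⊤ := by
      ext g
      simp [mem_centralizer_singleton_iff]
    rw [h1, Subgroup.card_top] at hw
    exact false_of_card_le_four hG hw
  have h1 : 1 < Nat.card (centralizer ({w} : Set G)) := by
    haveI : Nontrivial (centralizer ({w} : Set G)) :=
      (Subgroup.nontrivial_iff_exists_ne_one _).mpr ⟨w, hwC, hw1⟩
    exact Finite.one_lt_card
  have hcases : Nat.card (centralizer ({w} : Set G)) = 2 ∨ Nat.card (centralizer ({w} : Set G)) = 3 ∨
      Nat.card (centralizer ({w} : Set G)) = 4 := by omega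
  rcases hcases with hc | hc | hc
  · exact (false_two hG hw1 hc).elim
  · exact concl_three hG hw1 hc
  by_cases hy : ∃ y ∈ centralizer ({w} : Set G), orderOf y = 4
  · obtain ⟨y, hyC, hyo⟩ := hy
    have hle : zpowers y ≤ centralizer ({w} : Set G) := (Subgroup.zpowers_le).mpr hyC
    have heq : zpowers y = centralizer ({w} : Set G) :=
      Subgroup.eq_of_le_of_card_ge hle (by rw [hc, Nat.card_zpowers, hyo])
    have hwy : w ∈ zpowers y := by
      rw [heq]
      exact hwC
    refine concl_of_card hA7 (card_of_self_cent hyo fun g hg => ?_)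
    rw [heq]
    refine mem_centralizer_singleton_iff.mpr ?_
    obtain ⟨k, rfl⟩ := mem_zpowers_iff.mp hwy
    exact (hg.zpow_right k).eq
  · -- the Klein case
    have hall : ∀ y ∈ centralizer ({w} : Set G), y ^ 2 = 1 := by
      intro y hyC
      have h2 : orderOf y ∣ 4 := by
        rw [← hc]
        exact Subgroup.orderOf_dvd_natCard _ hyC
      have h3 : orderOf y ≠ 4 := fun e => hy ⟨y, hyC, e⟩
      have h4 : orderOf y ∣ 2 := by
        have h5 := Nat.le_of_dvd (by norm_num) h2
        interval_cases h6 : orderOf y <;> first | omega | norm_num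
      exact orderOf_dvd_iff_pow_eq_one.mp h4
    have hwo : orderOf w = 2 := by
      have h2 : orderOf w ∣ 2 := orderOf_dvd_of_pow_eq_one (hall w hwC)
      rcases (Nat.dvd_prime Nat.prime_two).mp h2 with h3 | h3
      · exact absurd (orderOf_eq_one_iff.mp h3) hw1
      · exact h3
    have hK : IsKleinFour (centralizer ({w} : Set G)) := by
      refine ⟨hc, ?_⟩
      have h2 : Monoid.exponent (centralizer ({w} : Set G)) ∣ 2 := by
        apply Monoid.exponent_dvd_of_forall_pow_eq_one
        intro y
        exact Subtype.ext (hall y y.2)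
      have h3 : Monoid.exponent (centralizer ({w} : Set G)) ≠ 1 := by
        intro e
        have h4 := Monoid.exp_eq_one_iff.mp e
        have : Nontrivial (centralizer ({w} : Set G)) :=
          (Subgroup.nontrivial_iff_exists_ne_one _).mpr ⟨w, hwC, hw1⟩
        exact not_subsingleton _ h4
      rcases (Nat.dvd_prime Nat.prime_two).mp h2 with h4 | h4
      · exact absurd h4 h3
      · exact h4
    refine Or.inl (Cfsg.Agent.S3278.result w hwo (centralizer ({w} : Set G)) le_rfl hK ?_ ?_)
    · rw [Subgroup.relIndex_self]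
      norm_num
    · rw [Subgroup.subgroupOf_self]
      infer_instance

end Cfsg.Agent.Lib.Cent4
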