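import Cfsg.Agent.Lib.Cent4.Pairs

/-!
# The two order formulas, when all involutions are conjugate
-/

set_option autoImplicit false
set_option linter.unusedSectionVars false
set_option linter.style.haveILetI false
set_option linter.unusedVariables false

namespace Cfsg.Agent.Lib.Cent4

open Cfsg Subgroup Finset
open Cfsg.Agent.Lib.V4Block Cfsg.Agent.Lib.DihBlock Cfsg.Agent.Lib.Blocks.Third
open Cfsg.Agent.Lib.Char.Basic Cfsg.Agent.Lib.Char.Ortho Cfsg.Agent.Lib.Char.Degree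
open Cfsg.Agent.Lib.Char.Complete Cfsg.Agent.Lib.Char.ClassSum Cfsg.Agent.Lib.Char.ClassProd
open scoped ComplexConjugate

universe u

variable {G : Type u} [Group G] [Fintype G] [Fintype (IrrCharacter G)]
variable {P : Sylow 2 G} {σ τ : G} {M : Ideal AlgInt}

/-- The two order formulas. -/
theorem eqs_one_class (h : DihCtx P σ τ 4) (hM : IsPModular 2 M)
    (hCx : ∀ g, Commute g σ → g ∈ zpowers σ) (hc1 : IsConj (σ ^ 2) τ)
    (hc2 : IsConj (σ ^ 2) (σ * τ)) :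
    ∃ s f₂ f₃ : ℤ, s = f₂ + f₃ ∧ s ≠ 0 ∧
      4 * (Nat.card G : ℤ) * s ^ 2 * (Nat.card (centralizer ({σ ^ 2, τ} : Set G)) : ℤ) ^ 2 *
          (Nat.card (centralizer ({σ ^ 2, σ * τ} : Set G)) : ℤ) ^ 2 =
        (1 - 4 * s) * (1 - 2 * s) * (Nat.card (centralizer ({σ ^ 2} : Set G)) : ℤ) ^ 3 *
          ((Nat.card (centralizer ({σ ^ 2, τ} : Set G)) : ℤ) +
            (Nat.card (centralizer ({σ ^ 2, σ * τ} : Set G)) : ℤ)) ^ 2 ∧
      (Nat.card (centralizer ({σ ^ 2} : Set G)) : ℤ) ^ 2 * (1 - 4 * s) * (4 * f₂ - 1) * (4 * f₃ - 1) =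
        8 * (Nat.card G : ℤ) * (1 - 2 * s) * f₂ * f₃ := by
  classical
  letI : Fintype (Idx M G) := Fintype.ofFinite _
  obtain ⟨δ, s₂, s₃, r₁, r₂, r₃, p, hT⟩ := h.exists_table hM Complex.isPrimitiveRoot_I
  have hone : ∀ a : G, orderOf a = 2 → IsConj a (σ ^ 2) := fun a ha => h.one_class hc1 hc2 a ha
  have hI := eq_I h hCx hT hone
  obtain ⟨hne, hform⟩ := h.order_formula hM hc1 hc2 r₁.2 hT.r₁i hT.hδ hT.val₁
  obtain ⟨s, hs⟩ := cong₁ h.σo hT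
  obtain ⟨f₂, hf₂⟩ := cong₂ h.σo hT
  obtain ⟨f₃, hf₃⟩ := cong₃ h.σo hT
  have hrel := deg_rel hT
  change (charDegree (r₁.1 : G → ℂ) : ℤ) ≠ δ at hne
  change (Nat.card G : ℚ) * ((charDegree (r₁.1 : G → ℂ) : ℚ) - δ) ^ 2 =
      2 * (charDegree (r₁.1 : G → ℂ) : ℚ) * ((charDegree (r₁.1 : G → ℂ) : ℚ) + δ) *
      (Nat.card (centralizer ({σ ^ 2} : Set G)) : ℚ) ^ 3 *
      (1 / (Nat.card (centralizer ({σ ^ 2, τ} : Set G)) : ℚ) +
        1 / (Nat.card (centralizer ({σ ^ 2, σ * τ} : Set G)) : ℚ)) ^ 2 at hform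
  set n := Nat.card G with hn
  set c := Nat.card (centralizer ({σ ^ 2} : Set G)) with hc
  set c₁ := Nat.card (centralizer ({σ ^ 2, τ} : Set G)) with hc₁
  set c₂ := Nat.card (centralizer ({σ ^ 2, σ * τ} : Set G)) with hc₂
  set x₁ := charDegree (r₁.1 : G → ℂ) with hx₁
  set x₂ := charDegree (r₂.1 : G → ℂ) with hx₂
  set x₃ := charDegree (r₃.1 : G → ℂ) with hx₃
  have hc₁0 : (c₁ : ℚ) ≠ 0 := Nat.cast_ne_zero.mpr Nat.card_pos.ne'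
  have hc₂0 : (c₂ : ℚ) ≠ 0 := Nat.cast_ne_zero.mpr Nat.card_pos.ne'
  have hQ : (n : ℚ) * ((x₁ : ℚ) - δ) ^ 2 * (c₁ : ℚ) ^ 2 * (c₂ : ℚ) ^ 2 =
      2 * (x₁ : ℚ) * ((x₁ : ℚ) + δ) * (c : ℚ) ^ 3 * ((c₁ : ℚ) + c₂) ^ 2 := by
    rw [hform]
    field_simp
    ring
  have hZ : (n : ℤ) * ((x₁ : ℤ) - δ) ^ 2 * (c₁ : ℤ) ^ 2 * (c₂ : ℤ) ^ 2 =
      2 * (x₁ : ℤ) * ((x₁ : ℤ) + δ) * (c : ℤ) ^ 3 * ((c₁ : ℤ) + c₂) ^ 2 := by
    exact_mod_cast hQ
  have hs' : s = f₂ + f₃ := by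
    have hrel' : 1 + δ * (x₁ : ℤ) + (-s₂ * (x₂ : ℤ)) + (-s₃ * (x₃ : ℤ)) = 0 := by linarith
    rw [hs, hf₂, hf₃] at hrel'
    linarith
  refine ⟨s, f₂, f₃, hs', ?_, ?_, ?_⟩
  · intro h0
    rw [h0] at hs
    apply hne
    rcases hT.hδ with e | e <;> rw [e] at hs ⊢ <;> linarith
  · -- the formula of Brauer
    have h1 : (n : ℤ) * (4 * s) ^ 2 * (c₁ : ℤ) ^ 2 * (c₂ : ℤ) ^ 2 =
        2 * (1 - 4 * s) * (2 - 4 * s) * (c : ℤ) ^ 3 * ((c₁ : ℤ) + c₂) ^ 2 := by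
      rcases hT.hδ with e | e
      · rw [e] at hZ hs
        have hx : (x₁ : ℤ) = 1 - 4 * s := by linarith
        rw [hx] at hZ
        linear_combination hZ
      · rw [e] at hZ hs
        have hx : (x₁ : ℤ) = 4 * s - 1 := by linarith
        rw [hx] at hZ
        linear_combination hZ
    have h2 : 4 * (4 * (n : ℤ) * s ^ 2 * (c₁ : ℤ) ^ 2 * (c₂ : ℤ) ^ 2) =
        4 * ((1 - 4 * s) * (1 - 2 * s) * (c : ℤ) ^ 3 * ((c₁ : ℤ) + c₂) ^ 2) := by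
      linear_combination h1
    exact mul_left_cancel₀ (by norm_num) h2
  · -- the structure constant
    have hEd : 4 * (c : ℤ) ^ 2 * ((1 - 4 * s) * (4 * f₂ - 1) * (4 * f₃ - 1)) =
        (n : ℤ) * ((1 - 4 * s) * (4 * f₂ - 1) * (4 * f₃ - 1) + (4 * f₂ - 1) * (4 * f₃ - 1) +
          (1 - 4 * s) * (4 * f₃ - 1) + (1 - 4 * s) * (4 * f₂ - 1)) := by
      rw [← hs, ← hf₂, ← hf₃]
      rcases hT.hδ with e₁ | e₁ <;> rcases hT.hs₂ with e₂ | e₂ <;> rcases hT.hs₃ with e₃ | e₃ <;>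
        rw [e₁, e₂, e₃] at hI ⊢ <;>
        first
        | linear_combination hI
        | linear_combination -hI
    have h2 : 4 * ((c : ℤ) ^ 2 * (1 - 4 * s) * (4 * f₂ - 1) * (4 * f₃ - 1)) =
        4 * (8 * (n : ℤ) * (1 - 2 * s) * f₂ * f₃) := by
      rw [hs'] at hEd ⊢
      linear_combination hEd
    exact mul_left_cancel₀ (by norm_num) h2

end Cfsg.Agent.Lib.Cent4
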