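import Cfsg.Agent.Lib.Cent4.LForm
import Cfsg.Agent.Lib.Cent4.Arith

/-!
# A dihedral Sylow subgroup of order eight with a self-centralizing element of order four
-/

set_option autoImplicit false
set_option linter.unusedSectionVars false
set_option linter.style.haveILetI false
set_option linter.unusedVariables false

namespace Cfsg.Agent.Lib.Cent4

open Cfsg Subgroup
open Cfsg.Agent.Lib.V4Block Cfsg.Agent.Lib.DihBlock
open scoped Pointwise

universe u

variable {G : Type u} [Group G] [Fintype G]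

/-- The standing hypothesis. -/
structure Hyp (P : Sylow 2 G) (x t : G) : Prop where
  ctx : DihCtx P x t 4
  cen : ∀ g, Commute g x → g ∈ zpowers x
  c1 : IsConj (x ^ 2) t
  c2 : IsConj (x ^ 2) (x * t)

/-- The subgroup generated by the elements of odd order commuting with `u`. -/
def O (u : G) : Subgroup G := closure {y | Commute y u ∧ ¬ 2 ∣ orderOf y}

/-- Product decomposition of a subgroup. -/
theorem card_of_decomp {H A V : Subgroup G} (hA : A ≤ H) (hV : V ≤ H)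
    (hdec : ∀ h ∈ H, ∃ a ∈ A, ∃ v ∈ V, h = a * v) (htriv : ∀ y, y ∈ A → y ∈ V → y = 1) :
    Nat.card H = Nat.card A * Nat.card V := by
  rw [← Nat.card_prod]
  apply Nat.card_congr
  symm
  refine Equiv.ofBijective (fun p : A × V => (⟨(p.1 : G) * (p.2 : G), H.mul_mem (hA p.1.2) (hV p.2.2)⟩ : H))
    ⟨?_, ?_⟩
  · rintro ⟨⟨a, ha⟩, ⟨v, hv⟩⟩ ⟨⟨a', ha'⟩, ⟨v', hv'⟩⟩ e
    have e' : a * v = a' * v' := congrArg Subtype.val e
    have h1 : a'⁻¹ * a = v' * v⁻¹ := by
      calc a'⁻¹ * a = a'⁻¹ * (a * v) * v⁻¹ := by group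
        _ = a'⁻¹ * (a' * v') * v⁻¹ := by rw [e']
        _ = v' * v⁻¹ := by group
    have h2 := htriv (a'⁻¹ * a) (A.mul_mem (A.inv_mem ha') ha) (by rw [h1]; exact V.mul_mem hv' (V.inv_mem hv))
    have h3 : a = a' := by
      exact (inv_mul_eq_one.mp h2).symm
    have h4 : v = v' := by
      rw [h3] at e'
      exact mul_left_cancel e'
    subst h3
    subst h4
    rfl
  · rintro ⟨h, hh⟩
    obtain ⟨a, ha, v, hv, rfl⟩ := hdec h hh
    exact ⟨(⟨a, ha⟩, ⟨v, hv⟩), rfl⟩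

namespace Hyp

variable {P : Sylow 2 G} {x t : G}

theorem x4 (H : Hyp P x t) : x ^ 4 = 1 := by
  rw [← H.ctx.σo]
  exact pow_orderOf_eq_one x

theorem tt (H : Hyp P x t) : t * t = 1 := H.ctx.ττ

theorem tinv (H : Hyp P x t) : t⁻¹ = t := H.ctx.τinv

theorem zo (H : Hyp P x t) : orderOf (x ^ 2) = 2 := H.ctx.J_order

theorem zz (H : Hyp P x t) : x ^ 2 * x ^ 2 = 1 := H.ctx.J_sq

theorem zinv (H : Hyp P x t) : (x ^ 2)⁻¹ = x ^ 2 := inv_eq_of_mul_eq_one_left H.zz

theorem tx (H : Hyp P x t) : t * x = x⁻¹ * t := by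
  have := H.ctx.rel
  calc t * x = (t * x * t⁻¹) * t := by group
    _ = x⁻¹ * t := by rw [this]

theorem txi (H : Hyp P x t) : t * x⁻¹ = x * t := by
  have h1 := H.tx
  have h2 := H.tinv
  calc t * x⁻¹ = t * x⁻¹ * (t * t) := by rw [H.tt, mul_one]
    _ = t * (x⁻¹ * t) * t := by group
    _ = t * (t * x) * t := by rw [h1]
    _ = (t * t) * (x * t) := by group
    _ = x * t := by rw [H.tt, one_mul]

theorem comm_xz : Commute x (x ^ 2) := (Commute.refl x).pow_right 2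

theorem comm_tz (H : Hyp P x t) : Commute t (x ^ 2) := H.ctx.J_comm H.ctx.τP

theorem ht1 (H : Hyp P x t) : t ≠ 1 := ne_one_of_orderOf_two H.ctx.τo

theorem one (H : Hyp P x t) (a : G) (ha : orderOf a = 2) : IsConj a (x ^ 2) :=
  H.ctx.one_class H.c1 H.c2 a ha

/-- `x` conjugates `t` to `z t`. -/
theorem conj_xt (H : Hyp P x t) : x * t * x⁻¹ = x ^ 2 * t := by
  rw [mul_assoc, H.txi, ← mul_assoc, ← pow_two]

theorem eq_one_of_odd_of_pow {c : G} {k : ℕ} (hc : c ^ 2 ^ k = 1) (ho : ¬ 2 ∣ orderOf c) : c = 1 := by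
  have h1 : orderOf c ∣ 2 ^ k := orderOf_dvd_of_pow_eq_one hc
  obtain ⟨j, -, hj⟩ := (Nat.dvd_prime_pow Nat.prime_two).mp h1
  cases j with
  | zero =>
    rw [pow_zero] at hj
    exact orderOf_eq_one_iff.mp hj
  | succ j =>
    exfalso
    apply ho
    rw [hj]
    exact Dvd.intro_left (2 ^ j) rfl

theorem eq_one_of_zpowers (H : Hyp P x t) {c : G} (hc : c ∈ zpowers x) (ho : ¬ 2 ∣ orderOf c) : c = 1 := by
  obtain ⟨k, rfl⟩ := mem_zpowers_iff.mp hc
  refine eq_one_of_odd_of_pow (k := 2) ?_ ho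
  rw [← zpow_natCast, ← zpow_mul, mul_comm, zpow_mul, zpow_natCast]
  norm_num
  rw [H.x4, one_zpow]

theorem eq_one_of_P {c : G} (hc : c ∈ (P : Subgroup G)) (ho : ¬ 2 ∣ orderOf c) : c = 1 := by
  obtain ⟨k, hk⟩ := P.2 ⟨c, hc⟩
  refine eq_one_of_odd_of_pow (k := k) ?_ ho
  simpa using congrArg Subtype.val hk

theorem conj_isConj {a b : G} (g : G) (h : IsConj a b) : IsConj (g * a * g⁻¹) (g * b * g⁻¹) := by
  have h1 : IsConj (g * a * g⁻¹) a := by
    rw [isConj_iff]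
    exact ⟨g⁻¹, by group⟩
  have h2 : IsConj b (g * b * g⁻¹) := by
    rw [isConj_iff]
    exact ⟨g, rfl⟩
  exact h1.trans (h.trans h2)

/-- Conjugation of the hypothesis. -/
theorem conj (H : Hyp P x t) (g : G) : Hyp (g • P) (g * x * g⁻¹) (g * t * g⁻¹) := by
  have hc := H.ctx
  have hmem : ∀ a, a ∈ (P : Subgroup G) → g * a * g⁻¹ ∈ ((g • P : Sylow 2 G) : Subgroup G) := by
    intro a ha
    apply (Cfsg.Agent.Lib.Transfer.Frobenius.mem_smul_sylow_iff g _ P).mpr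
    have e : g⁻¹ * (g * a * g⁻¹) * g = a := by group
    rw [e]
    exact ha
  refine ⟨⟨hc.hN, hc.hNp, hmem _ hc.σP, hmem _ hc.τP, ?_, ?_, ?_, ?_⟩, ?_, ?_, ?_⟩
  · rw [orderOf_conj_eq, hc.σo]
  · rw [orderOf_conj_eq, hc.τo]
  · have h1 := hc.rel
    calc (g * t * g⁻¹) * (g * x * g⁻¹) * (g * t * g⁻¹)⁻¹ = g * (t * x * t⁻¹) * g⁻¹ := by group
      _ = g * x⁻¹ * g⁻¹ := by rw [h1]
      _ = _ := by group
  · intro y hy
    have h1 := (Cfsg.Agent.Lib.Transfer.Frobenius.mem_smul_sylow_iff g y P).mp hy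
    obtain ⟨i, hi | hi⟩ := hc.gen _ h1
    · refine ⟨i, Or.inl ?_⟩
      rw [conj_pow, ← hi]
      group
    · refine ⟨i, Or.inr ?_⟩
      rw [conj_pow]
      calc y = g * (g⁻¹ * y * g) * g⁻¹ := by group
        _ = g * (x ^ i * t) * g⁻¹ := by rw [hi]
        _ = _ := by group
  · intro y hy
    have h1 : Commute (g⁻¹ * y * g) x := by
      show g⁻¹ * y * g * x = x * (g⁻¹ * y * g)
      have h2 : y * (g * x * g⁻¹) = (g * x * g⁻¹) * y := hy
      calc g⁻¹ * y * g * x = g⁻¹ * (y * (g * x * g⁻¹)) * g := by group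
        _ = g⁻¹ * ((g * x * g⁻¹) * y) * g := by rw [h2]
        _ = _ := by group
    obtain ⟨k, hk⟩ := mem_zpowers_iff.mp (H.cen _ h1)
    refine mem_zpowers_iff.mpr ⟨k, ?_⟩
    rw [_root_.conj_zpow, hk]
    group
  · rw [conj_pow]
    exact conj_isConj g H.c1
  · have e : g * x * g⁻¹ * (g * t * g⁻¹) = g * (x * t) * g⁻¹ := by group
    rw [conj_pow, e]
    exact conj_isConj g H.c2

/-- Replacing `t` by `x t`. -/
theorem swap (H : Hyp P x t) : Hyp P x (x * t) := by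
  have hc := H.ctx
  refine ⟨⟨hc.hN, hc.hNp, hc.σP, P.toSubgroup.mul_mem hc.σP hc.τP, hc.σo, DihCtx.στ_order hc, ?_, ?_⟩,
    H.cen, H.c2, ?_⟩
  · have h1 := hc.rel
    calc (x * t) * x * (x * t)⁻¹ = x * (t * x * t⁻¹) * x⁻¹ := by group
      _ = x * x⁻¹ * x⁻¹ := by rw [h1]
      _ = x⁻¹ := by group
  · intro y hy
    obtain ⟨i, hi | hi⟩ := hc.gen y hy
    · exact ⟨i, Or.inl hi⟩
    · refine ⟨i + 3, Or.inr ?_⟩
      rw [hi, pow_add, mul_assoc, ← mul_assoc (x ^ 3) x t, ← pow_succ, H.x4, one_mul]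
  · have e : x * (x * t) = x * t * x⁻¹ := by
      rw [H.conj_xt, pow_two, mul_assoc]
    rw [e]
    refine H.c1.trans ?_
    rw [isConj_iff]
    exact ⟨x, rfl⟩

/-- The elements of odd order commuting with `z`. -/
theorem mem_O_z (H : Hyp P x t) {y : G} :
    y ∈ O (x ^ 2) ↔ Commute y (x ^ 2) ∧ ¬ 2 ∣ orderOf y := by
  obtain ⟨π, hπ⟩ : ∃ π : centralizer ({x ^ 2} : Set G) →* G, Proj P (x ^ 2) π := H.ctx.exists_proj
  set W : Subgroup G := π.ker.map (centralizer ({x ^ 2} : Set G)).subtype with hW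
  have hWm : ∀ y, y ∈ W ↔ Commute y (x ^ 2) ∧ ¬ 2 ∣ orderOf y := by
    intro y
    constructor
    · rintro ⟨c, hc, rfl⟩
      refine ⟨mem_centralizer_singleton_iff.mp c.2, ?_⟩
      have := hπ.ker c hc
      simpa [Subgroup.orderOf_coe] using this
    · rintro ⟨h1, h2⟩
      refine ⟨⟨y, mem_centralizer_singleton_iff.mpr h1⟩, ?_, rfl⟩
      apply hπ.eq_one_of_odd
      rw [Subgroup.orderOf_mk]
      exact h2
  have hO : O (x ^ 2) = W := by
    unfold O
    have : {y : G | Commute y (x ^ 2) ∧ ¬ 2 ∣ orderOf y} = (W : Set G) := by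
      ext y
      exact (hWm y).symm
    rw [this, closure_eq]
  rw [hO, hWm]

theorem exists_conj_z (H : Hyp P x t) {u : G} (hu : orderOf u = 2) : ∃ g, g * x ^ 2 * g⁻¹ = u := by
  obtain ⟨g, hg⟩ := isConj_iff.mp (H.one u hu).symm
  exact ⟨g, hg⟩

/-- The elements of odd order commuting with an involution. -/
theorem mem_O (H : Hyp P x t) {u y : G} (hu : orderOf u = 2) :
    y ∈ O u ↔ Commute y u ∧ ¬ 2 ∣ orderOf y := by
  obtain ⟨g, rfl⟩ := H.exists_conj_z hu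
  have := (H.conj g).mem_O_z (y := y)
  rwa [conj_pow] at this

theorem conj_mem_O (H : Hyp P x t) {u y : G} (hu : orderOf u = 2) (g : G) (hy : y ∈ O u) :
    g * y * g⁻¹ ∈ O (g * u * g⁻¹) := by
  obtain ⟨h1, h2⟩ := (H.mem_O hu).mp hy
  refine (H.mem_O (by rw [orderOf_conj_eq, hu])).mpr ⟨?_, by rw [orderOf_conj_eq]; exact h2⟩
  have := h1.map (MulAut.conj g)
  simpa [MulAut.conj_apply] using this

/-- `x` inverts the odd part of `C(z)`. -/
theorem inv_O (H : Hyp P x t) {y : G} (hy : y ∈ O (x ^ 2)) : x * y * x⁻¹ = y⁻¹ := by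
  classical
  have hxz : x * x ^ 2 * x⁻¹ = x ^ 2 := by
    rw [comm_xz.eq]
    group
  have hn : ∀ a ∈ O (x ^ 2), x * a * x⁻¹ ∈ O (x ^ 2) := by
    intro a ha
    have := H.conj_mem_O H.zo x ha
    rwa [hxz] at this
  let f : O (x ^ 2) → O (x ^ 2) := fun a => ⟨(a : G)⁻¹ * (x * a * x⁻¹),
    (O (x ^ 2)).mul_mem ((O (x ^ 2)).inv_mem a.2) (hn _ a.2)⟩
  have hf : Function.Injective f := by
    intro a b hab
    have h1 : (a : G)⁻¹ * (x * a * x⁻¹) = (b : G)⁻¹ * (x * b * x⁻¹) := congrArg Subtype.val hab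
    have h2 : (b : G) * (a : G)⁻¹ = x * ((b : G) * (a : G)⁻¹) * x⁻¹ := by
      calc (b : G) * (a : G)⁻¹ = (b : G) * ((a : G)⁻¹ * (x * a * x⁻¹)) * (x * a * x⁻¹)⁻¹ := by group
        _ = (b : G) * ((b : G)⁻¹ * (x * b * x⁻¹)) * (x * a * x⁻¹)⁻¹ := by rw [h1]
        _ = _ := by group
    have h3 : Commute ((b : G) * (a : G)⁻¹) x := by
      show (b : G) * (a : G)⁻¹ * x = x * ((b : G) * (a : G)⁻¹)
      calc (b : G) * (a : G)⁻¹ * x = x * ((b : G) * (a : G)⁻¹) * x⁻¹ * x := by rw [← h2]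
        _ = _ := by group
    have h4 := H.cen _ h3
    have h5 : (b : G) * (a : G)⁻¹ ∈ O (x ^ 2) := (O (x ^ 2)).mul_mem b.2 ((O (x ^ 2)).inv_mem a.2)
    have h6 := H.eq_one_of_zpowers h4 (H.mem_O_z.mp h5).2
    apply Subtype.ext
    exact (mul_inv_eq_one.mp h6).symm
  have hs : Function.Surjective f := Finite.injective_iff_surjective.mp hf
  obtain ⟨⟨v, hvm⟩, hv⟩ := hs ⟨y, hy⟩
  have hv' : v⁻¹ * (x * v * x⁻¹) = y := congrArg Subtype.val hv
  have hvz : Commute v (x ^ 2) := (H.mem_O_z.mp hvm).1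
  rw [← hv']
  have h7 : x * (x * v * x⁻¹) * x⁻¹ = v := by
    have h8 : x * (x * v * x⁻¹) * x⁻¹ = x ^ 2 * v * (x ^ 2)⁻¹ := by
      simp only [pow_two]
      group
    rw [h8, ← hvz.eq]
    group
  calc x * (v⁻¹ * (x * v * x⁻¹)) * x⁻¹
      = (x * v * x⁻¹)⁻¹ * (x * (x * v * x⁻¹) * x⁻¹) := by group
    _ = (x * v * x⁻¹)⁻¹ * v := by rw [h7]
    _ = _ := by group

/-- The odd part of `C(z)` is abelian. -/
theorem comm_O_z (H : Hyp P x t) {a b : G} (ha : a ∈ O (x ^ 2)) (hb : b ∈ O (x ^ 2)) : a * b = b * a := by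
  have h1 := H.inv_O ((O (x ^ 2)).mul_mem ha hb)
  have h2 : x * (a * b) * x⁻¹ = (x * a * x⁻¹) * (x * b * x⁻¹) := by group
  rw [h2, H.inv_O ha, H.inv_O hb, mul_inv_rev] at h1
  have h3 : (a⁻¹ * b⁻¹)⁻¹ = (b⁻¹ * a⁻¹)⁻¹ := by rw [h1]
  simpa using h3.symm

/-- The odd part of `C(u)` is abelian. -/
theorem comm_O (H : Hyp P x t) {u a b : G} (hu : orderOf u = 2) (ha : a ∈ O u) (hb : b ∈ O u) :
    a * b = b * a := by
  obtain ⟨g, rfl⟩ := H.exists_conj_z hu
  have h := (H.conj g).comm_O_z (a := a) (b := b)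
  rw [conj_pow] at h
  exact h ha hb

/-- An element in `O z` commuting with `x` is trivial. -/
theorem O_inf_x (H : Hyp P x t) {y : G} (hy : y ∈ O (x ^ 2)) (h : Commute y x) : y = 1 :=
  H.eq_one_of_zpowers (H.cen y h) (H.mem_O_z.mp hy).2

end Hyp

/-- The part of the odd core of `C(x²)` centralized by `t`. -/
def AA (x t : G) : Subgroup G := O (x ^ 2) ⊓ centralizer ({t} : Set G)

theorem mem_AA {x t y : G} : y ∈ AA x t ↔ y ∈ O (x ^ 2) ∧ Commute y t := by
  unfold AA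
  rw [Subgroup.mem_inf, mem_centralizer_singleton_iff]
  rfl

namespace Hyp

variable {P : Sylow 2 G} {x t : G}

/-- Powers of odd-order elements. -/
theorem exists_sq_pow {y : G} (hy : ¬ 2 ∣ orderOf y) : ∃ k : ℕ, (y * y) ^ k = y := by
  obtain ⟨q, hq⟩ : Odd (orderOf y) := Nat.odd_iff.mpr (by omega)
  refine ⟨q + 1, ?_⟩
  rw [← pow_two, ← pow_mul]
  have h1 : 2 * (q + 1) = orderOf y + 1 := by omega
  rw [h1, pow_succ, pow_orderOf_eq_one, one_mul]

/-- The decomposition of the odd core. -/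
theorem card_O_eq (H : Hyp P x t) :
    Nat.card (O (x ^ 2)) = Nat.card (AA x t) * Nat.card (AA x (x * t)) := by
  have htz := H.comm_tz
  have hn : ∀ a ∈ O (x ^ 2), t * a * t⁻¹ ∈ O (x ^ 2) := by
    intro a ha
    have := H.conj_mem_O H.zo t ha
    rwa [htz.eq, mul_assoc, mul_inv_cancel, mul_one] at this
  apply card_of_decomp
  · exact inf_le_left
  · exact inf_le_left
  · intro y hy
    obtain ⟨k, hk⟩ := exists_sq_pow (H.mem_O_z.mp hy).2
    set y' := t * y * t⁻¹ with hy'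
    have hy'O : y' ∈ O (x ^ 2) := hn y hy
    set u := y * y' with hu
    set v := y * y'⁻¹ with hv
    have huO : u ∈ O (x ^ 2) := (O (x ^ 2)).mul_mem hy hy'O
    have hvO : v ∈ O (x ^ 2) := (O (x ^ 2)).mul_mem hy ((O (x ^ 2)).inv_mem hy'O)
    have hty' : t * y' * t⁻¹ = y := by
      rw [hy']
      calc t * (t * y * t⁻¹) * t⁻¹ = (t * t) * y * (t * t)⁻¹ := by group
        _ = y := by rw [H.tt]; group
    have hcomm : y * y' = y' * y := H.comm_O_z hy hy'O
    have huA : u ∈ AA x t := by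
      refine mem_AA.mpr ⟨huO, ?_⟩
      show u * t = t * u
      have h1 : t * u * t⁻¹ = u := by
        rw [hu]
        calc t * (y * y') * t⁻¹ = (t * y * t⁻¹) * (t * y' * t⁻¹) := by group
          _ = y' * y := by rw [hty']
          _ = y * y' := hcomm.symm
      calc u * t = (t * u * t⁻¹) * t := by rw [h1]
        _ = t * u := by group
    have hvB : v ∈ AA x (x * t) := by
      refine mem_AA.mpr ⟨hvO, ?_⟩
      show v * (x * t) = (x * t) * v
      have h1 : t * v * t⁻¹ = v⁻¹ := by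
        rw [hv]
        calc t * (y * y'⁻¹) * t⁻¹ = (t * y * t⁻¹) * (t * y' * t⁻¹)⁻¹ := by group
          _ = y' * y⁻¹ := by rw [hty']
          _ = (y * y'⁻¹)⁻¹ := by group
      have h2 : x * v⁻¹ * x⁻¹ = v := by
        have := H.inv_O ((O (x ^ 2)).inv_mem hvO)
        simpa using this
      have h3 : (x * t) * v * (x * t)⁻¹ = v := by
        calc (x * t) * v * (x * t)⁻¹ = x * (t * v * t⁻¹) * x⁻¹ := by group
          _ = x * v⁻¹ * x⁻¹ := by rw [h1]
          _ = v := h2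
      calc v * (x * t) = ((x * t) * v * (x * t)⁻¹) * (x * t) := by rw [h3]
        _ = _ := by group
    have huv : u * v = y * y := by
      rw [hu, hv]
      calc y * y' * (y * y'⁻¹) = y * (y' * y) * y'⁻¹ := by group
        _ = y * (y * y') * y'⁻¹ := by rw [hcomm]
        _ = y * y := by group
    have hcuv : Commute u v := H.comm_O_z huO hvO
    refine ⟨u ^ k, pow_mem huA k, v ^ k, pow_mem hvB k, ?_⟩
    rw [← hcuv.mul_pow, huv, hk]
  · intro y hyA hyB
    obtain ⟨h1, h2⟩ := mem_AA.mp hyA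
    obtain ⟨-, h3⟩ := mem_AA.mp hyB
    apply H.O_inf_x h1
    have h4 : y * x = x * y := by
      have h5 : y * (x * t) = (x * t) * y := h3
      have h6 : y * t = t * y := h2
      calc y * x = y * (x * t) * t⁻¹ := by group
        _ = x * t * y * t⁻¹ := by rw [h5]
        _ = x * (t * y) * t⁻¹ := by group
        _ = x * (y * t) * t⁻¹ := by rw [h6]
        _ = x * y := by group
    exact h4

end Hyp

end Cfsg.Agent.Lib.Cent4
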