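import Cfsg.Agent.Lib.DihBlock.Final

/-!
# The sum over the involutions of a normal subgroup, all conjugate to the central involution
-/

set_option autoImplicit false
set_option linter.unusedSectionVars false
set_option linter.style.haveILetI false
set_option linter.unusedVariables false

namespace Cfsg.Agent.Lib.Cent4

open Cfsg Subgroup Finset
open Cfsg.Agent.Lib.V4Block Cfsg.Agent.Lib.DihBlock

universe u

variable {G : Type u} [Group G] [Fintype G]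
variable {P : Sylow 2 G} {σ τ : G} {N : ℕ}

open Classical in
/-- The involutions of `K` commuting with `z`, other than `z`. -/
noncomputable def IzK (K : Subgroup G) (z : G) : Finset G := (Iz z).filter fun a => a ∈ K

open Classical in
/-- The involutions of `K`. -/
noncomputable def KKK (K : Subgroup G) : Finset G := (KK G).filter fun a => a ∈ K

theorem mem_IzK {K : Subgroup G} {z a : G} :
    a ∈ IzK K z ↔ (orderOf a = 2 ∧ Commute a z ∧ a ≠ z) ∧ a ∈ K := by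
  classical
  simp [IzK, mem_Iz]

theorem mem_KKK {K : Subgroup G} {a : G} : a ∈ KKK K ↔ orderOf a = 2 ∧ a ∈ K := by
  classical
  simp [KKK, mem_KK]

theorem sum_IzK_conj {K : Subgroup G} (hK : K.Normal) (t z : G) (F : G → ℂ) :
    ∑ a ∈ IzK K z, F (t * a * t⁻¹) = ∑ a ∈ IzK K (t * z * t⁻¹), F a := by
  classical
  unfold IzK
  rw [Finset.sum_filter, Finset.sum_filter]
  have h := sum_Iz_conj t z (fun a => if a ∈ K then F a else 0)
  rw [← h]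
  refine Finset.sum_congr rfl fun a _ => ?_
  have : t * a * t⁻¹ ∈ K ↔ a ∈ K := by
    constructor
    · intro h1
      have := hK.conj_mem _ h1 t⁻¹
      simpa [mul_assoc] using this
    · intro h1
      exact hK.conj_mem _ h1 t
  simp only [this]

namespace DihCtx

variable {π : centralizer ({σ ^ (N / 2)} : Set G) →* G} {ζ : ℂ} {φ : G → ℂ} {rf : G → ℕ}
  {K : Subgroup G}

theorem sum_rf_zero_K (h : DihCtx P σ τ N) (hK : K.Normal) (hπ : Proj P (σ ^ (N / 2)) π)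
    (hrf : ∀ a (ha : a ∈ Iz (σ ^ (N / 2))), π (toC (mem_Iz.mp ha).2.1) = σ ^ rf a * τ)
    {ξ : ℂ} (hξ : IsPrimitiveRoot ξ N) : ∑ a ∈ IzK K (σ ^ (N / 2)), ξ ^ rf a = 0 := by
  have hN := h.hN
  have hJ : σ * σ ^ (N / 2) * σ⁻¹ = σ ^ (N / 2) := by
    rw [(DihCtx.σ_comm_J h).eq]
    group
  have h1 := sum_IzK_conj hK σ (σ ^ (N / 2)) (fun a => ξ ^ rf a)
  rw [hJ] at h1
  have h2 : ∀ a ∈ IzK K (σ ^ (N / 2)), ξ ^ rf (σ * a * σ⁻¹) = ξ ^ 2 * ξ ^ rf a := by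
    intro a ha
    have ha' : a ∈ Iz (σ ^ (N / 2)) := mem_Iz.mpr (mem_IzK.mp ha).1
    obtain ⟨-, h3⟩ := DihCtx.conj_shift h hπ hrf ha'
    rw [pow_eq_of_pow_eq h.σo hξ h3, pow_add, mul_comm]
  rw [Finset.sum_congr rfl h2, ← Finset.mul_sum] at h1
  have h3 : ξ ^ 2 ≠ 1 := hξ.pow_ne_one_of_pos_of_lt (by norm_num) (by omega)
  have h4 : (ξ ^ 2 - 1) * ∑ a ∈ IzK K (σ ^ (N / 2)), ξ ^ rf a = 0 := by
    rw [sub_mul, h1]
    ring
  exact (mul_eq_zero.mp h4).resolve_left (sub_ne_zero.mpr h3)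

theorem sum_r_K (h : DihCtx P σ τ N) (hK : K.Normal) (hπ : Proj P (σ ^ (N / 2)) π)
    (hζ : IsPrimitiveRoot ζ N) (hφ : Phi σ ζ N π φ) {r : G} (hr : r ∈ IzK K (σ ^ (N / 2))) :
    ∑ a ∈ IzK K (σ ^ (N / 2)), φ (r * a) = 2 * ((IzK K (σ ^ (N / 2))).card : ℂ) := by
  obtain ⟨rf, hrf⟩ := DihCtx.exists_rf h hπ
  have hN0 : N ≠ 0 := by
    have := h.hN
    omega
  have hz := hζ.ne_zero hN0
  have hr' : r ∈ Iz (σ ^ (N / 2)) := mem_Iz.mpr (mem_IzK.mp hr).1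
  have h1 : ∀ a ∈ IzK K (σ ^ (N / 2)), φ (r * a) =
      2 - ζ ^ rf r * (ζ⁻¹) ^ rf a - (ζ ^ rf r)⁻¹ * ζ ^ rf a := by
    intro a ha
    have ha' : a ∈ Iz (σ ^ (N / 2)) := mem_Iz.mpr (mem_IzK.mp ha).1
    have hc : Commute (r * a) (σ ^ (N / 2)) :=
      (mem_Iz.mp hr').2.1.mul_left (mem_Iz.mp ha').2.1
    have h2 := hφ.val (toC hc) _ (DihCtx.π_mul h hπ hrf hr' ha' hc)
    rw [toC_coe] at h2
    rw [h2, zpow_sub₀ hz, neg_sub, zpow_sub₀ hz]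
    simp only [zpow_natCast, inv_pow]
    rw [div_eq_mul_inv, div_eq_mul_inv, mul_comm (ζ ^ rf a)]
  rw [Finset.sum_congr rfl h1, Finset.sum_sub_distrib, Finset.sum_sub_distrib, ← Finset.mul_sum,
    ← Finset.mul_sum, sum_rf_zero_K h hK hπ hrf hζ, sum_rf_zero_K h hK hπ hrf hζ.inv]
  simp only [Finset.sum_const, nsmul_eq_mul]
  ring

theorem sum_z_K (h : DihCtx P σ τ N) (hK : K.Normal) (hJK : σ ^ (N / 2) ∈ K)
    (hπ : Proj P (σ ^ (N / 2)) π) (hζ : IsPrimitiveRoot ζ N)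
    (hφ : Phi σ ζ N π φ) (hone : ∀ a ∈ K, orderOf a = 2 → IsConj a (σ ^ (N / 2)))
    {z : G} (hz : z ∈ IzK K (σ ^ (N / 2))) :
    ∑ a ∈ IzK K z, φ (σ ^ (N / 2) * a) = 2 * ((IzK K (σ ^ (N / 2))).card : ℂ) := by
  obtain ⟨⟨hz2, hzc, hzne⟩, hzK⟩ := mem_IzK.mp hz
  obtain ⟨t, ht⟩ := isConj_iff.mp (hone z hzK hz2)
  have hJz : σ ^ (N / 2) ∈ IzK K z := mem_IzK.mpr ⟨⟨h.J_order, hzc.symm, hzne.symm⟩, hJK⟩
  have hr : t * σ ^ (N / 2) * t⁻¹ ∈ IzK K (σ ^ (N / 2)) := by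
    obtain ⟨h1, h2⟩ := mem_IzK.mp hJz
    refine mem_IzK.mpr ⟨?_, hK.conj_mem _ h2 t⟩
    have := mem_Iz_conj t (mem_Iz.mpr h1)
    rw [ht] at this
    exact mem_Iz.mp this
  have h1 : ∀ a ∈ IzK K z, φ (σ ^ (N / 2) * a) =
      (fun b => φ ((t * σ ^ (N / 2) * t⁻¹) * b)) (t * a * t⁻¹) := by
    intro a _
    simp only
    rw [← hφ.conj t (σ ^ (N / 2) * a)]
    congr 1
    group
  refine (Finset.sum_congr rfl h1).trans
    ((sum_IzK_conj hK t z (fun b => φ ((t * σ ^ (N / 2) * t⁻¹) * b))).trans ?_)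
  rw [ht]
  exact sum_r_K h hK hπ hζ hφ hr

/-- The uniqueness of the central involution. -/
theorem eq_center_of (h : DihCtx P σ τ N) (hπ : Proj P (σ ^ (N / 2)) π)
    {a z : G} (hzc : IsConj z (σ ^ (N / 2))) (hz : z ∈ Iz (σ ^ (N / 2))) (haz : a ∈ Iz z) {k : ℕ}
    (hk : orderOf ((σ ^ (N / 2) * a) ^ k) = 2) : (σ ^ (N / 2) * a) ^ k = z := by
  obtain ⟨rf, hrf⟩ := DihCtx.exists_rf h hπ
  obtain ⟨hz2, hzc', hzne⟩ := mem_Iz.mp hz
  obtain ⟨t, ht⟩ := isConj_iff.mp hzc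
  have hJz : σ ^ (N / 2) ∈ Iz z := mem_Iz.mpr ⟨h.J_order, hzc'.symm, hzne.symm⟩
  have hr : t * σ ^ (N / 2) * t⁻¹ ∈ Iz (σ ^ (N / 2)) := by
    have := mem_Iz_conj t hJz
    rwa [ht] at this
  have ha' : t * a * t⁻¹ ∈ Iz (σ ^ (N / 2)) := by
    have := mem_Iz_conj t haz
    rwa [ht] at this
  have hc : Commute ((t * σ ^ (N / 2) * t⁻¹) * (t * a * t⁻¹)) (σ ^ (N / 2)) :=
    (mem_Iz.mp hr).2.1.mul_left (mem_Iz.mp ha').2.1
  have hpm := DihCtx.π_mul h hπ hrf hr ha' hc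
  set g := toC hc with hg
  have hgval : (g : G) = t * (σ ^ (N / 2) * a) * t⁻¹ := by
    rw [hg, toC_coe]
    group
  -- the power
  have hpow : ((g ^ k : centralizer ({σ ^ (N / 2)} : Set G)) : G) =
      t * (σ ^ (N / 2) * a) ^ k * t⁻¹ := by
    rw [Subgroup.coe_pow, hgval, conj_pow]
  have ho : orderOf (g ^ k) = 2 := by
    rw [← Subgroup.orderOf_coe, hpow, orderOf_conj_eq, hk]
  have hs : g ^ k * g ^ k = 1 := mul_self_of_orderOf_two ho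
  have hmem : π (g ^ k) ∈ zpowers σ := by
    rw [map_pow, hpm]
    exact pow_mem (zpow_mem (mem_zpowers σ) _) k
  have hsq : π (g ^ k) * π (g ^ k) = 1 := by
    rw [← map_mul, hs, map_one]
  have hJ : g ^ k = Cfsg.Agent.Lib.DihBlock.DihCtx.JC σ N := by
    rcases h.eq_J hmem hsq with e | e
    · exfalso
      apply hπ.ker _ e
      rw [ho]
    · exact DihCtx.eq_JC_of_map h hπ hs e
  have h2 : t * (σ ^ (N / 2) * a) ^ k * t⁻¹ = t * z * t⁻¹ := by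
    rw [← hpow, hJ, ht]
    rfl
  exact mul_left_cancel (mul_right_cancel h2)

/-- **The sum over the involutions of a normal subgroup**. -/
theorem main_sum_K (h : DihCtx P σ τ N) (hK : K.Normal) (hJK : σ ^ (N / 2) ∈ K)
    (hπ : Proj P (σ ^ (N / 2)) π) (hζ : IsPrimitiveRoot ζ N)
    (hφ : Phi σ ζ N π φ) (hone : ∀ a ∈ K, orderOf a = 2 → IsConj a (σ ^ (N / 2))) :
    ∑ a ∈ KKK K, φ (σ ^ (N / 2) * a) = 2 * ((IzK K (σ ^ (N / 2))).card : ℂ) ^ 2 := by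
  classical
  have h1 : ∑ z ∈ IzK K (σ ^ (N / 2)), ∑ a ∈ IzK K z, φ (σ ^ (N / 2) * a) =
      2 * ((IzK K (σ ^ (N / 2))).card : ℂ) ^ 2 := by
    rw [Finset.sum_congr rfl (fun z hz => sum_z_K h hK hJK hπ hζ hφ hone hz), Finset.sum_const,
      nsmul_eq_mul]
    ring
  rw [← h1]
  have hsub : ∀ z, IzK K z ⊆ KKK K := fun z a ha =>
    mem_KKK.mpr ⟨(mem_IzK.mp ha).1.1, (mem_IzK.mp ha).2⟩
  have h2 : ∀ z, ∑ a ∈ IzK K z, φ (σ ^ (N / 2) * a) =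
      ∑ a ∈ KKK K, if a ∈ IzK K z then φ (σ ^ (N / 2) * a) else 0 := by
    intro z
    rw [Finset.sum_ite_mem, Finset.inter_eq_right.mpr (hsub z)]
  simp only [h2]
  rw [Finset.sum_comm]
  refine Finset.sum_congr rfl fun a ha => ?_
  obtain ⟨ha2, haK⟩ := mem_KKK.mp ha
  by_cases hev : 2 ∣ orderOf (σ ^ (N / 2) * a)
  · obtain ⟨k, hk, hc1, hc2, hne1, hne2⟩ := exists_center h.J_order ha2 hev
    have hzK : (σ ^ (N / 2) * a) ^ k ∈ K := pow_mem (K.mul_mem hJK haK) k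
    have hz₀ : (σ ^ (N / 2) * a) ^ k ∈ IzK K (σ ^ (N / 2)) :=
      mem_IzK.mpr ⟨⟨hk, hc1, hne1⟩, hzK⟩
    have haz₀ : a ∈ IzK K ((σ ^ (N / 2) * a) ^ k) :=
      mem_IzK.mpr ⟨⟨ha2, hc2.symm, hne2.symm⟩, haK⟩
    rw [Finset.sum_eq_single ((σ ^ (N / 2) * a) ^ k)]
    · rw [if_pos haz₀]
    · intro z hz hzne
      rw [if_neg]
      intro haz
      obtain ⟨⟨hz2, hzc, hzn⟩, hzK'⟩ := mem_IzK.mp hz
      obtain ⟨⟨ha2', hac, han⟩, -⟩ := mem_IzK.mp haz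
      exact hzne (eq_center_of h hπ (hone z hzK' hz2) (mem_Iz.mpr ⟨hz2, hzc, hzn⟩)
        (mem_Iz.mpr ⟨ha2', hac, han⟩) hk).symm
    · intro hn
      exact absurd hz₀ hn
  · rw [hφ.odd _ hev]
    simp

end DihCtx

/-- Summing over conjugators, when the conjugates of `J` are the involutions of `K`. -/
theorem sum_conj_eq_K {K : Subgroup G} (hK : K.Normal) {J : G} (hJ : orderOf J = 2) (hJK : J ∈ K)
    (hone : ∀ a ∈ K, orderOf a = 2 → IsConj a J) (F : G → ℂ) :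
    ∑ t : G, F (t * J * t⁻¹) = (Nat.card (centralizer ({J} : Set G)) : ℂ) * ∑ a ∈ KKK K, F a := by
  classical
  have hm : ∀ t ∈ (univ : Finset G), t * J * t⁻¹ ∈ KKK K := by
    intro t _
    exact mem_KKK.mpr ⟨by rw [orderOf_conj_eq, hJ], hK.conj_mem _ hJK t⟩
  rw [← Finset.sum_fiberwise_of_maps_to hm, Finset.mul_sum]
  refine Finset.sum_congr rfl fun a ha => ?_
  have h1 : ∀ t ∈ (univ.filter fun t => t * J * t⁻¹ = a), F (t * J * t⁻¹) = F a := by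
    intro t ht
    rw [(Finset.mem_filter.mp ht).2]
  obtain ⟨ha2, haK⟩ := mem_KKK.mp ha
  rw [Finset.sum_congr rfl h1, Finset.sum_const, nsmul_eq_mul,
    card_fiber_conj (hone a haK ha2).symm]

end Cfsg.Agent.Lib.Cent4
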