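import Cfsg.Agent.Lib.Cent4.Eqs

/-!
# The formula for a subgroup of index two, when the four-group in it is permuted transitively
-/

set_option autoImplicit false
set_option linter.unusedSectionVars false
set_option linter.style.haveILetI false
set_option linter.unusedVariables false

namespace Cfsg.Agent.Lib.Cent4

open Cfsg Subgroup
open Cfsg.Agent.Lib.V4Block Cfsg.Agent.Lib.DihBlock

universe u

variable {G : Type u} [Group G] [Fintype G]
variable {P : Sylow 2 G} {σ τ : G}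

/-- The elements of the Sylow subgroup lying in the index two subgroup. -/
theorem P_inf_K (h : DihCtx P σ τ 4) {K : Subgroup G} (hK : K.index = 2) (hσK : σ ∉ K) (hτK : τ ∈ K)
    {a : G} (haP : a ∈ (P : Subgroup G)) (haK : a ∈ K) :
    a = 1 ∨ a = σ ^ 2 ∨ a = τ ∨ a = σ ^ 2 * τ := by
  have hσ2 : σ ^ 2 ∈ K := Subgroup.sq_mem_of_index_two hK σ
  have hσ3 : σ ^ 3 ∉ K := by
    intro h3
    have e : σ ^ 3 = σ * σ ^ 2 := by rw [pow_succ']
    rw [e, Subgroup.mul_mem_iff_of_index_two hK] at h3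
    exact hσK (h3.mpr hσ2)
  have hmod : ∀ i : ℕ, σ ^ i = σ ^ (i % 4) ∧ i % 4 < 4 := fun i =>
    ⟨by rw [← h.σo, pow_mod_orderOf], Nat.mod_lt _ (by norm_num)⟩
  obtain ⟨i, hi | hi⟩ := h.gen a haP
  · obtain ⟨h1, h2⟩ := hmod i
    rw [h1] at hi
    generalize i % 4 = j at hi h2
    subst hi
    interval_cases j
    · left; simp
    · exact absurd (by simpa using haK) hσK
    · right; left; rfl
    · exact absurd haK hσ3
  · obtain ⟨h1, h2⟩ := hmod i
    rw [h1] at hi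
    generalize i % 4 = j at hi h2
    subst hi
    have hj : σ ^ j ∈ K := (Subgroup.mul_mem_cancel_right K hτK).mp haK
    interval_cases j
    · right; right; left; simp
    · exact absurd (by simpa using hj) hσK
    · right; right; right; rfl
    · exact absurd hj hσ3

/-- The involutions in the index two subgroup are all conjugate. -/
theorem one_K (h : DihCtx P σ τ 4) {K : Subgroup G} (hK : K.index = 2) (hσK : σ ∉ K) (hτK : τ ∈ K)
    {s : G} (h1 : s * σ ^ 2 * s⁻¹ = τ) (h2 : s * τ * s⁻¹ = σ ^ 2 * τ) (a : G) (haK : a ∈ K)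
    (ha : orderOf a = 2) : IsConj a (σ ^ 2) := by
  classical
  obtain ⟨Q, hQ⟩ := exists_sylow_mem ha
  obtain ⟨g, rfl⟩ := MulAction.exists_smul_eq G P Q
  have hmem := (Cfsg.Agent.Lib.Transfer.Frobenius.mem_smul_sylow_iff g a P).mp hQ
  have hKn : K.Normal := Subgroup.normal_of_index_eq_two hK
  have haK' : g⁻¹ * a * g ∈ K := by
    have := hKn.conj_mem a haK g⁻¹
    simpa using this
  have hw : orderOf (g⁻¹ * a * g) = 2 := by
    have := orderOf_conj_eq (G := G) g⁻¹ a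
    rw [inv_inv] at this
    rw [this, ha]
  have hconj : IsConj a (g⁻¹ * a * g) := by
    rw [isConj_iff]
    exact ⟨g⁻¹, by group⟩
  refine hconj.trans ?_
  have h1' : IsConj (σ ^ 2) τ := isConj_iff.mpr ⟨s, h1⟩
  have h2' : IsConj τ (σ ^ 2 * τ) := isConj_iff.mpr ⟨s, h2⟩
  rcases P_inf_K h hK hσK hτK hmem haK' with e | e | e | e
  · exact absurd e (ne_one_of_orderOf_two hw)
  · rw [e]
  · rw [e]
    exact h1'.symm
  · rw [e]
    exact (h1'.trans h2').symm

/-- The involutions in `K` commuting with `z` form one orbit. -/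
theorem IzK_eq_orb (h : DihCtx P σ τ 4) {K : Subgroup G} (hK : K.index = 2) (hσK : σ ∉ K)
    (hτK : τ ∈ K) : IzK K (σ ^ 2) = orb (σ ^ 2) τ := by
  classical
  have hKn : K.Normal := Subgroup.normal_of_index_eq_two hK
  have hU : Iz (σ ^ 2) = orb (σ ^ 2) τ ∪ orb (σ ^ 2) (σ * τ) := h.Iz_eq_union
  ext a
  rw [mem_IzK, ← mem_Iz, hU, Finset.mem_union]
  constructor
  · rintro ⟨h1 | h1, h2⟩
    · exact h1
    · exfalso
      obtain ⟨c, -, rfl⟩ := mem_orb.mp h1
      have h3 : σ * τ ∈ K := by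
        have h4 := hKn.conj_mem _ h2 c⁻¹
        have e : c⁻¹ * (c * (σ * τ) * c⁻¹) * c⁻¹⁻¹ = σ * τ := by group
        rwa [e] at h4
      exact hσK ((Subgroup.mul_mem_cancel_right K hτK).mp h3)
  · intro h1
    refine ⟨Or.inl h1, ?_⟩
    obtain ⟨c, -, rfl⟩ := mem_orb.mp h1
    exact hKn.conj_mem _ hτK c

/-- The formula. -/
theorem L_abs [Fintype (IrrCharacter G)] (h : DihCtx P σ τ 4) (hCx : ∀ g, Commute g σ → g ∈ zpowers σ)
    {K : Subgroup G} (hK : K.index = 2) (hσK : σ ∉ K) (hτK : τ ∈ K)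
    {s : G} (h1 : s * σ ^ 2 * s⁻¹ = τ) (h2 : s * τ * s⁻¹ = σ ^ 2 * τ) :
    ∃ D I : ℤ, Odd D ∧
      I * (Nat.card (centralizer ({σ ^ 2, τ} : Set G)) : ℤ) =
        (Nat.card (centralizer ({σ ^ 2} : Set G)) : ℤ) ∧
      (Nat.card G : ℤ) * (D - 1) ^ 2 =
        2 * (Nat.card (centralizer ({σ ^ 2} : Set G)) : ℤ) * I ^ 2 * D * (D + 1) ∧
      (D - 1) * (Nat.card (centralizer ({σ * τ} : Set G)) : ℤ) = 2 * I ^ 2 * (D + 1) := by
  classical
  obtain ⟨M, hM⟩ := Cfsg.Agent.Lib.BlockH.Basic.exists_isPModular Nat.prime_two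
  obtain ⟨D, hD, h3, h4⟩ := L_formula h hM hCx hK hσK hτK (one_K h hK hσK hτK h1 h2)
  rw [IzK_eq_orb h hK hσK hτK] at h3 h4
  refine ⟨D, ((orb (σ ^ 2) τ).card : ℤ), hD, ?_, h3, h4⟩
  have := card_orb_eq (σ ^ 2) τ
  exact_mod_cast this

end Cfsg.Agent.Lib.Cent4
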