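import Cfsg.Agent.Lib.Cent4.Formula

/-!
# The formula for a group with a subgroup of index two containing one class of involutions
-/

set_option autoImplicit false
set_option linter.unusedSectionVars false
set_option linter.style.haveILetI false
set_option linter.unusedVariables false

namespace Cfsg.Agent.Lib.Cent4

open Cfsg Subgroup Finset
open Cfsg.Agent.Lib.V4Block Cfsg.Agent.Lib.DihBlock Cfsg.Agent.Lib.Blocks.Third
open Cfsg.Agent.Lib.Char.Basic Cfsg.Agent.Lib.Char.Ortho Cfsg.Agent.Lib.Char.Degree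
open Cfsg.Agent.Lib.Char.Complete Cfsg.Agent.Lib.Char.ClassSum Cfsg.Agent.Lib.Char.ClassProd
open scoped ComplexConjugate

universe u

variable {G : Type u} [Group G] [Fintype G] [Fintype (IrrCharacter G)]
variable {P : Sylow 2 G} {σ τ : G} {M : Ideal AlgInt} [Fintype (Idx M G)]
variable {δ s₂ s₃ : ℤ} {r₁ r₂ r₃ : Idx M G} {p : Fin (4 / 2 - 1) → Idx M G}

/-- The sum over the involutions of `K`. -/
theorem formula_K (h : DihCtx P σ τ 4) (hM : IsPModular 2 M)
    (hT : DTable M σ Complex.I 4 δ s₂ s₃ r₁ r₂ r₃ p) {K : Subgroup G} (hK : K.Normal)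
    (hJK : σ ^ 2 ∈ K) (hone : ∀ a ∈ K, orderOf a = 2 → IsConj a (σ ^ 2)) :
    (Nat.card G : ℤ) * ((charDegree (r₁.1 : G → ℂ) : ℤ) - δ) ^ 2 =
      2 * (Nat.card (centralizer ({σ ^ 2} : Set G)) : ℤ) * ((IzK K (σ ^ 2)).card : ℤ) ^ 2 *
        (charDegree (r₁.1 : G → ℂ) : ℤ) * ((charDegree (r₁.1 : G → ℂ) : ℤ) + δ) := by
  classical
  have hj : 0 < 4 / 2 - 1 := by norm_num
  obtain ⟨π, hπ⟩ := h.exists_proj
  have hζ := Complex.isPrimitiveRoot_I
  have hφ := exists_phi h hM hζ hT hj hπ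
  have hmain := DihCtx.main_sum_K h hK hJK hπ hζ hφ hone
  set χ' : IrrCharacter G := (p ⟨0, hj⟩).1 with hχ'
  set x₁ := charDegree (r₁.1 : G → ℂ) with hx₁
  set d' := charDegree (χ' : G → ℂ) with hd'
  have hsum := sum_conj_eq_K hK h.J_order hJK hone
    (fun a => (fun g => 1 + (δ : ℂ) * (r₁.1 : G → ℂ) g - (δ : ℂ) * (χ' : G → ℂ) g)
      (σ ^ (4 / 2) * a))
  simp only at hsum hmain
  rw [hmain, Finset.sum_sub_distrib, Finset.sum_add_distrib, ← Finset.mul_sum, ← Finset.mul_sum,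
    Cfsg.Agent.Lib.Blocks.Weak.sum_conj_mul, Cfsg.Agent.Lib.Blocks.Weak.sum_conj_mul] at hsum
  have hδδ : (δ : ℂ) * δ = 1 := sign_sq hT.hδ
  have hv1 : (r₁.1 : G → ℂ) (σ ^ (4 / 2)) = δ := val₁_two hT
  have hv2 : (χ' : G → ℂ) (σ ^ (4 / 2)) = -2 * δ := by
    have h1 := hT.valp (4 / 2) (by norm_num) (by norm_num) ⟨0, hj⟩
    rw [hχ', h1]
    norm_num [Complex.I_sq]
    ring
  have hx1 : (r₁.1 : G → ℂ) 1 = x₁ := (charDegree_natCast (isCharacter_of_isIrrCharacter r₁.1.2)).symm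
  have hd1 : (χ' : G → ℂ) 1 = d' := (charDegree_natCast (isCharacter_of_isIrrCharacter χ'.2)).symm
  have hdeg : (d' : ℂ) = x₁ + δ := by
    have h1 := hT.odd₁ 1 (by simp) ⟨0, hj⟩
    rw [hx1] at h1
    change -1 - (δ : ℂ) * x₁ + (δ : ℂ) * (χ' : G → ℂ) 1 = 0 at h1
    rw [hd1] at h1
    linear_combination (δ : ℂ) * h1 + ((x₁ : ℂ) - (d' : ℂ)) * hδδ
  have hdegZ : (d' : ℤ) = (x₁ : ℤ) + δ := by exact_mod_cast hdeg
  have hx₁pos : 0 < x₁ := charDegree_pos r₁.1.2
  have hd'pos : 0 < d' := charDegree_pos χ'.2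
  have hx₁c : (x₁ : ℂ) ≠ 0 := Nat.cast_ne_zero.mpr hx₁pos.ne'
  have hd'c : (d' : ℂ) ≠ 0 := Nat.cast_ne_zero.mpr hd'pos.ne'
  rw [hv1, hv2, hx1, hd1] at hsum
  simp only [Finset.sum_const, Finset.card_univ, nsmul_eq_mul, mul_one] at hsum
  rw [← Nat.card_eq_fintype_card] at hsum
  set c := Nat.card (centralizer ({σ ^ (4 / 2)} : Set G)) with hc
  set I := (IzK K (σ ^ (4 / 2))).card with hI
  have e1 : (Nat.card G : ℂ) * (δ : ℂ) * (δ : ℂ) / (x₁ : ℂ) = (Nat.card G : ℂ) / (x₁ : ℂ) := by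
    rw [mul_assoc, hδδ, mul_one]
  have e2 : (Nat.card G : ℂ) * (-2 * (δ : ℂ)) * (-2 * (δ : ℂ)) / (d' : ℂ) =
      4 * (Nat.card G : ℂ) / (d' : ℂ) := by
    congr 1
    linear_combination (4 * (Nat.card G : ℂ)) * hδδ
  rw [e1, e2] at hsum
  have e3 : (δ : ℂ) * ((Nat.card G : ℂ) / (x₁ : ℂ)) * ((x₁ : ℂ) * d') =
      (δ : ℂ) * (Nat.card G : ℂ) * d' := by
    field_simp
  have e4 : (δ : ℂ) * (4 * (Nat.card G : ℂ) / (d' : ℂ)) * ((x₁ : ℂ) * d') =
      4 * (δ : ℂ) * (Nat.card G : ℂ) * x₁ := by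
    field_simp
  have h5 : (Nat.card G : ℂ) * x₁ * d' + (δ : ℂ) * (Nat.card G : ℂ) * d' -
      4 * (δ : ℂ) * (Nat.card G : ℂ) * x₁ = 2 * (c : ℂ) * (I : ℂ) ^ 2 * x₁ * d' := by
    linear_combination ((x₁ : ℂ) * d') * hsum - e3 + e4
  have hC : (Nat.card G : ℂ) * ((x₁ : ℂ) - δ) ^ 2 = 2 * (c : ℂ) * (I : ℂ) ^ 2 * x₁ * d' := by
    linear_combination h5 - (Nat.card G : ℂ) * ((x₁ : ℂ) + δ) * hdeg
  have hZ : (Nat.card G : ℤ) * ((x₁ : ℤ) - δ) ^ 2 = 2 * (c : ℤ) * (I : ℤ) ^ 2 * x₁ * d' := by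
    exact_mod_cast hC
  rw [hdegZ] at hZ
  exact hZ

/-- The sign homomorphism of a subgroup of index two. -/
noncomputable def signHom (K : Subgroup G) (hK : K.index = 2) : G →* ℂˣ := by
  classical
  exact
  { toFun := fun g => if g ∈ K then 1 else -1
    map_one' := by simp [K.one_mem]
    map_mul' := by
      intro a b
      have h := Subgroup.mul_mem_iff_of_index_two hK (a := a) (b := b)
      by_cases ha : a ∈ K <;> by_cases hb : b ∈ K <;> simp [ha, hb, h] }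

theorem signHom_mem {K : Subgroup G} (hK : K.index = 2) {g : G} (hg : g ∈ K) :
    ((signHom K hK g : ℂˣ) : ℂ) = 1 := by
  classical
  unfold signHom
  change (((if g ∈ K then 1 else -1 : ℂˣ)) : ℂ) = 1
  simp [hg]

theorem signHom_not_mem {K : Subgroup G} (hK : K.index = 2) {g : G} (hg : g ∉ K) :
    ((signHom K hK g : ℂˣ) : ℂ) = -1 := by
  classical
  unfold signHom
  change (((if g ∈ K then 1 else -1 : ℂˣ)) : ℂ) = -1
  simp [hg]

/-- The sign character. -/
noncomputable def signChar (K : Subgroup G) (hK : K.index = 2) : IrrCharacter G :=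
  ⟨fun g => ((signHom K hK g : ℂˣ) : ℂ), Cfsg.Agent.Lib.Char.Linear.isIrrCharacter_of_hom _⟩

theorem signChar_mem {K : Subgroup G} (hK : K.index = 2) {g : G} (hg : g ∈ K) :
    (signChar K hK : G → ℂ) g = 1 := signHom_mem hK hg

theorem signChar_not_mem {K : Subgroup G} (hK : K.index = 2) {g : G} (hg : g ∉ K) :
    (signChar K hK : G → ℂ) g = -1 := signHom_not_mem hK hg

/-- The pairs for the structure constant `(J, σ τ, σ)`. -/
theorem pairs_K (h : DihCtx P σ τ 4) (hCx : ∀ g, Commute g σ → g ∈ zpowers σ) {K : Subgroup G}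
    (hK : K.index = 2) (hσK : σ ∉ K) (hτK : τ ∈ K)
    (hone : ∀ a ∈ K, orderOf a = 2 → IsConj a (σ ^ 2)) :
    Nat.card {p : G × G // IsConj (σ ^ 2) p.1 ∧ IsConj (σ * τ) p.2 ∧ p.1 * p.2 = σ} = 2 := by
  classical
  have hKn := Subgroup.normal_of_index_eq_two hK
  have hJK : σ ^ 2 ∈ K := Subgroup.sq_mem_of_index_two hK σ
  have hστ : σ * τ ∉ K := fun e => hσK ((K.mul_mem_cancel_right hτK).mp e)
  have hJo : orderOf (σ ^ 2) = 2 := h.J_order
  have hc := pairs_card h hCx hJo (DihCtx.στ_order h) ({0, 2} : Finset ℕ) (by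
    intro i hi
    simp only [Finset.mem_insert, Finset.mem_singleton] at hi
    rcases hi with rfl | rfl <;> simp) (by
    intro i hi
    have hnot : ∀ u, u ∉ K → ¬ IsConj (σ ^ 2) u := by
      intro u hu hc
      obtain ⟨g, rfl⟩ := isConj_iff.mp hc
      exact hu (hKn.conj_mem _ hJK g)
    have h5 : τ * σ = σ⁻¹ * τ := by
      have := h.rel
      calc τ * σ = (τ * σ * τ⁻¹) * τ := by group
        _ = σ⁻¹ * τ := by rw [this]
    interval_cases i
    · simp only [pow_zero, one_mul, Finset.mem_insert, Finset.mem_singleton, true_or, iff_true]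
      refine ⟨(hone τ hτK h.τo).symm, ?_⟩
      rw [isConj_iff]
      exact ⟨τ, by rw [h.τinv]; have := h.ττ; calc τ * (σ * τ) * τ = τ * σ * (τ * τ) := by group
                     _ = τ * σ := by rw [this, mul_one]⟩
    · constructor
      · rintro ⟨h1, -⟩
        exact absurd h1 (hnot _ (by rw [pow_one]; exact hστ))
      · intro h1
        simp at h1
    · simp only [Finset.mem_insert, Finset.mem_singleton, OfNat.ofNat_ne_zero, or_true, iff_true]
      have h1 : σ ^ 2 * τ ∈ K := K.mul_mem hJK hτK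
      refine ⟨(hone _ h1 (order_refl h 2)).symm, ?_⟩
      have h2 : σ ^ 2 * τ * σ = σ * τ := by
        rw [mul_assoc, h5, ← mul_assoc, pow_two, mul_assoc σ σ, mul_inv_cancel, mul_one]
      rw [h2]
    · constructor
      · rintro ⟨h1, -⟩
        refine absurd h1 (hnot _ ?_)
        intro e
        apply hστ
        have h2 : σ ^ 3 * τ = σ ^ 2 * (σ * τ) := by
          rw [pow_succ σ 2, mul_assoc]
        rw [h2] at e
        exact (K.mul_mem_cancel_left hJK).mp e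
      · intro h1
        simp at h1)
  rw [hc]
  rfl

/-- The structure constant `(J, σ τ, σ)`. -/
theorem formula_sign (h : DihCtx P σ τ 4) (hCx : ∀ g, Commute g σ → g ∈ zpowers σ)
    (hT : DTable M σ Complex.I 4 δ s₂ s₃ r₁ r₂ r₃ p) {K : Subgroup G}
    (hK : K.index = 2) (hσK : σ ∉ K) (hτK : τ ∈ K)
    (hone : ∀ a ∈ K, orderOf a = 2 → IsConj a (σ ^ 2)) {b : IrrCharacter G}
    (hbσ : (b : G → ℂ) σ = -δ) (hbJ : (b : G → ℂ) (σ ^ 2) = δ)
    (hbd : (b : G → ℂ) 1 = charDegree (r₁.1 : G → ℂ))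
    (hsum : ∀ F : IrrCharacter G → ℂ, (∀ χ : IrrCharacter G, (χ : G → ℂ) σ = 0 → F χ = 0) →
      ∑ χ : IrrCharacter G, F χ = F (oneI G) + F r₁.1 + F (signChar K hK) + F b) :
    (Nat.card (centralizer ({σ ^ 2} : Set G)) : ℤ) * (Nat.card (centralizer ({σ * τ} : Set G)) : ℤ) *
        (charDegree (r₁.1 : G → ℂ) : ℤ) =
      (Nat.card G : ℤ) * ((charDegree (r₁.1 : G → ℂ) : ℤ) - δ) := by
  classical
  have hJK : σ ^ 2 ∈ K := Subgroup.sq_mem_of_index_two hK σ
  have hστ : σ * τ ∉ K := fun e => hσK ((K.mul_mem_cancel_right hτK).mp e)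
  have hδ := sign_sq hT.hδ
  -- column orthogonality
  have hnc : ¬ IsConj (σ * τ) σ := by
    intro e
    obtain ⟨g, hg⟩ := isConj_iff.mp e
    have h1 := orderOf_conj_eq g (σ * τ)
    rw [hg, h.σo, DihCtx.στ_order h] at h1
    omega
  have hcol := sum_irr_mul_conj (σ * τ) σ
  rw [if_neg hnc, hsum (fun χ => (χ : G → ℂ) (σ * τ) * conj ((χ : G → ℂ) σ)) (by
    intro χ hχ
    simp [hχ])] at hcol
  simp only [oneI_apply, map_one, mul_one] at hcol
  rw [val₁_one hT, signChar_not_mem hK hστ, signChar_not_mem hK hσK, hbσ] at hcol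
  simp only [map_neg, sign_conj, map_one] at hcol
  set v₁ := (r₁.1 : G → ℂ) (σ * τ) with hv₁
  set v₂ := (b : G → ℂ) (σ * τ) with hv₂
  -- the structure constant
  have hF := card_product_eq (σ ^ 2) (σ * τ) σ
  rw [pairs_K h hCx hK hσK hτK hone, hsum (fun χ => (χ : G → ℂ) (σ ^ 2) * (χ : G → ℂ) (σ * τ) *
    conj ((χ : G → ℂ) σ) / (χ : G → ℂ) 1) (by
      intro χ hχ
      simp [hχ])] at hF
  simp only [oneI_apply, map_one, mul_one, div_one] at hF
  rw [val₁_one hT, val₁_two hT, signChar_not_mem hK hστ, signChar_not_mem hK hσK,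
    signChar_mem hK hJK, signChar_mem hK K.one_mem, hbσ, hbJ, hbd,
    ← charDegree_natCast (isCharacter_of_isIrrCharacter r₁.1.2)] at hF
  simp only [map_neg, sign_conj, map_one, div_one] at hF
  have hcl₁ := card_cl_mul (σ ^ 2)
  have hcl₂ := card_cl_mul (σ * τ)
  set c₁ := Nat.card (centralizer ({σ ^ 2} : Set G)) with hc₁
  set c₂ := Nat.card (centralizer ({σ * τ} : Set G)) with hc₂
  set C₁ := Nat.card {x : G // IsConj (σ ^ 2) x} with hC₁
  set C₂ := Nat.card {x : G // IsConj (σ * τ) x} with hC₂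
  set n := Nat.card G with hn
  set x₁ := charDegree (r₁.1 : G → ℂ) with hx₁
  have hx0 : (x₁ : ℂ) ≠ 0 := Nat.cast_ne_zero.mpr (charDegree_pos r₁.1.2).ne'
  have hn0 : (n : ℂ) ≠ 0 := Nat.cast_ne_zero.mpr Nat.card_pos.ne'
  have hdiff : v₁ - v₂ = -2 * δ := by
    linear_combination (δ : ℂ) * hcol - (v₁ - v₂) * hδ
  have hS : (2 : ℂ) = (C₁ : ℂ) * C₂ / n * (2 - 2 * δ / x₁) := by
    have h1 : (1 : ℂ) + (δ : ℂ) * v₁ * δ / x₁ + (1 * -1 * -1) + (δ : ℂ) * v₂ * -δ / x₁ =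
        2 - 2 * δ / x₁ := by
      have e1 : (δ : ℂ) * v₁ * δ = v₁ := by linear_combination v₁ * hδ
      have e2 : (δ : ℂ) * v₂ * -δ = -v₂ := by linear_combination -v₂ * hδ
      have e3 : v₁ / (x₁ : ℂ) + -v₂ / x₁ = -2 * δ / x₁ := by
        rw [← add_div]
        congr 1
      rw [e1, e2]
      linear_combination e3
    have h2 := hF
    push_cast at h2
    rw [h1] at h2
    exact_mod_cast h2
  have hkey : (c₁ : ℂ) * c₂ * x₁ = n * ((x₁ : ℂ) - δ) := by
    have h3 : (C₁ : ℂ) * C₂ * ((c₁ : ℂ) * c₂) = n * n := by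
      calc (C₁ : ℂ) * C₂ * ((c₁ : ℂ) * c₂) = ((C₁ : ℂ) * c₁) * ((C₂ : ℂ) * c₂) := by ring
        _ = n * n := by rw [hcl₁, hcl₂]
    have h4 : (2 : ℂ) * (c₁ * c₂) * (n * x₁) = (C₁ * C₂ * (c₁ * c₂)) * (2 * (x₁ - δ)) := by
      have h5 : (2 : ℂ) * n * x₁ = (C₁ : ℂ) * C₂ * (2 * (x₁ - δ)) := by
        have h6 : (C₁ : ℂ) * C₂ / n * (2 - 2 * δ / x₁) * (n * x₁) = (C₁ : ℂ) * C₂ * (2 * (x₁ - δ)) := by
          field_simp
        rw [← h6, ← hS]
        ring
      linear_combination (c₁ * c₂ : ℂ) * h5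
    rw [h3] at h4
    have h7 : (n : ℂ) * (2 * ((c₁ : ℂ) * c₂ * x₁)) = n * (2 * (n * ((x₁ : ℂ) - δ))) := by
      linear_combination h4
    have h8 := mul_left_cancel₀ hn0 h7
    exact mul_left_cancel₀ (by norm_num : (2 : ℂ) ≠ 0) h8
  exact_mod_cast hkey

omit [Fintype (Idx M G)] in
/-- **The formula for a subgroup of index two**. -/
theorem L_formula (h : DihCtx P σ τ 4) (hM : IsPModular 2 M)
    (hCx : ∀ g, Commute g σ → g ∈ zpowers σ) {K : Subgroup G}
    (hK : K.index = 2) (hσK : σ ∉ K) (hτK : τ ∈ K)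
    (hone : ∀ a ∈ K, orderOf a = 2 → IsConj a (σ ^ 2)) :
    ∃ D : ℤ, Odd D ∧
      (Nat.card G : ℤ) * (D - 1) ^ 2 =
        2 * (Nat.card (centralizer ({σ ^ 2} : Set G)) : ℤ) * ((IzK K (σ ^ 2)).card : ℤ) ^ 2 * D * (D + 1) ∧
      (D - 1) * (Nat.card (centralizer ({σ * τ} : Set G)) : ℤ) =
        2 * ((IzK K (σ ^ 2)).card : ℤ) ^ 2 * (D + 1) := by
  classical
  letI : Fintype (Idx M G) := Fintype.ofFinite _
  obtain ⟨δ, s₂, s₃, r₁, r₂, r₃, p, hT⟩ := h.exists_table hM Complex.isPrimitiveRoot_I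
  have hc4 := card_cen_four h hCx
  have hKn := Subgroup.normal_of_index_eq_two hK
  have hJK : σ ^ 2 ∈ K := Subgroup.sq_mem_of_index_two hK σ
  have hA := formula_K h hM hT hKn hJK hone
  have hlσ := signChar_not_mem hK hσK
  have hlJ := signChar_mem hK hJK
  have hl1 := signChar_mem hK K.one_mem
  have hrel := deg_rel hT
  have hsum₀ := sum_four hT hc4
  have hdeg : ∀ (a : IrrCharacter G), a = signChar K hK → charDegree (a : G → ℂ) = 1 := by
    rintro a rfl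
    have h1 := charDegree_natCast (isCharacter_of_isIrrCharacter (signChar K hK).2)
    rw [hl1] at h1
    exact_mod_cast h1
  have hB : (Nat.card (centralizer ({σ ^ 2} : Set G)) : ℤ) *
      (Nat.card (centralizer ({σ * τ} : Set G)) : ℤ) * (charDegree (r₁.1 : G → ℂ) : ℤ) =
      (Nat.card G : ℤ) * ((charDegree (r₁.1 : G → ℂ) : ℤ) - δ) := by
    have hne : (signChar K hK : G → ℂ) σ ≠ 0 := by
      rw [hlσ]
      norm_num
    rcases cover_of_ne hT hc4 _ hne with e | e | e | e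
    · exfalso
      rw [e, oneI_apply] at hlσ
      norm_num at hlσ
    · exfalso
      rw [e, val₁_one hT] at hlσ
      rw [e, val₁_two hT] at hlJ
      rw [hlJ] at hlσ
      norm_num at hlσ
    · -- `λ = r₂`
      have hs : s₂ = 1 := by
        rw [e, val₂_one hT] at hlσ
        have : (s₂ : ℂ) = 1 := by linear_combination -hlσ
        exact_mod_cast this
      have hx := hdeg _ e.symm
      rw [hs, hx] at hrel
      have hpos := charDegree_pos r₃.1.2
      have hpos₁ := charDegree_pos r₁.1.2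
      have hδ3 : s₃ = δ ∧ charDegree (r₃.1 : G → ℂ) = charDegree (r₁.1 : G → ℂ) := by
        rcases hT.hδ with e₁ | e₁ <;> rcases hT.hs₃ with e₃ | e₃ <;> rw [e₁, e₃] at hrel ⊢ <;>
          constructor <;> first | rfl | omega
      obtain ⟨h3, h3'⟩ := hδ3
      refine formula_sign h hCx hT hK hσK hτK hone (b := r₃.1) ?_ ?_ ?_ ?_
      · rw [val₃_one hT, h3]
      · rw [val₃_two hT, h3]
      · rw [← charDegree_natCast (isCharacter_of_isIrrCharacter r₃.1.2), h3']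
      · intro F hF
        rw [hsum₀ F hF, e]
    · -- `λ = r₃`
      have hs : s₃ = 1 := by
        rw [e, val₃_one hT] at hlσ
        have : (s₃ : ℂ) = 1 := by linear_combination -hlσ
        exact_mod_cast this
      have hx := hdeg _ e.symm
      rw [hs, hx] at hrel
      have hpos := charDegree_pos r₂.1.2
      have hpos₁ := charDegree_pos r₁.1.2
      have hδ3 : s₂ = δ ∧ charDegree (r₂.1 : G → ℂ) = charDegree (r₁.1 : G → ℂ) := by
        rcases hT.hδ with e₁ | e₁ <;> rcases hT.hs₂ with e₃ | e₃ <;> rw [e₁, e₃] at hrel ⊢ <;>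
          constructor <;> first | rfl | omega
      obtain ⟨h3, h3'⟩ := hδ3
      refine formula_sign h hCx hT hK hσK hτK hone (b := r₂.1) ?_ ?_ ?_ ?_
      · rw [val₂_one hT, h3]
      · rw [val₂_two hT, h3]
      · rw [← charDegree_natCast (isCharacter_of_isIrrCharacter r₂.1.2), h3']
      · intro F hF
        rw [hsum₀ F hF, e]
        ring
  obtain ⟨s, hs⟩ := cong₁ h.σo hT
  set x₁ := charDegree (r₁.1 : G → ℂ) with hx₁
  set n := Nat.card G with hn
  set c := Nat.card (centralizer ({σ ^ 2} : Set G)) with hc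
  set c₂ := Nat.card (centralizer ({σ * τ} : Set G)) with hc₂
  set I := (IzK K (σ ^ 2)).card with hI
  have hE1 : (n : ℤ) * (δ * (x₁ : ℤ) - 1) ^ 2 =
      2 * (c : ℤ) * (I : ℤ) ^ 2 * (δ * (x₁ : ℤ)) * (δ * (x₁ : ℤ) + 1) := by
    rcases hT.hδ with e | e <;> rw [e] at hA ⊢ <;> linear_combination hA
  have hE2 : (c : ℤ) * c₂ * (δ * (x₁ : ℤ)) = (n : ℤ) * (δ * (x₁ : ℤ) - 1) := by
    rcases hT.hδ with e | e <;> rw [e] at hB ⊢ <;> first | linear_combination hB | linear_combination -hB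
  have hcpos : (c : ℤ) ≠ 0 := by exact_mod_cast Nat.card_pos.ne'
  set D := δ * (x₁ : ℤ) with hD
  have hDodd : Odd D := by
    rw [hs]
    exact ⟨-2 * s, by ring⟩
  have hD0 : D ≠ 0 := by
    rintro e
    rw [e] at hDodd
    simp at hDodd
  refine ⟨D, hDodd, hE1, ?_⟩
  have h5 : ((c : ℤ) * D) * ((D - 1) * c₂) = ((c : ℤ) * D) * (2 * (I : ℤ) ^ 2 * (D + 1)) := by
    linear_combination (D - 1) * hE2 + hE1
  exact mul_left_cancel₀ (mul_ne_zero hcpos hD0) h5

end Cfsg.Agent.Lib.Cent4
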