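import Cfsg.Agent.Lib.Cent4.Table

/-!
# Structure constants: pairs of involutions with product `σ`
-/

set_option autoImplicit false
set_option linter.unusedSectionVars false
set_option linter.style.haveILetI false
set_option linter.unusedVariables false

namespace Cfsg.Agent.Lib.Cent4

open Cfsg Subgroup Finset
open Cfsg.Agent.Lib.V4Block Cfsg.Agent.Lib.DihBlock Cfsg.Agent.Lib.Blocks.Third
open Cfsg.Agent.Lib.Char.Basic Cfsg.Agent.Lib.Char.Ortho Cfsg.Agent.Lib.Char.Degree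
open Cfsg.Agent.Lib.Char.Complete Cfsg.Agent.Lib.Char.ClassSum Cfsg.Agent.Lib.Char.ClassProd
open scoped ComplexConjugate

universe u

variable {G : Type u} [Group G] [Fintype G]
variable {P : Sylow 2 G} {σ τ : G}

theorem card_cen_four (h : DihCtx P σ τ 4) (hCx : ∀ g, Commute g σ → g ∈ zpowers σ) :
    Nat.card (centralizer ({σ} : Set G)) = 4 := by
  have h1 : centralizer ({σ} : Set G) = zpowers σ := by
    apply le_antisymm
    · intro g hg
      exact hCx g (mem_centralizer_singleton_iff.mp hg)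
    · intro g hg
      obtain ⟨k, rfl⟩ := mem_zpowers_iff.mp hg
      rw [mem_centralizer_singleton_iff]
      exact ((Commute.refl σ).zpow_left k).eq
  rw [h1, Nat.card_zpowers, h.σo]

theorem invol_of_conj {a b : G} (ha : orderOf a = 2) (h : IsConj a b) : b * b = 1 := by
  obtain ⟨g, rfl⟩ := isConj_iff.mp h
  have haa := mul_self_of_orderOf_two ha
  calc g * a * g⁻¹ * (g * a * g⁻¹) = g * (a * a) * g⁻¹ := by group
    _ = 1 := by rw [haa]; group

/-- The pairs of conjugates of `a` and `b` with product `σ`. -/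
theorem pairs_card (h : DihCtx P σ τ 4) (hCx : ∀ g, Commute g σ → g ∈ zpowers σ) {a b : G}
    (ha : orderOf a = 2) (hb : orderOf b = 2) (A : Finset ℕ) (hA : A ⊆ range 4)
    (hiff : ∀ i < 4, (IsConj a (σ ^ i * τ) ∧ IsConj b (σ ^ i * τ * σ)) ↔ i ∈ A) :
    Nat.card {p : G × G // IsConj a p.1 ∧ IsConj b p.2 ∧ p.1 * p.2 = σ} = A.card := by
  classical
  rw [Nat.card_eq_fintype_card]
  have hinj : Set.InjOn (fun i : ℕ => (σ ^ i * τ, σ ^ i * τ * σ)) (A : Set ℕ) := by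
    intro i hi j hj e
    have h1 : σ ^ i * τ = σ ^ j * τ := congrArg Prod.fst e
    have h2 : σ ^ i = σ ^ j := mul_right_cancel h1
    have hi' : i ∈ Set.Iio (orderOf σ) := by
      rw [h.σo]
      exact Finset.mem_range.mp (hA hi)
    have hj' : j ∈ Set.Iio (orderOf σ) := by
      rw [h.σo]
      exact Finset.mem_range.mp (hA hj)
    exact pow_injOn_Iio_orderOf hi' hj' h2
  rw [← Finset.card_image_of_injOn hinj]
  apply Fintype.card_of_subtype
  rintro ⟨u, v⟩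
  simp only [Finset.mem_image, Prod.mk.injEq]
  constructor
  · rintro ⟨i, hi, rfl, rfl⟩
    have hi4 : i < 4 := Finset.mem_range.mp (hA hi)
    obtain ⟨h1, h2⟩ := (hiff i hi4).mpr hi
    refine ⟨h1, h2, ?_⟩
    rw [← mul_assoc, h.refl_sq, one_mul]
  · rintro ⟨h1, h2, h3⟩
    have huu := invol_of_conj ha h1
    have hvv := invol_of_conj hb h2
    have hui : u⁻¹ = u := inv_eq_of_mul_eq_one_left huu
    have hvi : v⁻¹ = v := inv_eq_of_mul_eq_one_left hvv
    have hσi : σ⁻¹ = v * u := by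
      rw [← h3, mul_inv_rev, hui, hvi]
    have h4 : u * σ = σ⁻¹ * u := by
      rw [hσi, ← h3, ← mul_assoc, huu, one_mul, mul_assoc, huu, mul_one]
    have hττ := h.ττ
    have hτi := h.τinv
    have h5 : τ * σ = σ⁻¹ * τ := by
      have := h.rel
      calc τ * σ = (τ * σ * τ⁻¹) * τ := by group
        _ = σ⁻¹ * τ := by rw [this]
    have h6 : σ * u = u * σ⁻¹ := by
      rw [hσi, ← h3]
      group
    have hcomm : Commute (u * τ) σ := by
      show u * τ * σ = σ * (u * τ)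
      rw [mul_assoc, h5, ← mul_assoc, ← h6, mul_assoc]
    have hmem := hCx _ hcomm
    have h7 := (mem_zpowers_iff_mem_range_orderOf (x := σ) (y := u * τ)).mp hmem
    obtain ⟨i, hi, hie⟩ := Finset.mem_image.mp h7
    rw [h.σo] at hi
    have hi4 : i < 4 := Finset.mem_range.mp hi
    have hu : σ ^ i * τ = u := by
      rw [hie, mul_assoc, hττ, mul_one]
    have hv : σ ^ i * τ * σ = v := by
      rw [hu, ← h3, ← mul_assoc, huu, one_mul]
    have hc1 : IsConj a (σ ^ i * τ) := by rw [hu]; exact h1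
    have hc2 : IsConj b (σ ^ i * τ * σ) := by rw [hv]; exact h2
    exact ⟨i, (hiff i hi4).mp ⟨hc1, hc2⟩, hu, hv⟩

variable [Fintype (IrrCharacter G)]
variable {M : Ideal AlgInt} [Fintype (Idx M G)]
variable {δ s₂ s₃ : ℤ} {r₁ r₂ r₃ : Idx M G} {p : Fin (4 / 2 - 1) → Idx M G}

theorem card_cl_mul (a : G) :
    (Nat.card {x : G // IsConj a x} : ℂ) * (Nat.card (centralizer ({a} : Set G)) : ℂ) =
      (Nat.card G : ℂ) := by
  rw [← Nat.cast_mul, card_class_mul_card_centralizer]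

theorem order_refl (h : DihCtx P σ τ 4) (i : ℕ) : orderOf (σ ^ i * τ) = 2 := by
  refine orderOf_two_of_mul_self (h.refl_sq i) ?_
  intro e
  apply h.τ_notMem
  have : τ = (σ ^ i)⁻¹ := eq_inv_of_mul_eq_one_right e
  rw [this]
  exact inv_mem (pow_mem (mem_zpowers σ) i)

theorem order_refl_mul (h : DihCtx P σ τ 4) (i : ℕ) : orderOf (σ ^ i * τ * σ) = 2 := by
  have hττ := h.ττ
  have hτi := h.τinv
  have h5 : τ * σ = σ⁻¹ * τ := by
    have := h.rel
    calc τ * σ = (τ * σ * τ⁻¹) * τ := by group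
      _ = σ⁻¹ * τ := by rw [this]
  have h6 : σ ^ i * τ * σ = σ ^ i * σ⁻¹ * τ := by
    rw [mul_assoc, h5, mul_assoc]
  have h7 : σ ^ i * σ⁻¹ * τ = σ ^ (i + 3) * τ := by
    have h8 : σ ^ 4 = 1 := by rw [← h.σo]; exact pow_orderOf_eq_one σ
    have h9 : σ⁻¹ = σ ^ 3 := by
      rw [inv_eq_iff_mul_eq_one, ← pow_succ', h8]
    rw [h9, pow_add]
  rw [h6, h7]
  exact order_refl h _

/-- The structure constant `(J, J, σ)` when all involutions are conjugate. -/
theorem eq_I (h : DihCtx P σ τ 4) (hCx : ∀ g, Commute g σ → g ∈ zpowers σ)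
    (hT : DTable M σ Complex.I 4 δ s₂ s₃ r₁ r₂ r₃ p)
    (hone : ∀ a : G, orderOf a = 2 → IsConj a (σ ^ 2)) :
    4 * (Nat.card (centralizer ({σ ^ 2} : Set G)) : ℤ) ^ 2 *
        ((charDegree (r₁.1 : G → ℂ) : ℤ) * charDegree (r₂.1 : G → ℂ) * charDegree (r₃.1 : G → ℂ)) =
      (Nat.card G : ℤ) * ((charDegree (r₁.1 : G → ℂ) : ℤ) * charDegree (r₂.1 : G → ℂ) *
          charDegree (r₃.1 : G → ℂ) +
        δ * charDegree (r₂.1 : G → ℂ) * charDegree (r₃.1 : G → ℂ) -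
        s₂ * charDegree (r₁.1 : G → ℂ) * charDegree (r₃.1 : G → ℂ) -
        s₃ * charDegree (r₁.1 : G → ℂ) * charDegree (r₂.1 : G → ℂ)) := by
  classical
  have hJ : orderOf (σ ^ 2) = 2 := h.J_order
  have hc4 := card_cen_four h hCx
  have hpc := pairs_card h hCx hJ hJ (Finset.range 4) (Finset.Subset.refl _) (by
    intro i hi
    refine ⟨fun _ => Finset.mem_range.mpr hi, fun _ => ⟨?_, ?_⟩⟩
    · exact (hone _ (order_refl h i)).symm
    · exact (hone _ (order_refl_mul h i)).symm)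
  have hF := card_product_eq (σ ^ 2) (σ ^ 2) σ
  rw [hpc, Finset.card_range, sum_four hT hc4 (fun χ => (χ : G → ℂ) (σ ^ 2) * (χ : G → ℂ) (σ ^ 2) *
    conj ((χ : G → ℂ) σ) / (χ : G → ℂ) 1) (by
      intro χ hχ
      simp [hχ])] at hF
  simp only [oneI_apply, map_one, mul_one, div_one] at hF
  rw [val₁_one hT, val₁_two hT, val₂_one hT, val₂_two hT, val₃_one hT, val₃_two hT,
    ← charDegree_natCast (isCharacter_of_isIrrCharacter r₁.1.2),
    ← charDegree_natCast (isCharacter_of_isIrrCharacter r₂.1.2),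
    ← charDegree_natCast (isCharacter_of_isIrrCharacter r₃.1.2)] at hF
  simp only [map_neg, sign_conj] at hF
  have hcl := card_cl_mul (σ ^ 2)
  set c := Nat.card (centralizer ({σ ^ 2} : Set G)) with hc
  set C := Nat.card {x : G // IsConj (σ ^ 2) x} with hC
  set n := Nat.card G with hn
  have hx₁ : (charDegree (r₁.1 : G → ℂ) : ℂ) ≠ 0 := Nat.cast_ne_zero.mpr (charDegree_pos r₁.1.2).ne'
  have hx₂ : (charDegree (r₂.1 : G → ℂ) : ℂ) ≠ 0 := Nat.cast_ne_zero.mpr (charDegree_pos r₂.1.2).ne'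
  have hx₃ : (charDegree (r₃.1 : G → ℂ) : ℂ) ≠ 0 := Nat.cast_ne_zero.mpr (charDegree_pos r₃.1.2).ne'
  set x₁ := charDegree (r₁.1 : G → ℂ) with hx₁d
  set x₂ := charDegree (r₂.1 : G → ℂ) with hx₂d
  set x₃ := charDegree (r₃.1 : G → ℂ) with hx₃d
  have hn0 : (n : ℂ) ≠ 0 := Nat.cast_ne_zero.mpr Nat.card_pos.ne'
  have hδ := sign_sq hT.hδ
  have hs₂ := sign_sq hT.hs₂
  have hs₃ := sign_sq hT.hs₃
  have hkey : (4 : ℂ) * (c : ℂ) ^ 2 * ((x₁ : ℂ) * x₂ * x₃) =
      (n : ℂ) * ((x₁ : ℂ) * x₂ * x₃ + δ * x₂ * x₃ - s₂ * x₁ * x₃ - s₃ * x₁ * x₂) := by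
    have h1 : (4 : ℂ) = (C : ℂ) * C / n * (1 + (δ : ℂ) * δ * δ / x₁ + (s₂ : ℂ) * s₂ * -s₂ / x₂ +
        (s₃ : ℂ) * s₃ * -s₃ / x₃) := by
      push_cast at hF
      exact_mod_cast hF
    have h2 : (C : ℂ) * C / n * (c : ℂ) ^ 2 = n := by
      rw [← hcl]
      field_simp
    calc (4 : ℂ) * (c : ℂ) ^ 2 * ((x₁ : ℂ) * x₂ * x₃)
        = ((C : ℂ) * C / n * (c : ℂ) ^ 2) * ((1 + (δ : ℂ) * δ * δ / x₁ + (s₂ : ℂ) * s₂ * -s₂ / x₂ +
        (s₃ : ℂ) * s₃ * -s₃ / x₃) * ((x₁ : ℂ) * x₂ * x₃)) := by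
          rw [h1]
          ring
      _ = _ := by
          rw [h2, hδ, hs₂, hs₃]
          field_simp
          ring
  exact_mod_cast hkey

end Cfsg.Agent.Lib.Cent4
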