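import Cfsg.Agent.Lib.Cent4.LAbs

/-!
# The normalizer of an element fixed by a four-group
-/

set_option autoImplicit false
set_option linter.unusedSectionVars false
set_option linter.style.haveILetI false
set_option linter.unusedVariables false

namespace Cfsg.Agent.Lib.Cent4

open Cfsg Subgroup
open Cfsg.Agent.Lib.V4Block Cfsg.Agent.Lib.DihBlock

universe u

variable {G : Type u} [Group G] [Fintype G]

/-- The elements centralizing or inverting `a`. -/
def QQ (a : G) : Subgroup G where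
  carrier := {g | g * a * g⁻¹ = a ∨ g * a * g⁻¹ = a⁻¹}
  mul_mem' := by
    rintro g h (hg | hg) (hh | hh)
    · left
      calc g * h * a * (g * h)⁻¹ = g * (h * a * h⁻¹) * g⁻¹ := by group
        _ = a := by rw [hh, hg]
    · right
      calc g * h * a * (g * h)⁻¹ = g * (h * a * h⁻¹) * g⁻¹ := by group
        _ = g * a⁻¹ * g⁻¹ := by rw [hh]
        _ = (g * a * g⁻¹)⁻¹ := by group
        _ = a⁻¹ := by rw [hg]
    · right
      calc g * h * a * (g * h)⁻¹ = g * (h * a * h⁻¹) * g⁻¹ := by group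
        _ = a⁻¹ := by rw [hh, hg]
    · left
      calc g * h * a * (g * h)⁻¹ = g * (h * a * h⁻¹) * g⁻¹ := by group
        _ = g * a⁻¹ * g⁻¹ := by rw [hh]
        _ = (g * a * g⁻¹)⁻¹ := by group
        _ = a := by rw [hg, inv_inv]
  one_mem' := by
    left
    simp
  inv_mem' := by
    rintro g (hg | hg)
    · left
      calc g⁻¹ * a * g⁻¹⁻¹ = g⁻¹ * (g * a * g⁻¹) * g := by rw [hg]; group
        _ = a := by group
    · right
      calc g⁻¹ * a * g⁻¹⁻¹ = g⁻¹ * (g * a * g⁻¹)⁻¹ * g := by rw [hg]; group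
        _ = a⁻¹ := by group

theorem mem_QQ {a g : G} : g ∈ QQ a ↔ g * a * g⁻¹ = a ∨ g * a * g⁻¹ = a⁻¹ := Iff.rfl

/-- The order of a centralizer in a subgroup. -/
theorem card_centralizer_subgroup {T : Subgroup G} (S : Set T) :
    Nat.card (centralizer S) =
      Nat.card (centralizer ((fun y : T => (y : G)) '' S) ⊓ T : Subgroup G) := by
  apply Nat.card_congr
  refine ⟨fun y => ⟨y.1.1, ?_, y.1.2⟩, fun y => ⟨⟨y.1, y.2.2⟩, ?_⟩, ?_, ?_⟩
  · refine Subgroup.mem_centralizer_iff.mpr ?_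
    rintro _ ⟨g, hg, rfl⟩
    have h1 := (Subgroup.mem_centralizer_iff.mp y.2) g hg
    exact congrArg Subtype.val h1
  · rw [Subgroup.mem_centralizer_iff]
    intro g hg
    have h1 := (Subgroup.mem_centralizer_iff.mp y.2.1) (g : G) ⟨g, hg, rfl⟩
    exact Subtype.ext h1
  · intro y
    rfl
  · intro y
    rfl

namespace Hyp

variable {P P₁ : Sylow 2 G} {x t x₁ t₁ : G}

/-- The order of the centralizer of an involution in a subgroup containing no square root of it. -/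
theorem card_cen_inf (H₁ : Hyp P₁ x₁ t₁) {Q K V : Subgroup G} (hsq : ∀ h ∈ Q, h * h ∈ K)
    (hu : x₁ ^ 2 ∉ K) (hV : V ≤ centralizer ({x₁ ^ 2} : Set G)) (hVQ : V ≤ Q)
    (hV4 : Nat.card V = 4) {P' : Sylow 2 G} (hV2 : V ≤ (P' : Subgroup G)) :
    Nat.card (centralizer ({x₁ ^ 2} : Set G) ⊓ Q : Subgroup G) =
      Nat.card (O (x₁ ^ 2) ⊓ Q : Subgroup G) * 4 := by
  classical
  obtain ⟨π, hπ⟩ : ∃ π : centralizer ({x₁ ^ 2} : Set G) →* G, Proj P₁ (x₁ ^ 2) π := H₁.ctx.exists_proj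
  set N : Subgroup G := centralizer ({x₁ ^ 2} : Set G) ⊓ Q with hN
  let f : N →* G := π.comp (Subgroup.inclusion inf_le_left)
  have h1 : Nat.card N = Nat.card f.ker * Nat.card f.range := by
    rw [← Subgroup.index_ker, Subgroup.card_mul_index]
  have hk : Nat.card f.ker = Nat.card (O (x₁ ^ 2) ⊓ Q : Subgroup G) := by
    apply Nat.card_congr
    refine ⟨fun y => ⟨y.1.1, ?_, y.1.2.2⟩, fun y => ⟨⟨y.1, ?_, y.2.2⟩, ?_⟩, ?_, ?_⟩
    · refine H₁.mem_O_z.mpr ⟨mem_centralizer_singleton_iff.mp y.1.2.1, ?_⟩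
      have h2 := hπ.ker ⟨y.1.1, y.1.2.1⟩ y.2
      rwa [Subgroup.orderOf_mk] at h2
    · exact mem_centralizer_singleton_iff.mpr (H₁.mem_O_z.mp y.2.1).1
    · refine hπ.eq_one_of_odd ?_
      rw [Subgroup.orderOf_mk]
      exact (H₁.mem_O_z.mp y.2.1).2
    · intro y
      rfl
    · intro y
      rfl
  have hr : Nat.card f.range = 4 := by
    have hle : f.range ≤ (P₁ : Subgroup G) := by
      rintro _ ⟨n, rfl⟩
      exact hπ.mem _
    have h8 : Nat.card (P₁ : Subgroup G) = 8 := H₁.ctx.card_P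
    have hd8 : Nat.card f.range ∣ 8 := by
      rw [← h8]
      exact Subgroup.card_dvd_of_le hle
    let f₀ : V →* G := π.comp (Subgroup.inclusion hV)
    have hinj : Function.Injective f₀ := by
      rw [injective_iff_map_eq_one]
      rintro ⟨v, hv⟩ hv1
      have h2 := hπ.ker _ hv1
      have h3 : ¬ 2 ∣ orderOf v := by
        have h4 : orderOf (Subgroup.inclusion hV (⟨v, hv⟩ : V)) = orderOf v := by
          exact Subgroup.orderOf_mk v _
        rwa [h4] at h2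
      exact Subtype.ext (eq_one_of_P (hV2 hv) h3)
    have h0 : Nat.card f₀.range = 4 := by
      rw [← hV4]
      exact Nat.card_congr (MonoidHom.ofInjective hinj).toEquiv.symm
    have hle0 : f₀.range ≤ f.range := by
      rintro _ ⟨v, rfl⟩
      exact ⟨⟨v.1, hV v.2, hVQ v.2⟩, rfl⟩
    have hd4 : 4 ∣ Nat.card f.range := by
      rw [← h0]
      exact Subgroup.card_dvd_of_le hle0
    have h48 : Nat.card f.range = 4 ∨ Nat.card f.range = 8 := by
      have h5 : Nat.card f.range ≤ 8 := Nat.le_of_dvd (by norm_num) hd8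
      generalize Nat.card f.range = r at *
      interval_cases r <;> omega
    rcases h48 with h | h
    · exact h
    exfalso
    have heq : f.range = (P₁ : Subgroup G) :=
      Subgroup.eq_of_le_of_card_ge hle (by rw [h8, h])
    have hx : x₁ ∈ f.range := by
      rw [heq]
      exact H₁.ctx.σP
    obtain ⟨n, hn⟩ := hx
    have hnc : Commute (n : G) (x₁ ^ 2) := mem_centralizer_singleton_iff.mp n.2.1
    have hnQ : (n : G) ∈ Q := n.2.2
    have hsqK : (n : G) * n ∈ K := hsq _ hnQ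
    let cC : centralizer ({x₁ ^ 2} : Set G) := ⟨n, n.2.1⟩
    let uC : centralizer ({x₁ ^ 2} : Set G) :=
      ⟨x₁ ^ 2, mem_centralizer_singleton_iff.mpr (Commute.refl _)⟩
    have hπc : π cC = x₁ := hn
    have hπu : π uC = x₁ ^ 2 := hπ.fix uC (pow_mem H₁.ctx.σP 2)
    have h3 : π (cC * cC * uC⁻¹) = 1 := by
      rw [map_mul, map_mul, map_inv, hπu, hπc, ← pow_two]
      exact mul_inv_cancel _
    have h4 := hπ.ker _ h3
    have h4' : ¬ 2 ∣ orderOf ((n : G) * n * (x₁ ^ 2)⁻¹) := by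
      have h5 : orderOf ((cC * cC * uC⁻¹ : centralizer ({x₁ ^ 2} : Set G)) : G) =
          orderOf (cC * cC * uC⁻¹) := Subgroup.orderOf_coe _
      have h6 : ((cC * cC * uC⁻¹ : centralizer ({x₁ ^ 2} : Set G)) : G) = (n : G) * n * (x₁ ^ 2)⁻¹ :=
        rfl
      rwa [← h5, h6] at h4
    set k₀ := (n : G) * n * (x₁ ^ 2)⁻¹ with hk₀
    have hk₀c : Commute k₀ (x₁ ^ 2) :=
      ((hnc.mul_left hnc).mul_left (Commute.refl _).inv_left)
    have hnn : (n : G) * n = k₀ * x₁ ^ 2 := by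
      rw [hk₀]
      group
    obtain ⟨q, hq⟩ : Odd (orderOf k₀) := Nat.odd_iff.mpr (by omega)
    have h7 : ((n : G) * n) ^ orderOf k₀ = x₁ ^ 2 := by
      rw [hnn, hk₀c.mul_pow, pow_orderOf_eq_one, one_mul, hq, pow_succ, pow_mul, pow_two (x₁ ^ 2),
        H₁.zz, one_pow, one_mul]
    apply hu
    rw [← h7]
    exact pow_mem hsqK _
  rw [h1, hk, hr]

/-- `P` lies in `QQ a₀`. -/
theorem P_le_QQ (H : Hyp P x t) {a₀ : G} (ha : a₀ ∈ AA x t) : (P : Subgroup G) ≤ QQ a₀ := by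
  have hx : x ∈ QQ a₀ := Or.inr (H.inv_O (mem_AA.mp ha).1)
  have ht : t ∈ QQ a₀ := by
    left
    have := (mem_AA.mp ha).2.eq
    rw [← this]
    group
  intro y hy
  obtain ⟨i, rfl | rfl⟩ := H.ctx.gen y hy
  · exact pow_mem hx i
  · exact (QQ a₀).mul_mem (pow_mem hx i) ht

/-- `C(z)` lies in `QQ a₀`. -/
theorem cen_le_QQ (H : Hyp P x t) {a₀ : G} (ha : a₀ ∈ AA x t) :
    centralizer ({x ^ 2} : Set G) ≤ QQ a₀ := by
  obtain ⟨π, hπ⟩ : ∃ π : centralizer ({x ^ 2} : Set G) →* G, Proj P (x ^ 2) π := H.ctx.exists_proj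
  intro g hg
  have h1 := H.exists_decomp hπ hg
  have h2 : π ⟨g, hg⟩ ∈ (P : Subgroup G) := hπ.mem _
  have h3 : g * (π ⟨g, hg⟩)⁻¹ ∈ QQ a₀ := by
    left
    have := H.comm_O_z h1 (mem_AA.mp ha).1
    rw [this]
    group
  have h4 : π ⟨g, hg⟩ ∈ QQ a₀ := H.P_le_QQ ha h2
  have h5 := (QQ a₀).mul_mem h3 h4
  simpa using h5

/-- The context in `QQ a₀`. -/
theorem ctx_sub (H : Hyp P x t) {T : Subgroup G} (hP : (P : Subgroup G) ≤ T) (hxT : x ∈ T) (htT : t ∈ T) :
    DihCtx (P.subtype hP) (⟨x, hxT⟩ : T) (⟨t, htT⟩ : T) 4 := by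
  have hc := H.ctx
  refine ⟨hc.hN, hc.hNp, ?_, ?_, ?_, ?_, ?_, ?_⟩
  · show (⟨x, hxT⟩ : T) ∈ (P : Subgroup G).subgroupOf T
    exact Subgroup.mem_subgroupOf.mpr hc.σP
  · show (⟨t, htT⟩ : T) ∈ (P : Subgroup G).subgroupOf T
    exact Subgroup.mem_subgroupOf.mpr hc.τP
  · rw [Subgroup.orderOf_mk]; exact hc.σo
  · rw [Subgroup.orderOf_mk]; exact hc.τo
  · apply Subtype.ext
    exact hc.rel
  · rintro ⟨y, hyT⟩ hy
    have hy' : y ∈ (P : Subgroup G) :=
      Subgroup.mem_subgroupOf.mp (show _ ∈ (P : Subgroup G).subgroupOf T from hy)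
    obtain ⟨i, hi | hi⟩ := hc.gen y hy'
    · exact ⟨i, Or.inl (Subtype.ext hi)⟩
    · exact ⟨i, Or.inr (Subtype.ext hi)⟩

theorem cen_sub (H : Hyp P x t) {T : Subgroup G} (hxT : x ∈ T) (g : T)
    (hg : Commute g (⟨x, hxT⟩ : T)) : g ∈ zpowers (⟨x, hxT⟩ : T) := by
  obtain ⟨g, hgT⟩ := g
  have hg' : Commute g x := congrArg Subtype.val hg
  obtain ⟨k, hk⟩ := mem_zpowers_iff.mp (H.cen g hg')
  refine mem_zpowers_iff.mpr ⟨k, Subtype.ext ?_⟩
  simpa using hk

end Hyp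

end Cfsg.Agent.Lib.Cent4
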