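import Cfsg.Agent.Lib.Cent4.Q1

/-!
# The main formula for the normalizer of an element fixed by a four-group
-/

set_option autoImplicit false
set_option linter.unusedSectionVars false
set_option linter.style.haveILetI false
set_option linter.unusedVariables false

namespace Cfsg.Agent.Lib.Cent4

open Cfsg Subgroup
open Cfsg.Agent.Lib.V4Block Cfsg.Agent.Lib.DihBlock

universe u

variable {G : Type u} [Group G] [Fintype G]

namespace Hyp

variable {P : Sylow 2 G} {x t : G}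

theorem ne_inv_of_odd {a : G} (ho : ¬ 2 ∣ orderOf a) (hne : a ≠ 1) : a ≠ a⁻¹ := by
  intro e
  apply hne
  refine eq_one_of_odd_of_pow (k := 1) ?_ ho
  calc a ^ 2 ^ 1 = a * a := by rw [pow_one, pow_two]
    _ = a⁻¹ * a := by rw [← e]
    _ = 1 := inv_mul_cancel a

/-- The order of the odd core of the centralizer of any involution. -/
theorem card_O (H : Hyp P x t) {u : G} (hu : orderOf u = 2) : Nat.card (O u) = Nat.card (O (x ^ 2)) := by
  obtain ⟨g, rfl⟩ := H.exists_conj_z hu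
  have h1 : ∀ y, y ∈ O (g * x ^ 2 * g⁻¹) → g⁻¹ * y * g ∈ O (x ^ 2) := by
    intro y hy
    have h2 := H.conj_mem_O hu g⁻¹ hy
    have e1 : g⁻¹ * (g * x ^ 2 * g⁻¹) * g⁻¹⁻¹ = x ^ 2 := by group
    have e2 : g⁻¹ * y * g⁻¹⁻¹ = g⁻¹ * y * g := by group
    rwa [e1, e2] at h2
  apply Nat.card_congr
  refine ⟨fun y => ⟨g⁻¹ * y * g, h1 _ y.2⟩, fun y => ⟨g * y * g⁻¹, H.conj_mem_O H.zo g y.2⟩, ?_, ?_⟩
  · intro y
    apply Subtype.ext
    show g * (g⁻¹ * y * g) * g⁻¹ = y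
    group
  · intro y
    apply Subtype.ext
    show g⁻¹ * (g * y * g⁻¹) * g = y
    group

/-- The main formula. -/
theorem L_main (H : Hyp P x t) {a₀ : G} (ha : a₀ ∈ AA x t) (hne : a₀ ≠ 1) :
    ∃ D : ℤ, Odd D ∧
      (Nat.card (QQ a₀) : ℤ) * (D - 1) ^ 2 =
        2 * (8 * (Nat.card (AA x t) : ℤ) * (Nat.card (AA x (x * t)) : ℤ)) *
          (2 * (Nat.card (AA x (x * t)) : ℤ)) ^ 2 * D * (D + 1) ∧
      (D - 1) * (Nat.card (O (x * t) ⊓ centralizer ({a₀} : Set G) : Subgroup G) : ℤ) =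
        2 * (Nat.card (AA x (x * t)) : ℤ) ^ 2 * (D + 1) := by
  classical
  have hoa : ¬ 2 ∣ orderOf a₀ := (H.mem_O_z.mp (mem_AA.mp ha).1).2
  have hinv : a₀ ≠ a₀⁻¹ := ne_inv_of_odd hoa hne
  have hxa : x * a₀ * x⁻¹ = a₀⁻¹ := H.inv_O (mem_AA.mp ha).1
  have hta : t * a₀ * t⁻¹ = a₀ := by
    have := (mem_AA.mp ha).2.eq
    rw [← this]
    group
  set T := QQ a₀ with hT
  have hPT : (P : Subgroup G) ≤ T := H.P_le_QQ ha
  have hCT : centralizer ({x ^ 2} : Set G) ≤ T := H.cen_le_QQ ha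
  have hxT : x ∈ T := hPT H.ctx.σP
  have htT : t ∈ T := hPT H.ctx.τP
  let K : Subgroup T := (centralizer ({a₀} : Set G)).subgroupOf T
  have hmemK : ∀ y : T, y ∈ K ↔ (y : G) * a₀ * (y : G)⁻¹ = a₀ := by
    intro y
    rw [Subgroup.mem_subgroupOf, mem_centralizer_singleton_iff]
    constructor
    · intro h
      rw [h]
      group
    · intro h
      calc (y : G) * a₀ = ((y : G) * a₀ * (y : G)⁻¹) * y := by group
        _ = a₀ * y := by rw [h]
  have hxK : (⟨x, hxT⟩ : T) ∉ K := by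
    rw [hmemK]
    intro h
    apply hinv
    rw [← hxa]
    exact h.symm
  have hK : K.index = 2 := by
    refine Subgroup.index_eq_two_iff.mpr ⟨⟨x, hxT⟩, fun b => ?_⟩
    have hb : (b : G) * a₀ * (b : G)⁻¹ = a₀ ∨ (b : G) * a₀ * (b : G)⁻¹ = a₀⁻¹ := b.2
    have e : ((b * ⟨x, hxT⟩ : T) : G) * a₀ * ((b * ⟨x, hxT⟩ : T) : G)⁻¹ =
        ((b : G) * a₀ * (b : G)⁻¹)⁻¹ := by
      show (b : G) * x * a₀ * ((b : G) * x)⁻¹ = _
      calc (b : G) * x * a₀ * ((b : G) * x)⁻¹ = (b : G) * (x * a₀ * x⁻¹) * (b : G)⁻¹ := by group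
        _ = (b : G) * a₀⁻¹ * (b : G)⁻¹ := by rw [hxa]
        _ = _ := by group
    rw [hmemK, hmemK, e]
    rcases hb with hb | hb
    · rw [hb]
      exact Or.inr ⟨rfl, fun h => hinv h.symm⟩
    · rw [hb, inv_inv]
      exact Or.inl ⟨rfl, fun h => hinv h.symm⟩
  have htK : (⟨t, htT⟩ : T) ∈ K := (hmemK _).mpr hta
  obtain ⟨s, h1, h2, h3⟩ := H.exists_sigma
  have hsa : s * a₀ * s⁻¹ = a₀ := by
    rw [H.sigma_comm h1 h2 h3 ha]
    group
  have hsT : s ∈ T := Or.inl hsa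
  have ctx := H.ctx_sub hPT hxT htT
  letI : Fintype T := Fintype.ofFinite T
  haveI : Finite (IrrCharacter T) := Cfsg.Agent.Lib.Char.Ortho.finite_irrCharacter
  letI : Fintype (IrrCharacter T) := Fintype.ofFinite _
  obtain ⟨D, I, hD, hI, hf1, hf2⟩ := L_abs ctx (H.cen_sub hxT) hK hxK htK (s := ⟨s, hsT⟩)
    (Subtype.ext h1) (Subtype.ext h2)
  have c1 : Nat.card (centralizer ({(⟨x, hxT⟩ : T) ^ 2} : Set T)) =
      Nat.card (centralizer ({x ^ 2} : Set G)) := by
    rw [card_centralizer_subgroup, Set.image_singleton]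
    show Nat.card (centralizer ({x ^ 2} : Set G) ⊓ T : Subgroup G) = _
    rw [inf_eq_left.mpr hCT]
  have c2 : Nat.card (centralizer ({(⟨x, hxT⟩ : T) ^ 2, (⟨t, htT⟩ : T)} : Set T)) =
      Nat.card (centralizer ({x ^ 2, t} : Set G)) := card_C₂_sub hCT rfl rfl
  have c3 : Nat.card (centralizer ({(⟨x, hxT⟩ : T) * (⟨t, htT⟩ : T)} : Set T)) =
      Nat.card (centralizer ({x * t} : Set G) ⊓ T : Subgroup G) := by
    rw [card_centralizer_subgroup, Set.image_singleton]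
    rfl
  have hsq : ∀ h ∈ T, h * h ∈ centralizer ({a₀} : Set G) := by
    intro h hh
    refine mem_centralizer_singleton_iff.mpr ?_
    have e : (h * h) * a₀ * (h * h)⁻¹ = a₀ := by
      have hh' : h * a₀ * h⁻¹ = a₀ ∨ h * a₀ * h⁻¹ = a₀⁻¹ := hh
      rcases hh' with hh' | hh'
      · calc (h * h) * a₀ * (h * h)⁻¹ = h * (h * a₀ * h⁻¹) * h⁻¹ := by group
          _ = a₀ := by rw [hh', hh']
      · calc (h * h) * a₀ * (h * h)⁻¹ = h * (h * a₀ * h⁻¹) * h⁻¹ := by group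
          _ = h * a₀⁻¹ * h⁻¹ := by rw [hh']
          _ = (h * a₀ * h⁻¹)⁻¹ := by group
          _ = a₀ := by rw [hh', inv_inv]
    calc (h * h) * a₀ = ((h * h) * a₀ * (h * h)⁻¹) * (h * h) := by group
      _ = a₀ * (h * h) := by rw [e]
  have hu : x * t ∉ centralizer ({a₀} : Set G) := by
    intro hh
    apply hinv
    have e : (x * t) * a₀ * (x * t)⁻¹ = a₀⁻¹ := by
      calc (x * t) * a₀ * (x * t)⁻¹ = x * (t * a₀ * t⁻¹) * x⁻¹ := by group
        _ = a₀⁻¹ := by rw [hta, hxa]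
    have e2 : (x * t) * a₀ * (x * t)⁻¹ = a₀ := by
      rw [mem_centralizer_singleton_iff.mp hh]
      group
    rw [← e, e2]
  have c4 : Nat.card (centralizer ({x * t} : Set G) ⊓ T : Subgroup G) =
      Nat.card (O (x * t) ⊓ T : Subgroup G) * 4 := by
    obtain ⟨g, hg⟩ := H.exists_conj_z H.swap.ctx.τo
    have H₁ := H.conj g
    have e : (g * x * g⁻¹) ^ 2 = x * t := by rw [conj_pow, hg]
    have key := H₁.card_cen_inf (Q := T) (K := centralizer ({a₀} : Set G)) (V := VV P (x * t))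
      hsq (by rw [e]; exact hu) (by rw [e]; exact inf_le_right) (inf_le_left.trans hPT)
      H.swap.card_VV (P' := P) inf_le_left
    rwa [e] at key
  have c5 : (O (x * t) ⊓ T : Subgroup G) = O (x * t) ⊓ centralizer ({a₀} : Set G) := by
    apply le_antisymm
    · rintro y ⟨hy1, hy2⟩
      refine ⟨hy1, ?_⟩
      have hoy := ((H.mem_O H.swap.ctx.τo).mp hy1).2
      obtain ⟨k, hk⟩ := exists_sq_pow hoy
      rw [← hk]
      exact pow_mem (hsq y hy2) k
    · rintro y ⟨hy1, hy2⟩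
      refine ⟨hy1, Or.inl ?_⟩
      rw [mem_centralizer_singleton_iff.mp hy2]
      group
  rw [c2, H.card_C₂, c1, H.card_C₁, H.card_O_eq] at hI
  rw [c1, H.card_C₁, H.card_O_eq] at hf1
  rw [c3, c4, c5] at hf2
  set a := Nat.card (AA x t) with ha'
  set b := Nat.card (AA x (x * t)) with hb'
  have ha0 : (a : ℤ) ≠ 0 := Nat.cast_ne_zero.mpr Nat.card_pos.ne'
  have hI2 : I = 2 * (b : ℤ) := by
    have h5 : (4 * (a : ℤ)) * I = (4 * (a : ℤ)) * (2 * b) := by
      push_cast at hI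
      linear_combination hI
    exact mul_left_cancel₀ (by positivity) h5
  rw [hI2] at hf1 hf2
  refine ⟨D, hD, ?_, ?_⟩
  · have h6 : (Nat.card T : ℤ) = (Nat.card (QQ a₀) : ℤ) := rfl
    rw [← h6, hf1]
    push_cast
    ring
  · push_cast at hf2
    have h7 : 4 * ((D - 1) * (Nat.card (O (x * t) ⊓ centralizer ({a₀} : Set G) : Subgroup G) : ℤ)) =
        4 * (2 * (b : ℤ) ^ 2 * (D + 1)) := by
      linear_combination hf2
    exact mul_left_cancel₀ (by norm_num) h7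

/-- The inequality. -/
theorem sq_le (H : Hyp P x t) {a₀ : G} (ha : a₀ ∈ AA x t) (hne : a₀ ≠ 1) :
    Nat.card (AA x (x * t)) ^ 2 ≤ Nat.card (O (x * t) ⊓ centralizer ({a₀} : Set G) : Subgroup G) := by
  obtain ⟨D, hD, -, h2⟩ := H.L_main ha hne
  have hy : (0 : ℤ) < (Nat.card (O (x * t) ⊓ centralizer ({a₀} : Set G) : Subgroup G) : ℤ) := by
    exact_mod_cast Nat.card_pos
  have hb : (0 : ℤ) < (Nat.card (AA x (x * t)) : ℤ) := by exact_mod_cast Nat.card_pos
  have := le_of_formula hD hy hb h2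
  exact_mod_cast this

/-- A nontrivial element of the first part forces the second to be no bigger. -/
theorem card_le (H : Hyp P x t) {a₀ : G} (ha : a₀ ∈ AA x t) (hne : a₀ ≠ 1) :
    Nat.card (AA x (x * t)) ≤ Nat.card (AA x t) := by
  have h1 := H.sq_le ha hne
  have h2 : Nat.card (O (x * t) ⊓ centralizer ({a₀} : Set G) : Subgroup G) ≤ Nat.card (O (x * t)) :=
    Subgroup.card_le_of_le inf_le_left
  rw [H.card_O H.swap.ctx.τo, H.card_O_eq] at h2
  have hb : 0 < Nat.card (AA x (x * t)) := Nat.card_pos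
  have h3 : Nat.card (AA x (x * t)) * Nat.card (AA x (x * t)) ≤
      Nat.card (AA x t) * Nat.card (AA x (x * t)) := by
    rw [← pow_two]
    exact h1.trans h2
  exact Nat.le_of_mul_le_mul_right h3 hb

/-- Equality forces commutativity. -/
theorem comm_of_le (H : Hyp P x t) {a₀ : G} (ha : a₀ ∈ AA x t) (hne : a₀ ≠ 1)
    (hab : Nat.card (AA x t) ≤ Nat.card (AA x (x * t))) {y : G} (hy : y ∈ O (x * t)) :
    Commute y a₀ := by
  have h1 := H.sq_le ha hne
  have h2 : Nat.card (O (x * t)) = Nat.card (AA x t) * Nat.card (AA x (x * t)) := by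
    rw [H.card_O H.swap.ctx.τo, H.card_O_eq]
  have h3 : Nat.card (O (x * t)) ≤ Nat.card (O (x * t) ⊓ centralizer ({a₀} : Set G) : Subgroup G) := by
    rw [h2]
    refine le_trans ?_ h1
    rw [pow_two]
    exact Nat.mul_le_mul_right _ hab
  have h4 : (O (x * t) ⊓ centralizer ({a₀} : Set G) : Subgroup G) = O (x * t) :=
    Subgroup.eq_of_le_of_card_ge inf_le_left h3
  have h5 : y ∈ (O (x * t) ⊓ centralizer ({a₀} : Set G) : Subgroup G) := by
    rw [h4]
    exact hy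
  exact mem_centralizer_singleton_iff.mp h5.2

end Hyp

end Cfsg.Agent.Lib.Cent4
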