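import Cfsg.Agent.Lib.Cent4.SD
import Cfsg.Agent.Lib.Core.Residual
import Cfsg.Agent.Lib.DihBlock.OfIso
import Cfsg.Agent.S0107
import Cfsg.Agent.S0115
import Cfsg.Agent.S0201
import Cfsg.Agent.S4143
import Cfsg.Agent.S4399

/-!
# From a self-centralizing element of order four to the standing hypothesis
-/

set_option autoImplicit false
set_option linter.unusedSectionVars false
set_option linter.style.haveILetI false
set_option linter.unusedVariables false

namespace Cfsg.Agent.Lib.Cent4

open Cfsg Subgroup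
open Cfsg.Agent.Lib.V4Block Cfsg.Agent.Lib.DihBlock

universe u

variable {G : Type u} [Group G] [Finite G]

/-- A simple group with an element of order four has trivial `2`-quotients. -/
theorem pResidual_top [IsSimpleGroup G] {x : G} (hx : orderOf x = 4) : pResidual 2 G = ⊤ := by
  haveI : Fact (Nat.Prime 2) := ⟨Nat.prime_two⟩
  rw [Cfsg.Agent.Lib.Core.Residual.pResidual_eq_top_iff]
  intro N hN n hn
  rcases hN.eq_bot_or_eq_top with h | h
  · exfalso
    rw [h, Subgroup.index_bot] at hn
    have hp : IsPGroup 2 G := IsPGroup.of_card hn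
    have hc := hp.center_nontrivial
    have hcn : (center G).Normal := inferInstance
    have hct : center G = ⊤ := by
      rcases hcn.eq_bot_or_eq_top with h1 | h1
      · rw [h1] at hc
        exact absurd hc (not_nontrivial _)
      · exact h1
    have hcomm : ∀ a b : G, a * b = b * a := by
      intro a b
      have : a ∈ center G := by rw [hct]; trivial
      exact (Subgroup.mem_center_iff.mp this b).symm
    have hz : (zpowers (x ^ 2)).Normal := by
      refine ⟨fun n hn g => ?_⟩
      rw [hcomm g n]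
      simpa using hn
    have hz2 : (x ^ 2) ^ 2 = 1 := by
      have hx4 : x ^ 4 = 1 := by
        rw [← hx]
        exact pow_orderOf_eq_one x
      rw [← pow_mul]
      exact hx4
    have hz3 : orderOf (x ^ 2) ∣ 2 := orderOf_dvd_of_pow_eq_one hz2
    rcases hz.eq_bot_or_eq_top with h1 | h1
    · have h2 : x ^ 2 = 1 := by
        have : x ^ 2 ∈ zpowers (x ^ 2) := mem_zpowers _
        rw [h1] at this
        exact (Subgroup.mem_bot).mp this
      have h3 : orderOf x ∣ 2 := orderOf_dvd_of_pow_eq_one h2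
      rw [hx] at h3
      omega
    · have h2 : x ∈ zpowers (x ^ 2) := by rw [h1]; trivial
      have h3 := orderOf_dvd_of_mem_zpowers h2
      have h4 := h3.trans hz3
      rw [hx] at h4
      omega
  · exact h

/-- The dihedral case. -/
theorem hyp_of_iso [IsSimpleGroup G] {S : Sylow 2 G} {x : G} (hxS : x ∈ (S : Subgroup G))
    (hx : orderOf x = 4) (hC : ∀ g, Commute g x → g ∈ zpowers x) {N : ℕ} (hN : 4 ≤ N)
    (e : (S : Subgroup G) ≃* DihedralGroup N) : ∃ t, Hyp S x t := by
  classical
  letI : Fintype G := Fintype.ofFinite G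
  haveI : NeZero N := ⟨by omega⟩
  set y₀ : (S : Subgroup G) := ⟨x, hxS⟩ with hy₀
  have hoy : orderOf (e y₀) = 4 := by
    rw [MulEquiv.orderOf_eq, hy₀, Subgroup.orderOf_mk, hx]
  obtain ⟨i, hi⟩ : ∃ i : ZMod N, e y₀ = DihedralGroup.r i := by
    rcases h : e y₀ with i | i
    · exact ⟨i, rfl⟩
    · exfalso
      rw [h, DihedralGroup.orderOf_sr] at hoy
      omega
  have hrot : ∀ j : ZMod N, ((e.symm (DihedralGroup.r j) : (S : Subgroup G)) : G) ∈ zpowers x := by
    intro j
    apply hC
    have h1 : e.symm (DihedralGroup.r j) * y₀ = y₀ * e.symm (DihedralGroup.r j) := by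
      apply e.injective
      rw [map_mul, map_mul, MulEquiv.apply_symm_apply, hi, DihedralGroup.r_mul_r,
        DihedralGroup.r_mul_r, add_comm]
    exact congrArg Subtype.val h1
  have hle : N ≤ 4 := by
    have h1 : Nat.card (ZMod N) ≤ Nat.card (zpowers x) := by
      refine Nat.card_le_card_of_injective (fun j => (⟨_, hrot j⟩ : zpowers x)) ?_
      intro j j' h
      have h2 : ((e.symm (DihedralGroup.r j) : (S : Subgroup G)) : G) =
          ((e.symm (DihedralGroup.r j') : (S : Subgroup G)) : G) :=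
        congrArg (fun c : zpowers x => (c : G)) h
      have h3 := e.symm.injective (Subtype.ext h2)
      exact DihedralGroup.r.inj h3
    rwa [Nat.card_zmod, Nat.card_zpowers, hx] at h1
  have hN4 : N = 4 := le_antisymm hle hN
  subst hN4
  obtain ⟨t, ht⟩ := exists_dihCtx_of_iso le_rfl ⟨2, rfl⟩ ⟨e⟩ hxS hx
  have hO := pResidual_top hx
  have key := Cfsg.Agent.S0107.result S 2 le_rfl ⟨e⟩ hO
  refine ⟨t, ht, hC, ?_, ?_⟩
  · obtain ⟨g, hg⟩ := key (x ^ 2) t ht.J_order ht.τo
    exact isConj_iff.mpr ⟨g, hg⟩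
  · obtain ⟨g, hg⟩ := key (x ^ 2) (x * t) ht.J_order ht.στ_order
    exact isConj_iff.mpr ⟨g, hg⟩

/-- A Sylow subgroup generated by the element is impossible. -/
theorem false_of_cyclic [IsSimpleGroup G] {S : Sylow 2 G} {x : G} (hx : orderOf x = 4)
    (hle : (S : Subgroup G) ≤ zpowers x) (hxS : x ∈ (S : Subgroup G)) : False := by
  classical
  letI : Fintype G := Fintype.ofFinite G
  have hz2 : (x ^ 2) ^ 2 = 1 := by
    have hx4 : x ^ 4 = 1 := by
      rw [← hx]
      exact pow_orderOf_eq_one x
    rw [← pow_mul]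
    exact hx4
  have hz3 : orderOf (x ^ 2) ∣ 2 := orderOf_dvd_of_pow_eq_one hz2
  have hzo : orderOf (x ^ 2) = 2 := by
    rw [orderOf_pow' x (by norm_num), hx]
    norm_num
  have hST : (S : Subgroup G) = zpowers x :=
    le_antisymm hle ((Subgroup.zpowers_le).mpr hxS)
  have hQS : zpowers (x ^ 2) ≤ (S : Subgroup G) :=
    (Subgroup.zpowers_le).mpr (pow_mem hxS 2)
  have h1 := card_eq_mul_relIndex hQS
  rw [hST, Nat.card_zpowers, Nat.card_zpowers, hx, hzo] at h1
  have hidx : (zpowers (x ^ 2)).relIndex (S : Subgroup G) = 2 := by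
    rw [hST]
    omega
  have hord : ∀ y ∈ (S : Subgroup G), y ∉ zpowers (x ^ 2) → 2 ^ (2 - 1) < orderOf y := by
    intro y hy hyQ
    rw [hST] at hy
    obtain ⟨k, rfl⟩ := (isOfFinOrder_of_finite x).mem_powers_iff_mem_zpowers.mpr hy
    have hk : ¬ 2 ∣ k := by
      rintro ⟨c, rfl⟩
      exact hyQ (by
        show x ^ (2 * c) ∈ _
        rw [pow_mul]
        exact pow_mem (mem_zpowers _) c)
    have h3 : 0 < orderOf (x ^ k) := (isOfFinOrder_of_finite _).orderOf_pos
    by_contra hcon
    have h4 : orderOf (x ^ k) ≤ 2 := by simpa using hcon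
    have h5 : (x ^ k) ^ 2 = 1 := by
      have h6 : orderOf (x ^ k) ∣ 2 := by
        interval_cases h7 : orderOf (x ^ k) <;> norm_num
      exact orderOf_dvd_iff_pow_eq_one.mp h6
    have h6 : orderOf x ∣ k * 2 := by
      apply orderOf_dvd_of_pow_eq_one
      rwa [pow_mul]
    rw [hx] at h6
    omega
  obtain ⟨K, hKn, hKi, hK⟩ := Cfsg.Agent.Lib.InvolChar.TransferTwo.exists_ker_transfer S
    (zpowers (x ^ 2)) hQS hidx 2 hord
  refine false_of_ker hx hKn hKi (hK x hxS (by rw [hx]; norm_num) ?_)
  intro g hg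
  have h2 := orderOf_dvd_of_mem_zpowers hg
  rw [orderOf_conj_eq, hx, hzo] at h2
  omega

end Cfsg.Agent.Lib.Cent4
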