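import Cfsg.Agent.Lib.Cent4.Reduce

/-!
# A self-centralizing element of order four in a simple group: the order of the group
-/

set_option autoImplicit false
set_option linter.unusedSectionVars false
set_option linter.style.haveILetI false
set_option linter.unusedVariables false

namespace Cfsg.Agent.Lib.Cent4

open Cfsg Subgroup
open Cfsg.Agent.Lib.V4Block Cfsg.Agent.Lib.DihBlock

universe u

variable {G : Type u} [Group G] [Finite G]

/-- The order of a simple group with a self-centralizing element of order four. -/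
theorem card_of_self_cent [IsSimpleGroup G] {x : G} (hx : orderOf x = 4)
    (hC : ∀ g, Commute g x → g ∈ zpowers x) :
    Nat.card G = 168 ∨ Nat.card G = 360 ∨ Nat.card G = 2520 := by
  classical
  letI : Fintype G := Fintype.ofFinite G
  haveI : Fact (Nat.Prime 2) := ⟨Nat.prime_two⟩
  have hxp : IsPGroup 2 (zpowers x) := IsPGroup.of_card (n := 2) (by
    rw [Nat.card_zpowers, hx]
    norm_num)
  obtain ⟨S, hS⟩ := hxp.exists_le_sylow
  have hxS : x ∈ (S : Subgroup G) := hS (mem_zpowers x)
  set y₀ : (S : Subgroup G) := ⟨x, hxS⟩ with hy₀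
  set H : Subgroup (S : Subgroup G) := zpowers y₀ with hH
  have hoy₀ : orderOf y₀ = 4 := by
    rw [hy₀, Subgroup.orderOf_mk, hx]
  have hCX : ∀ g : (S : Subgroup G), Commute g y₀ → g ∈ H := by
    intro g hg
    have h1 : (g : G) ∈ zpowers x := hC g (congrArg Subtype.val hg)
    obtain ⟨k, hk⟩ := mem_zpowers_iff.mp h1
    refine mem_zpowers_iff.mpr ⟨k, Subtype.ext ?_⟩
    simpa [hy₀] using hk
  have hHcard : Nat.card H = 4 := by
    rw [hH, Nat.card_zpowers, hoy₀]
  by_cases htop : H = ⊤
  · exfalso
    refine false_of_cyclic hx ?_ hxS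
    intro y hy
    have h1 : (⟨y, hy⟩ : (S : Subgroup G)) ∈ H := by
      rw [htop]
      trivial
    obtain ⟨k, hk⟩ := mem_zpowers_iff.mp h1
    refine mem_zpowers_iff.mpr ⟨k, ?_⟩
    have h2 := congrArg Subtype.val hk
    simpa [hy₀] using h2
  have hlt : H < ⊤ := lt_top_iff_ne_top.mpr htop
  have hpX : IsPGroup 2 (S : Subgroup G) := S.isPGroup'
  haveI hnil : Group.IsNilpotent (S : Subgroup G) := hpX.isNilpotent
  have hnc := Group.normalizerCondition_of_isNilpotent (G := (S : Subgroup G))
  have hltB : H < normalizer (H : Set (S : Subgroup G)) := hnc H hlt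
  set B : Subgroup (S : Subgroup G) := normalizer (H : Set (S : Subgroup G)) with hB
  have hHB : H ≤ B := hltB.le
  have hy₀B : y₀ ∈ B := hHB (mem_zpowers y₀)
  -- the order of `B`
  have hB8 : Nat.card B = 8 := by
    have h3 : Nat.card H.normalizerMonoidHom.ker * Nat.card H.normalizerMonoidHom.range = Nat.card B := by
      rw [← Subgroup.index_ker, Subgroup.card_mul_index]
    have h4 : Nat.card H.normalizerMonoidHom.ker ≤ 4 := by
      rw [← hHcard]
      have hmem : ∀ y : H.normalizerMonoidHom.ker,
          ((y : normalizer (H : Set (S : Subgroup G))) : (S : Subgroup G)) ∈ H := by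
        intro y
        have h5 : (y : normalizer (H : Set (S : Subgroup G))) ∈
            (centralizer (H : Set (S : Subgroup G))).subgroupOf (normalizer (H : Set (S : Subgroup G))) := by
          rw [← Subgroup.normalizerMonoidHom_ker]
          exact y.2
        rw [Subgroup.mem_subgroupOf] at h5
        have h6 := Subgroup.mem_centralizer_iff.mp h5 y₀ (mem_zpowers y₀)
        exact hCX _ h6.symm
      refine Nat.card_le_card_of_injective (fun y => ⟨_, hmem y⟩) ?_
      intro y w e
      have e' : ((y : normalizer (H : Set (S : Subgroup G))) : (S : Subgroup G)) =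
          ((w : normalizer (H : Set (S : Subgroup G))) : (S : Subgroup G)) :=
        congrArg (fun c : H => (c : (S : Subgroup G))) e
      exact Subtype.ext (Subtype.ext e')
    have h5 : Nat.card H.normalizerMonoidHom.range ≤ 2 := by
      haveI : IsCyclic H := by
        rw [hH]
        infer_instance
      have h6 : Nat.card (MulAut H) = 2 := by
        rw [IsCyclic.card_mulAut, hHcard]
        decide
      exact (Subgroup.card_le_card_group _).trans_eq h6
    have h6 : Nat.card B ≤ 8 := by
      rw [← h3]
      exact Nat.mul_le_mul h4 h5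
    have h7 : 4 ∣ Nat.card B := by
      rw [← hHcard]
      exact Subgroup.card_dvd_of_le hHB
    have h8 : 4 < Nat.card B := by
      by_contra hcon
      have h9 : H = B := Subgroup.eq_of_le_of_card_ge hHB (by omega)
      exact hltB.ne h9
    omega
  obtain ⟨n, hn⟩ := IsPGroup.iff_card.mp hpX
  have hn3 : 3 ≤ n := by
    have h1 : Nat.card B ∣ 2 ^ n := by
      rw [← hn]
      exact Subgroup.card_subgroup_dvd_card B
    rw [hB8] at h1
    have h2 : 2 ^ 3 ∣ 2 ^ n := h1
    exact (Nat.pow_dvd_pow_iff_le_right (by norm_num)).mp h2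
  have hna : ¬ IsMulCommutative B := by
    intro hc
    obtain ⟨s, hsB, hsH⟩ := SetLike.exists_of_lt hltB
    apply hsH
    apply hCX
    have h1 := hc.is_comm.comm (⟨s, hsB⟩ : B) ⟨y₀, hy₀B⟩
    exact congrArg Subtype.val h1
  have hCB : centralizer (B : Set (S : Subgroup G)) ≤ B := by
    intro g hg
    apply hHB
    apply hCX
    exact ((Subgroup.mem_centralizer_iff.mp hg) y₀ hy₀B).symm
  have hcl := Cfsg.Agent.S4143.result (p := 2) n hn B (by rw [hB8]; norm_num) hna hCB
  have hK := (Cfsg.Agent.S0115.result n hn3 hn).mp hcl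
  have hsimp : ∀ N : Subgroup G, N.Normal → Odd (Nat.card N) → N = ⊥ := by
    intro N hN hodd
    rcases hN.eq_bot_or_eq_top with h | h
    · exact h
    · exfalso
      rw [h, Subgroup.card_top] at hodd
      have h1 : orderOf x ∣ Nat.card G := orderOf_dvd_natCard x
      rw [hx] at h1
      obtain ⟨c, hc⟩ := h1
      rw [hc] at hodd
      exact (Nat.not_odd_iff_even.mpr (Even.mul_right (by decide) c)) hodd
  rcases Cfsg.Agent.S4399.result hpX hK.card_four (fun y => by
      have h7 : Monoid.exponent (Abelianization (S : Subgroup G)) = 2 := hK.exponent_two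
      have := Monoid.pow_exponent_eq_one y
      rwa [h7] at this) with
    h4 | ⟨k, ⟨e⟩⟩ | ⟨k, hk, a, b, ha, hb, hr⟩ | ⟨k, ⟨e⟩⟩
  · exfalso
    have h1 : Nat.card B ≤ Nat.card (S : Subgroup G) := Subgroup.card_le_card_group B
    omega
  · have hm : 4 ≤ 2 ^ (k + 2) := by
      rw [pow_add]
      have : 0 < 2 ^ k := by positivity
      omega
    obtain ⟨t, ht⟩ := hyp_of_iso hxS hx hC hm e
    exact ht.card_of_hyp
  · exfalso
    have hpos : 0 < 2 ^ k := by positivity
    have D : SDData S (a : G) (b : G) (2 ^ (k + 2)) := by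
      refine ⟨a.2, b.2, ?_, ?_, ?_, ?_, ?_, ?_⟩
      · rw [pow_add]
        omega
      · exact (Nat.even_pow.mpr ⟨even_two, by omega⟩)
      · rw [hk, pow_add, pow_add]
        ring
      · rw [Subgroup.orderOf_coe, ha, pow_add, pow_add]
        ring
      · rw [Subgroup.orderOf_coe, hb]
      · exact congrArg Subtype.val hr
    exact false_of_sd D hxS hx hC
  · exfalso
    have h1 := Cfsg.Agent.S0201.result S k e hsimp
    have h2 : (center G).Normal := inferInstance
    rcases h2.eq_bot_or_eq_top with h | h
    · rw [h, Subgroup.card_bot] at h1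
      omega
    · rw [h, Subgroup.card_top] at h1
      have h3 : orderOf x ∣ Nat.card G := orderOf_dvd_natCard x
      rw [hx, h1] at h3
      omega

end Cfsg.Agent.Lib.Cent4
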