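import Cfsg.Agent.Lib.Cent4.D8Main
import Cfsg.Agent.Lib.InvolChar.TransferTwo

/-!
# A semidihedral Sylow subgroup is impossible
-/

set_option autoImplicit false
set_option linter.unusedSectionVars false
set_option linter.style.haveILetI false
set_option linter.unusedVariables false

namespace Cfsg.Agent.Lib.Cent4

open Cfsg Subgroup
open Cfsg.Agent.Lib.V4Block Cfsg.Agent.Lib.DihBlock

universe u

variable {G : Type u} [Group G] [Finite G]

/-- A normal subgroup of index at most two missing an element of order four contradicts simplicity. -/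
theorem false_of_ker [IsSimpleGroup G] {x : G} (hx : orderOf x = 4) {K : Subgroup G} (hK : K.Normal)
    (hidx : K.index ∣ 2) (hxK : x ∉ K) : False := by
  rcases hK.eq_bot_or_eq_top with h | h
  · rw [h, Subgroup.index_bot] at hidx
    have h1 : orderOf x ∣ Nat.card G := orderOf_dvd_natCard x
    rw [hx] at h1
    have := h1.trans hidx
    omega
  · exact hxK (by rw [h]; trivial)

/-- The order of a subgroup in terms of a larger one. -/
theorem card_eq_mul_relIndex {T S : Subgroup G} (h : T ≤ S) :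
    Nat.card S = Nat.card T * T.relIndex S := by
  have h1 := Subgroup.card_mul_index (T.subgroupOf S)
  rw [← h1]
  congr 1
  exact Nat.card_congr (Subgroup.subgroupOfEquivOfLe h).toEquiv

section SD

variable {S : Sylow 2 G} {x a b : G} {q : ℕ}

/-- The data of a semidihedral group. -/
structure SDData (S : Sylow 2 G) (a b : G) (q : ℕ) : Prop where
  haS : a ∈ (S : Subgroup G)
  hbS : b ∈ (S : Subgroup G)
  hq4 : 4 ≤ q
  hqe : Even q
  hcard : Nat.card (S : Subgroup G) = 4 * q
  ha : orderOf a = 2 * q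
  hb : orderOf b = 2
  hrel : b * a * b⁻¹ = a ^ (q - 1)

namespace SDData

variable (D : SDData S a b q)
include D

theorem bb : b * b = 1 := mul_self_of_orderOf_two D.hb

theorem binv : b⁻¹ = b := inv_eq_of_mul_eq_one_left D.bb

theorem conj_pow' (i : ℕ) : b * a ^ i * b⁻¹ = a ^ (i * (q - 1)) := by
  rw [← _root_.conj_pow, D.hrel, ← pow_mul, mul_comm]

theorem ba_pow (i : ℕ) : b * a ^ i = a ^ (i * (q - 1)) * b := by
  rw [← D.conj_pow' i]
  group

theorem b_notMem : b ∉ zpowers a := by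
  intro hb
  have hc : Commute b a := by
    obtain ⟨k, rfl⟩ := mem_zpowers_iff.mp hb
    exact (Commute.refl a).zpow_left k
  have h1 : a = a ^ (q - 1) := by
    rw [← D.hrel, hc.eq]
    group
  have h2 : a ^ (q - 2) = 1 := by
    have hq := D.hq4
    have e : q - 1 = (q - 2) + 1 := by omega
    rw [e, pow_succ] at h1
    exact (mul_eq_right.mp h1.symm)
  have h3 : 2 * q ∣ q - 2 := by
    rw [← D.ha]
    exact orderOf_dvd_of_pow_eq_one h2
  have h4 := Nat.le_of_dvd (by have := D.hq4; omega) h3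
  have := D.hq4
  omega

/-- The normal form of the elements of `S`. -/
theorem normal_form {y : G} (hy : y ∈ (S : Subgroup G)) : ∃ i : ℕ, y = a ^ i ∨ y = a ^ i * b := by
  have hT : zpowers a ≤ (S : Subgroup G) := by
    rw [Subgroup.zpowers_le]
    exact D.haS
  have h1 := card_eq_mul_relIndex hT
  rw [D.hcard, Nat.card_zpowers, D.ha] at h1
  have hq := D.hq4
  have hidx : (zpowers a).relIndex (S : Subgroup G) = 2 := by
    have h2 : (2 * q) * 2 = (2 * q) * (zpowers a).relIndex (S : Subgroup G) := by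
      rw [← h1]
      ring
    exact (Nat.eq_of_mul_eq_mul_left (by omega) h2).symm
  have hidx' : ((zpowers a).subgroupOf (S : Subgroup G)).index = 2 := hidx
  have hpow : ∀ z ∈ zpowers a, ∃ i : ℕ, z = a ^ i := by
    intro z hz
    have := (isOfFinOrder_of_finite a).mem_powers_iff_mem_zpowers.mpr hz
    obtain ⟨i, hi⟩ := this
    exact ⟨i, hi.symm⟩
  by_cases h : y ∈ zpowers a
  · obtain ⟨i, hi⟩ := hpow y h
    exact ⟨i, Or.inl hi⟩
  · have h3 := (Subgroup.mul_mem_iff_of_index_two hidx' (a := ⟨y, hy⟩) (b := ⟨b, D.hbS⟩)).mpr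
      ⟨fun h4 => absurd (Subgroup.mem_subgroupOf.mp h4) h,
       fun h4 => absurd (Subgroup.mem_subgroupOf.mp h4) D.b_notMem⟩
    have h4 : y * b ∈ zpowers a := Subgroup.mem_subgroupOf.mp h3
    obtain ⟨i, hi⟩ := hpow _ h4
    refine ⟨i, Or.inr ?_⟩
    rw [← hi, mul_assoc, D.bb, mul_one]

theorem pow_par {i j : ℕ} (h : a ^ i = a ^ j) : Even i ↔ Even j := by
  have h1 : i ≡ j [MOD orderOf a] := (pow_eq_pow_iff_modEq).mp h
  rw [D.ha] at h1
  have h2 : i ≡ j [MOD 2] := h1.of_mul_right q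
  rw [Nat.even_iff, Nat.even_iff]
  rw [h2]

theorem sq_rev (i : ℕ) : (a ^ i * b) * (a ^ i * b) = a ^ (i * q) := by
  have hq := D.hq4
  calc (a ^ i * b) * (a ^ i * b) = a ^ i * (b * a ^ i) * b := by group
    _ = a ^ i * (a ^ (i * (q - 1)) * b) * b := by rw [D.ba_pow]
    _ = a ^ i * a ^ (i * (q - 1)) * (b * b) := by group
    _ = a ^ (i + i * (q - 1)) := by rw [D.bb, mul_one, pow_add]
    _ = a ^ (i * q) := by
      congr 1
      obtain ⟨r, hr⟩ : ∃ r, q = r + 1 := ⟨q - 1, by omega⟩
      subst hr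
      simp only [Nat.add_sub_cancel]
      ring

end SDData

/-- The index two subgroup. -/
def QQ₀ (D : SDData S a b q) : Subgroup G where
  carrier := {y | ∃ i : ℕ, Even i ∧ (y = a ^ i ∨ y = a ^ i * b)}
  mul_mem' := by
    rintro y w ⟨i, hi, rfl | rfl⟩ ⟨j, hj, rfl | rfl⟩
    · exact ⟨i + j, hi.add hj, Or.inl (pow_add a i j).symm⟩
    · refine ⟨i + j, hi.add hj, Or.inr ?_⟩
      rw [pow_add, mul_assoc]
    · refine ⟨i + j * (q - 1), hi.add (hj.mul_right _), Or.inr ?_⟩
      rw [pow_add, mul_assoc (a ^ i), D.ba_pow, mul_assoc]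
    · refine ⟨i + j * (q - 1), hi.add (hj.mul_right _), Or.inl ?_⟩
      calc a ^ i * b * (a ^ j * b) = a ^ i * (b * a ^ j) * b := by group
        _ = a ^ i * (a ^ (j * (q - 1)) * b) * b := by rw [D.ba_pow]
        _ = a ^ i * a ^ (j * (q - 1)) * (b * b) := by group
        _ = _ := by rw [D.bb, mul_one, pow_add]
  one_mem' := ⟨0, Even.zero, Or.inl (pow_zero a).symm⟩
  inv_mem' := by
    rintro y hy
    have hc : ∀ n : ℕ, ∀ w, (∃ i : ℕ, Even i ∧ (w = a ^ i ∨ w = a ^ i * b)) →
        ∃ i : ℕ, Even i ∧ (w ^ n = a ^ i ∨ w ^ n = a ^ i * b) := by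
      intro n
      induction n with
      | zero =>
        intro w _
        exact ⟨0, Even.zero, Or.inl (by simp)⟩
      | succ n ih =>
        intro w hw
        obtain ⟨i, hi, h1⟩ := ih w hw
        obtain ⟨j, hj, h2⟩ := hw
        rw [pow_succ]
        rcases h1 with h1 | h1 <;> rcases h2 with h2 | h2 <;> rw [h1] <;> nth_rw 1 [h2] <;> rw [h2]
        · exact ⟨i + j, hi.add hj, Or.inl (pow_add a i j).symm⟩
        · refine ⟨i + j, hi.add hj, Or.inr ?_⟩
          rw [pow_add, mul_assoc]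
        · refine ⟨i + j * (q - 1), hi.add (hj.mul_right _), Or.inr ?_⟩
          rw [pow_add, mul_assoc (a ^ i), D.ba_pow, mul_assoc]
        · refine ⟨i + j * (q - 1), hi.add (hj.mul_right _), Or.inl ?_⟩
          calc a ^ i * b * (a ^ j * b) = a ^ i * (b * a ^ j) * b := by group
            _ = a ^ i * (a ^ (j * (q - 1)) * b) * b := by rw [D.ba_pow]
            _ = a ^ i * a ^ (j * (q - 1)) * (b * b) := by group
            _ = _ := by rw [D.bb, mul_one, pow_add]
    have h1 : y⁻¹ = y ^ (orderOf y - 1) := by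
      rw [inv_eq_iff_mul_eq_one, ← pow_succ']
      have h2 : 0 < orderOf y := (isOfFinOrder_of_finite y).orderOf_pos
      have h3 : orderOf y - 1 + 1 = orderOf y := by omega
      rw [h3, pow_orderOf_eq_one]
    rw [h1]
    exact hc _ y hy

theorem mem_QQ₀ (D : SDData S a b q) {y : G} :
    y ∈ QQ₀ D ↔ ∃ i : ℕ, Even i ∧ (y = a ^ i ∨ y = a ^ i * b) := Iff.rfl

theorem QQ₀_le (D : SDData S a b q) : QQ₀ D ≤ (S : Subgroup G) := by
  rintro y ⟨i, -, rfl | rfl⟩
  · exact pow_mem D.haS i
  · exact (S : Subgroup G).mul_mem (pow_mem D.haS i) D.hbS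

theorem pow_mem_QQ₀_iff (D : SDData S a b q) (i : ℕ) : a ^ i ∈ QQ₀ D ↔ Even i := by
  constructor
  · rintro ⟨j, hj, h | h⟩
    · exact (D.pow_par h).mpr hj
    · exfalso
      apply D.b_notMem
      have h1 : b = (a ^ j)⁻¹ * a ^ i := by
        rw [h]
        group
      rw [h1]
      exact (zpowers a).mul_mem ((zpowers a).inv_mem (pow_mem (mem_zpowers a) j))
        (pow_mem (mem_zpowers a) i)
  · intro h
    exact ⟨i, h, Or.inl rfl⟩

theorem pow_mul_mem_QQ₀_iff (D : SDData S a b q) (i : ℕ) : a ^ i * b ∈ QQ₀ D ↔ Even i := by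
  constructor
  · rintro ⟨j, hj, h | h⟩
    · exfalso
      apply D.b_notMem
      have h1 : b = (a ^ i)⁻¹ * a ^ j := by
        rw [← h]
        group
      rw [h1]
      exact (zpowers a).mul_mem ((zpowers a).inv_mem (pow_mem (mem_zpowers a) i))
        (pow_mem (mem_zpowers a) j)
    · exact (D.pow_par (mul_right_cancel h)).mpr hj
  · intro h
    exact ⟨i, h, Or.inr rfl⟩

theorem relIndex_QQ₀ (D : SDData S a b q) : (QQ₀ D).relIndex (S : Subgroup G) = 2 := by
  show ((QQ₀ D).subgroupOf (S : Subgroup G)).index = 2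
  refine Subgroup.index_eq_two_iff'.mpr ⟨⟨a, D.haS⟩, fun y => ?_⟩
  rw [Subgroup.mem_subgroupOf, Subgroup.mem_subgroupOf]
  show Xor (a * (y : G) ∈ QQ₀ D) ((y : G) ∈ QQ₀ D)
  obtain ⟨i, hi | hi⟩ := D.normal_form y.2
  · rw [hi, ← pow_succ', pow_mem_QQ₀_iff, pow_mem_QQ₀_iff]
    by_cases h : Even i
    · exact Or.inr ⟨h, by simpa [Nat.even_add_one] using h⟩
    · exact Or.inl ⟨by simpa [Nat.even_add_one] using h, h⟩
  · rw [hi, ← mul_assoc, ← pow_succ', pow_mul_mem_QQ₀_iff, pow_mul_mem_QQ₀_iff]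
    by_cases h : Even i
    · exact Or.inr ⟨h, by simpa [Nat.even_add_one] using h⟩
    · exact Or.inl ⟨by simpa [Nat.even_add_one] using h, h⟩

/-- Elements outside have order greater than two. -/
theorem ord_QQ₀ (D : SDData S a b q) {y : G} (hy : y ∈ (S : Subgroup G)) (hQ : y ∉ QQ₀ D) :
    2 ^ (2 - 1) < orderOf y := by
  have hq := D.hq4
  have key : y * y ≠ 1 := by
    intro e
    obtain ⟨i, hi | hi⟩ := D.normal_form hy
    · subst hi
      rw [pow_mem_QQ₀_iff] at hQ
      have h1 : orderOf a ∣ i + i := by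
        apply orderOf_dvd_of_pow_eq_one
        rw [pow_add]
        exact e
      rw [D.ha] at h1
      apply hQ
      obtain ⟨c, hc⟩ := h1
      obtain ⟨r, hr⟩ := D.hqe
      exact ⟨r * c, by nlinarith⟩
    · subst hi
      rw [pow_mul_mem_QQ₀_iff] at hQ
      rw [D.sq_rev] at e
      have h1 : orderOf a ∣ i * q := orderOf_dvd_of_pow_eq_one e
      rw [D.ha] at h1
      have h2 : 2 ∣ i := Nat.dvd_of_mul_dvd_mul_right (by omega) h1
      exact hQ (even_iff_two_dvd.mpr h2)
  have h0 : 0 < orderOf y := (isOfFinOrder_of_finite y).orderOf_pos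
  by_contra hle
  have h2 : orderOf y ≤ 2 := by
    simpa using hle
  have h3 : y ^ orderOf y = 1 := pow_orderOf_eq_one y
  interval_cases h4 : orderOf y
  · rw [pow_one] at h3
    apply key
    rw [h3, one_mul]
  · apply key
    rw [← pow_two]
    exact h3

/-- The semidihedral case is impossible. -/
theorem false_of_sd [IsSimpleGroup G] (D : SDData S a b q) {x : G} (hxS : x ∈ (S : Subgroup G))
    (hx : orderOf x = 4) (hC : ∀ g, Commute g x → g ∈ zpowers x) : False := by
  classical
  letI : Fintype G := Fintype.ofFinite G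
  have hq := D.hq4
  obtain ⟨K, hKn, hKi, hK⟩ := Cfsg.Agent.Lib.InvolChar.TransferTwo.exists_ker_transfer S (QQ₀ D) (QQ₀_le D)
    (relIndex_QQ₀ D) 2 (fun y hy hQ => ord_QQ₀ D hy hQ)
  refine false_of_ker hx hKn hKi (hK x hxS (by rw [hx]; norm_num) ?_)
  rintro g ⟨i, hi, h | h⟩
  · have h1 : Commute (g⁻¹ * a * g) x := by
      have h2 : Commute a (g * x * g⁻¹) := by
        rw [h]
        exact (Commute.refl a).pow_right i
      have h3 : g⁻¹ * a * g * x = x * (g⁻¹ * a * g) := by
        have h4 : a * (g * x * g⁻¹) = (g * x * g⁻¹) * a := h2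
        calc g⁻¹ * a * g * x = g⁻¹ * (a * (g * x * g⁻¹)) * g := by group
          _ = g⁻¹ * ((g * x * g⁻¹) * a) * g := by rw [h4]
          _ = x * (g⁻¹ * a * g) := by group
      exact h3
    have h2 := orderOf_dvd_of_mem_zpowers (hC _ h1)
    have h3 : orderOf (g⁻¹ * a * g) = orderOf a := by
      have := orderOf_conj_eq (G := G) g⁻¹ a
      rwa [inv_inv] at this
    rw [h3, D.ha, hx] at h2
    have := Nat.le_of_dvd (by norm_num) h2
    omega
  · have h1 : (a ^ i * b) * (a ^ i * b) = 1 := by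
      rw [D.sq_rev]
      obtain ⟨r, hr⟩ := hi
      have h2 : i * q = orderOf a * r := by
        rw [D.ha, hr]
        ring
      rw [h2, pow_mul, pow_orderOf_eq_one, one_pow]
    rw [← h] at h1
    have h2 : orderOf (g * x * g⁻¹) ∣ 2 := by
      apply orderOf_dvd_of_pow_eq_one
      rw [pow_two]
      exact h1
    rw [orderOf_conj_eq, hx] at h2
    omega

end SD

end Cfsg.Agent.Lib.Cent4
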