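import Cfsg.Agent.Lib.Cent4.KSum
import Cfsg.Agent.Lib.Char.ClassProd
import Cfsg.Agent.Lib.Char.Linear
import Cfsg.Agent.Lib.ZStar.EC.Rep

/-!
# The values of the principal block on the cyclic subgroup of order four
-/

set_option autoImplicit false
set_option linter.unusedSectionVars false
set_option linter.style.haveILetI false
set_option linter.unusedVariables false

namespace Cfsg.Agent.Lib.Cent4

open Cfsg Subgroup Finset
open Cfsg.Agent.Lib.V4Block Cfsg.Agent.Lib.DihBlock Cfsg.Agent.Lib.Blocks.Third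
open Cfsg.Agent.Lib.Char.Basic Cfsg.Agent.Lib.Char.Ortho Cfsg.Agent.Lib.Char.Degree
open Cfsg.Agent.Lib.Char.Complete Cfsg.Agent.Lib.Char.ClassSum Cfsg.Agent.Lib.Char.ClassProd
open scoped ComplexConjugate

universe u

variable {G : Type u} [Group G] [Fintype G] [Fintype (IrrCharacter G)]
variable {P : Sylow 2 G} {σ τ : G} {M : Ideal AlgInt} [Fintype (Idx M G)]
variable {δ s₂ s₃ : ℤ} {r₁ r₂ r₃ : Idx M G} {p : Fin (4 / 2 - 1) → Idx M G}

theorem sign_sq {s : ℤ} (hs : s = 1 ∨ s = -1) : (s : ℂ) * s = 1 := by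
  rcases hs with rfl | rfl <;> norm_num

theorem sign_conj (s : ℤ) : conj (s : ℂ) = s := map_intCast _ s

theorem val₁_one (hT : DTable M σ Complex.I 4 δ s₂ s₃ r₁ r₂ r₃ p) :
    (r₁.1 : G → ℂ) σ = δ := by
  simpa using hT.val₁ 1 (by norm_num) (by norm_num)

theorem val₁_two (hT : DTable M σ Complex.I 4 δ s₂ s₃ r₁ r₂ r₃ p) :
    (r₁.1 : G → ℂ) (σ ^ 2) = δ := hT.val₁ 2 (by norm_num) (by norm_num)

theorem val₁_three (hT : DTable M σ Complex.I 4 δ s₂ s₃ r₁ r₂ r₃ p) :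
    (r₁.1 : G → ℂ) (σ ^ 3) = δ := hT.val₁ 3 (by norm_num) (by norm_num)

theorem val₂_one (hT : DTable M σ Complex.I 4 δ s₂ s₃ r₁ r₂ r₃ p) :
    (r₂.1 : G → ℂ) σ = -s₂ := by
  simpa using hT.val₂ 1 (by norm_num) (by norm_num)

theorem val₂_two (hT : DTable M σ Complex.I 4 δ s₂ s₃ r₁ r₂ r₃ p) :
    (r₂.1 : G → ℂ) (σ ^ 2) = s₂ := by
  simpa using hT.val₂ 2 (by norm_num) (by norm_num)

theorem val₂_three (hT : DTable M σ Complex.I 4 δ s₂ s₃ r₁ r₂ r₃ p) :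
    (r₂.1 : G → ℂ) (σ ^ 3) = -s₂ := by
  have := hT.val₂ 3 (by norm_num) (by norm_num)
  rw [this]
  have e : ((-1 : ℂ)) ^ 3 = -1 := by norm_num
  rw [e]
  ring

theorem val₃_one (hT : DTable M σ Complex.I 4 δ s₂ s₃ r₁ r₂ r₃ p) :
    (r₃.1 : G → ℂ) σ = -s₃ := by
  simpa using hT.val₃ 1 (by norm_num) (by norm_num)

theorem val₃_two (hT : DTable M σ Complex.I 4 δ s₂ s₃ r₁ r₂ r₃ p) :
    (r₃.1 : G → ℂ) (σ ^ 2) = s₃ := by
  simpa using hT.val₃ 2 (by norm_num) (by norm_num)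

theorem val₃_three (hT : DTable M σ Complex.I 4 δ s₂ s₃ r₁ r₂ r₃ p) :
    (r₃.1 : G → ℂ) (σ ^ 3) = -s₃ := by
  have := hT.val₃ 3 (by norm_num) (by norm_num)
  rw [this]
  have e : ((-1 : ℂ)) ^ 3 = -1 := by norm_num
  rw [e]
  ring

/-- Only four irreducible characters do not vanish at `σ`. -/
theorem cover_of_ne (hT : DTable M σ Complex.I 4 δ s₂ s₃ r₁ r₂ r₃ p)
    (hc : Nat.card (centralizer ({σ} : Set G)) = 4) (χ : IrrCharacter G)
    (hχ : (χ : G → ℂ) σ ≠ 0) :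
    χ = oneI G ∨ χ = r₁.1 ∨ χ = r₂.1 ∨ χ = r₃.1 := by
  classical
  have hs := sum_irr_mul_conj σ σ
  rw [if_pos (IsConj.refl σ), hc] at hs
  have hR : ∑ χ : IrrCharacter G, Complex.normSq ((χ : G → ℂ) σ) = 4 := by
    have h1 : ((∑ χ : IrrCharacter G, Complex.normSq ((χ : G → ℂ) σ) : ℝ) : ℂ) = 4 := by
      push_cast
      rw [← Nat.cast_ofNat, ← hs]
      refine Finset.sum_congr rfl fun χ _ => ?_
      rw [Complex.mul_conj]
    exact_mod_cast h1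
  by_contra hcon
  push Not at hcon
  obtain ⟨h1, h2, h3, h4⟩ := hcon
  have hone : ∀ y : Idx M G, (y.1 : G → ℂ) ≠ (fun _ => 1) → y.1 ≠ oneI G := by
    intro y hy e
    apply hy
    rw [e]
    rfl
  have h12 : r₁.1 ≠ r₂.1 := fun e => hT.r₁₂ (Subtype.ext e)
  have h13 : r₁.1 ≠ r₃.1 := fun e => hT.r₁₃ (Subtype.ext e)
  have h23 : r₂.1 ≠ r₃.1 := fun e => hT.r₂₃ (Subtype.ext e)
  set S : Finset (IrrCharacter G) := {χ, oneI G, r₁.1, r₂.1, r₃.1} with hS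
  have hsum : ∑ y ∈ S, Complex.normSq ((y : G → ℂ) σ) =
      Complex.normSq ((χ : G → ℂ) σ) + (1 + (1 + (1 + 1))) := by
    rw [hS, Finset.sum_insert, Finset.sum_insert, Finset.sum_insert, Finset.sum_insert,
      Finset.sum_singleton, oneI_apply, val₁_one hT, val₂_one hT, val₃_one hT]
    · have e1 : Complex.normSq (1 : ℂ) = 1 := by simp
      have e2 : ∀ s : ℤ, (s = 1 ∨ s = -1) → Complex.normSq (s : ℂ) = 1 := by
        intro s hs
        rcases hs with rfl | rfl <;> simp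
      have e3 : ∀ s : ℤ, (s = 1 ∨ s = -1) → Complex.normSq (-(s : ℂ)) = 1 := by
        intro s hs
        rcases hs with rfl | rfl <;> simp
      rw [e1, e2 _ hT.hδ, e3 _ hT.hs₂, e3 _ hT.hs₃]
    · simpa using h23
    · simp only [Finset.mem_insert, Finset.mem_singleton, not_or]
      exact ⟨h12, h13⟩
    · simp only [Finset.mem_insert, Finset.mem_singleton, not_or]
      exact ⟨(hone r₁ hT.r₁i).symm, (hone r₂ hT.r₂i).symm, (hone r₃ hT.r₃i).symm⟩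
    · simp only [Finset.mem_insert, Finset.mem_singleton, not_or]
      exact ⟨h1, h2, h3, h4⟩
  have hle : ∑ y ∈ S, Complex.normSq ((y : G → ℂ) σ) ≤
      ∑ y : IrrCharacter G, Complex.normSq ((y : G → ℂ) σ) :=
    Finset.sum_le_sum_of_subset_of_nonneg (Finset.subset_univ S) (fun _ _ _ => Complex.normSq_nonneg _)
  rw [hsum, hR] at hle
  have hpos : 0 < Complex.normSq ((χ : G → ℂ) σ) := Complex.normSq_pos.mpr hχ
  linarith

/-- A sum over the irreducible characters of a function vanishing when `χ(σ) = 0`. -/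
theorem sum_four (hT : DTable M σ Complex.I 4 δ s₂ s₃ r₁ r₂ r₃ p)
    (hc : Nat.card (centralizer ({σ} : Set G)) = 4) (F : IrrCharacter G → ℂ)
    (hF : ∀ χ : IrrCharacter G, (χ : G → ℂ) σ = 0 → F χ = 0) :
    ∑ χ : IrrCharacter G, F χ = F (oneI G) + F r₁.1 + F r₂.1 + F r₃.1 := by
  classical
  have hone : ∀ y : Idx M G, (y.1 : G → ℂ) ≠ (fun _ => 1) → y.1 ≠ oneI G := by
    intro y hy e
    apply hy
    rw [e]
    rfl
  have h12 : r₁.1 ≠ r₂.1 := fun e => hT.r₁₂ (Subtype.ext e)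
  have h13 : r₁.1 ≠ r₃.1 := fun e => hT.r₁₃ (Subtype.ext e)
  have h23 : r₂.1 ≠ r₃.1 := fun e => hT.r₂₃ (Subtype.ext e)
  have hsub : ({oneI G, r₁.1, r₂.1, r₃.1} : Finset (IrrCharacter G)) ⊆ Finset.univ :=
    Finset.subset_univ _
  rw [← Finset.sum_subset hsub]
  · rw [Finset.sum_insert, Finset.sum_insert, Finset.sum_insert, Finset.sum_singleton]
    · ring
    · simpa using h23
    · simp only [Finset.mem_insert, Finset.mem_singleton, not_or]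
      exact ⟨h12, h13⟩
    · simp only [Finset.mem_insert, Finset.mem_singleton, not_or]
      exact ⟨(hone r₁ hT.r₁i).symm, (hone r₂ hT.r₂i).symm, (hone r₃ hT.r₃i).symm⟩
  · intro χ _ hχ
    apply hF
    by_contra hne
    apply hχ
    rcases cover_of_ne hT hc χ hne with h | h | h | h <;> simp [h]

/-- The relation between the degrees. -/
theorem deg_rel (hT : DTable M σ Complex.I 4 δ s₂ s₃ r₁ r₂ r₃ p) :
    1 + δ * (charDegree (r₁.1 : G → ℂ) : ℤ) - s₂ * (charDegree (r₂.1 : G → ℂ) : ℤ) -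
      s₃ * (charDegree (r₃.1 : G → ℂ) : ℤ) = 0 := by
  have h := hT.odd₂ 1 (by simp)
  have hd₁ : (r₁.1 : G → ℂ) 1 = (charDegree (r₁.1 : G → ℂ) : ℂ) :=
    (charDegree_natCast (isCharacter_of_isIrrCharacter r₁.1.2)).symm
  have hd₂ : (r₂.1 : G → ℂ) 1 = (charDegree (r₂.1 : G → ℂ) : ℂ) :=
    (charDegree_natCast (isCharacter_of_isIrrCharacter r₂.1.2)).symm
  have hd₃ : (r₃.1 : G → ℂ) 1 = (charDegree (r₃.1 : G → ℂ) : ℂ) :=
    (charDegree_natCast (isCharacter_of_isIrrCharacter r₃.1.2)).symm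
  rw [hd₁, hd₂, hd₃] at h
  have h2 : ((1 + δ * (charDegree (r₁.1 : G → ℂ) : ℤ) - s₂ * (charDegree (r₂.1 : G → ℂ) : ℤ) -
      s₃ * (charDegree (r₃.1 : G → ℂ) : ℤ) : ℤ) : ℂ) = 0 := by
    push_cast
    linear_combination -h
  exact_mod_cast h2

/-- The congruences modulo four. -/
theorem sum_cyclic (hσ : orderOf σ = 4) (χ : IrrCharacter G) :
    ∃ m : ℕ, (χ : G → ℂ) 1 + (χ : G → ℂ) σ + (χ : G → ℂ) (σ ^ 2) + (χ : G → ℂ) (σ ^ 3) = 4 * m := by
  classical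
  letI : Fintype (zpowers σ) := Fintype.ofFinite _
  obtain ⟨m, hm⟩ := Cfsg.Agent.Lib.ZStar.EC.exists_sum_eq χ (zpowers σ)
  refine ⟨m, ?_⟩
  have h1 := sum_zpowers (G := G) hσ (χ : G → ℂ)
  rw [h1] at hm
  rw [Nat.card_zpowers, hσ] at hm
  simp only [Finset.sum_range_succ, Finset.range_zero, Finset.sum_empty, pow_zero, pow_one,
    zero_add] at hm
  push_cast at hm
  exact hm

theorem cong₁ (hσ : orderOf σ = 4) (hT : DTable M σ Complex.I 4 δ s₂ s₃ r₁ r₂ r₃ p) :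
    ∃ s : ℤ, δ * (charDegree (r₁.1 : G → ℂ) : ℤ) = 1 - 4 * s := by
  obtain ⟨m, hm⟩ := sum_cyclic hσ r₁.1
  rw [val₁_one hT, val₁_two hT, val₁_three hT,
    ← charDegree_natCast (isCharacter_of_isIrrCharacter r₁.1.2)] at hm
  have h2 : (charDegree (r₁.1 : G → ℂ) : ℤ) + δ + δ + δ = 4 * m := by exact_mod_cast hm
  rcases hT.hδ with rfl | rfl
  · exact ⟨1 - (m : ℤ), by linarith⟩
  · exact ⟨(m : ℤ) + 1, by linarith⟩

theorem cong₂ (hσ : orderOf σ = 4) (hT : DTable M σ Complex.I 4 δ s₂ s₃ r₁ r₂ r₃ p) :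
    ∃ f : ℤ, -s₂ * (charDegree (r₂.1 : G → ℂ) : ℤ) = 4 * f - 1 := by
  obtain ⟨m, hm⟩ := sum_cyclic hσ r₂.1
  rw [val₂_one hT, val₂_two hT, val₂_three hT,
    ← charDegree_natCast (isCharacter_of_isIrrCharacter r₂.1.2)] at hm
  have h2 : (charDegree (r₂.1 : G → ℂ) : ℤ) - s₂ + s₂ - s₂ = 4 * m := by
    have : (((charDegree (r₂.1 : G → ℂ) : ℤ) - s₂ + s₂ - s₂ : ℤ) : ℂ) = ((4 * (m : ℤ) : ℤ) : ℂ) := by
      push_cast
      linear_combination hm
    exact_mod_cast this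
  rcases hT.hs₂ with rfl | rfl
  · exact ⟨-(m : ℤ), by linarith⟩
  · exact ⟨(m : ℤ) , by linarith⟩

theorem cong₃ (hσ : orderOf σ = 4) (hT : DTable M σ Complex.I 4 δ s₂ s₃ r₁ r₂ r₃ p) :
    ∃ f : ℤ, -s₃ * (charDegree (r₃.1 : G → ℂ) : ℤ) = 4 * f - 1 := by
  obtain ⟨m, hm⟩ := sum_cyclic hσ r₃.1
  rw [val₃_one hT, val₃_two hT, val₃_three hT,
    ← charDegree_natCast (isCharacter_of_isIrrCharacter r₃.1.2)] at hm
  have h2 : (charDegree (r₃.1 : G → ℂ) : ℤ) - s₃ + s₃ - s₃ = 4 * m := by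
    have : (((charDegree (r₃.1 : G → ℂ) : ℤ) - s₃ + s₃ - s₃ : ℤ) : ℂ) = ((4 * (m : ℤ) : ℤ) : ℂ) := by
      push_cast
      linear_combination hm
    exact_mod_cast this
  rcases hT.hs₃ with rfl | rfl
  · exact ⟨-(m : ℤ), by linarith⟩
  · exact ⟨(m : ℤ) , by linarith⟩

end Cfsg.Agent.Lib.Cent4
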